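import Groth.Agent.H81.RelProj.Chart
import Mathlib.AlgebraicGeometry.Sites.SmallAffineZariski

/-!
# Existence of the relative Proj
-/

set_option autoImplicit false
universe u

open CategoryTheory Limits AlgebraicGeometry Opposite TopologicalSpace
open scoped HomogeneousIdeal

namespace Groth.Agent.H81.RelProj.Exists

open Groth.Agent.Lib.RelProjBasics.Basic (chartStr)

noncomputable section

variable {Y : Scheme.{u}} (𝒮 : RelProj.QCGrAlg Y)

theorem irr_of_le {V U : Y.AffineZariskiSite} (h : V ≤ U) :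
    (𝒮.deg V.1 V.2)₊ ≤
      ((𝒮.deg U.1 U.2)₊).map (𝒮.res U.2 V.2 (Scheme.AffineZariskiSite.toOpens_mono h)) := by
  obtain ⟨V, hV⟩ := V
  obtain ⟨r, rfl : Y.basicOpen r = V⟩ := h
  exact 𝒮.irrelevant_le_map U.1 U.2 r

theorem map_congr {U V : Y.Opens} (hU : IsAffineOpen U) (hV : IsAffineOpen V)
    {ψ ψ' : 𝒮.deg U hU →+*ᵍ 𝒮.deg V hV} (e : ψ = ψ') (h h') : Proj.map ψ h = Proj.map ψ' h' := by
  subst e; rfl

theorem res_self {U : Y.Opens} (hU : IsAffineOpen U) : 𝒮.res hU hU le_rfl = .id _ :=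
  GradedRingHom.ext fun x => by
    rw [RelProj.QCGrAlg.res_apply, show (homOfLE (le_refl U)).op = 𝟙 (op U) from rfl, CategoryTheory.Functor.map_id]
    rfl

theorem res_comp {U V W : Y.Opens} (hU : IsAffineOpen U) (hV : IsAffineOpen V) (hW : IsAffineOpen W)
    (i : V ≤ U) (j : W ≤ V) : (𝒮.res hV hW j).comp (𝒮.res hU hV i) = 𝒮.res hU hW (j.trans i) :=
  GradedRingHom.ext fun x => by
    show (𝒮.presheaf.map (homOfLE j).op).hom ((𝒮.presheaf.map (homOfLE i).op).hom x) = _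
    rw [RelProj.QCGrAlg.res_apply, show (homOfLE (j.trans i)).op = (homOfLE i).op ≫ (homOfLE j).op from rfl,
      Functor.map_comp]
    rfl

/-- The functor `U ↦ Proj 𝒮(U)`. -/
def projFunctor : Y.AffineZariskiSite ⥤ Scheme.{u} where
  obj U := Proj (𝒮.deg U.1 U.2)
  map {V U} i := Proj.map _ (irr_of_le 𝒮 i.le)
  map_id U := (map_congr 𝒮 U.2 U.2 (res_self 𝒮 U.2) _ (by simp)).trans Proj.map_id
  map_comp {W V U} j i := by
    rw [← Proj.map_comp]
    exact map_congr 𝒮 U.2 W.2 (res_comp 𝒮 U.2 V.2 W.2 _ _).symm _ _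

theorem projMap_over {V U : Y.AffineZariskiSite} (i : V ⟶ U) :
    (projFunctor 𝒮).map i ≫ chartStr 𝒮 U.1 U.2 =
      chartStr 𝒮 V.1 V.2 ≫ Spec.map (Y.presheaf.map (homOfLE (Scheme.AffineZariskiSite.toOpens_mono i.le)).op) :=
  Chart.resMap_chartStr 𝒮 U.2 V.2 _ _

theorem resMap_toOpens {U V : Y.Opens} (hU : IsAffineOpen U) (hV : IsAffineOpen V) (i : V ≤ U) (hirr) :
    Chart.resMap 𝒮 hU hV i hirr ≫ chartStr 𝒮 U hU ≫ hU.isoSpec.inv =
      (chartStr 𝒮 V hV ≫ hV.isoSpec.inv) ≫ Y.homOfLE i := by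
  rw [← cancel_mono U.ι]
  simp only [Category.assoc, IsAffineOpen.isoSpec_inv_ι, Scheme.homOfLE_ι]
  rw [reassoc_of% Chart.resMap_chartStr 𝒮 hU hV i hirr, IsAffineOpen.map_fromSpec]

/-- The structure maps of the charts. -/
def toOpens (U : Y.AffineZariskiSite) : Proj (𝒮.deg U.1 U.2) ⟶ (U.1 : Scheme.{u}) :=
  chartStr 𝒮 U.1 U.2 ≫ U.2.isoSpec.inv

theorem projMap_toOpens {V U : Y.AffineZariskiSite} (i : V ⟶ U) :
    (projFunctor 𝒮).map i ≫ toOpens 𝒮 U =
      toOpens 𝒮 V ≫ Y.homOfLE (Scheme.AffineZariskiSite.toOpens_mono i.le) := by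
  exact resMap_toOpens 𝒮 U.2 V.2 _ _

/-- The gluing datum. -/
def glueData : (Scheme.AffineZariskiSite.directedCover Y).RelativeGluingData where
  functor := projFunctor 𝒮
  natTrans :=
    { app := toOpens 𝒮
      naturality := fun V U i => projMap_toOpens 𝒮 i }
  equifibered := by
    intro V U i
    obtain ⟨V, hV⟩ := V
    obtain ⟨r, rfl : Y.basicOpen r = V⟩ := i.le
    refine (IsOpenImmersion.isPullback (toOpens 𝒮 ⟨Y.basicOpen r, hV⟩) (Chart.ρ 𝒮 U.2 r)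
      (Y.homOfLE (Y.basicOpen_le r)) (toOpens 𝒮 U) (resMap_toOpens 𝒮 U.2 _ _ _) ?_).flip
    refine Eq.trans ?_ (Chart.preimage_eq_opensRange 𝒮 U.2 r)
    rw [toOpens, Scheme.Hom.comp_preimage]
    congr 1
    rw [Scheme.opensRange_homOfLE]
    rw [← U.2.fromSpec_preimage_basicOpen, ← U.2.isoSpec_inv_ι, Scheme.Hom.comp_preimage]

instance : (((glueData 𝒮).functor) ⋙ Scheme.forget).IsLocallyDirected :=
  Scheme.Cover.RelativeGluingData.instIsLocallyDirectedI₀CompFunctorForgetOfIsThin ..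

/-- The inclusion of a chart. -/
def ι (U : Y.Opens) (hU : IsAffineOpen U) : Proj (𝒮.deg U hU) ⟶ (glueData 𝒮).glued :=
  colimit.ι (glueData 𝒮).functor (⟨U, hU⟩ : Y.AffineZariskiSite)

instance (U : Y.Opens) (hU : IsAffineOpen U) : IsOpenImmersion (ι 𝒮 U hU) :=
  (glueData 𝒮).cover.map_prop _

theorem preimage_eq (U : Y.Opens) (hU : IsAffineOpen U) :
    (glueData 𝒮).toBase ⁻¹ᵁ U = (ι 𝒮 U hU).opensRange := by
  have := (glueData 𝒮).toBase_preimage_eq_opensRange_ι (⟨U, hU⟩ : Y.AffineZariskiSite)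
  rw [show ((Scheme.AffineZariskiSite.directedCover Y).f (⟨U, hU⟩ : Y.AffineZariskiSite)).opensRange = U from
    U.opensRange_ι] at this
  exact this

/-- The charts. -/
def chart (U : Y.Opens) (hU : IsAffineOpen U) :
    (((glueData 𝒮).toBase ⁻¹ᵁ U : _) : Scheme.{u}) ≅ Proj (𝒮.deg U hU) :=
  (glueData 𝒮).glued.isoOfEq (preimage_eq 𝒮 U hU) ≪≫ (ι 𝒮 U hU).isoOpensRange.symm

theorem chart_hom_ι (U : Y.Opens) (hU : IsAffineOpen U) :
    (chart 𝒮 U hU).hom ≫ ι 𝒮 U hU = ((glueData 𝒮).toBase ⁻¹ᵁ U).ι := by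
  simp [chart]

theorem isRelProj : RelProj.IsRelProj 𝒮 (glueData 𝒮).toBase (chart 𝒮) where
  chart_over U hU := by
    rw [← chart_hom_ι 𝒮 U hU, Category.assoc]
    congr 1
    have h := (glueData 𝒮).ι_toBase (⟨U, hU⟩ : Y.AffineZariskiSite)
    refine Eq.trans ?_ h.symm
    show _ = (chartStr 𝒮 U hU ≫ hU.isoSpec.inv) ≫ U.ι
    simp [chartStr]
  chart_res U hU r := by
    rw [← cancel_mono (ι 𝒮 U hU), Category.assoc, chart_hom_ι, Scheme.homOfLE_ι, Category.assoc,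
      ← chart_hom_ι 𝒮 (Y.basicOpen r) (hU.basicOpen r)]
    congr 1
    exact (colimit.w (glueData 𝒮).functor (homOfLE
      (Scheme.AffineZariskiSite.basicOpen_le (⟨U, hU⟩ : Y.AffineZariskiSite) r))).symm

end

end Groth.Agent.H81.RelProj.Exists
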