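import Groth.Agent.H81.RelProj.Localize
import Groth.Prelude.Def_RelProj3

/-!
# The modules attached to graded modules under localization at a degree zero element
-/

set_option autoImplicit false
universe u

open CategoryTheory AlgebraicGeometry TopologicalSpace Opposite
open scoped HomogeneousIdeal

namespace Groth.Agent.H81.RelProj.TildeLocal

noncomputable section

variable {A σ : Type u} [CommRing A] [SetLike σ A] [AddSubgroupClass σ A] {𝒜 : ℕ → σ} [GradedRing 𝒜]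
variable {M τ : Type u} [AddCommGroup M] [Module A M] [SetLike τ M] [AddSubgroupClass τ M] {ℳ : ℕ → τ}
  [SetLike.GradedSMul 𝒜 ℳ] [DirectSum.Decomposition ℳ]
variable {B σ' : Type u} [CommRing B] [SetLike σ' B] [AddSubgroupClass σ' B] {ℬ : ℕ → σ'} [GradedRing ℬ]
variable {N τ' : Type u} [AddCommGroup N] [Module B N] [SetLike τ' N] [AddSubgroupClass τ' N] {𝒩 : ℕ → τ'}
  [SetLike.GradedSMul ℬ 𝒩] [DirectSum.Decomposition 𝒩]

theorem decompose_map {F : Type u} [FunLike F M N] [AddMonoidHomClass F M N] (v : F)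
    (hv : ∀ (i : ℕ) (m : M), m ∈ ℳ i → v m ∈ 𝒩 i) (m : M) (i : ℕ) :
    v (DirectSum.decompose ℳ m i : M) = (DirectSum.decompose 𝒩 (v m) i : N) := by
  classical
  induction m using DirectSum.Decomposition.inductionOn ℳ with
  | zero => simp
  | @homogeneous j m =>
    rcases eq_or_ne j i with rfl | hij
    · rw [DirectSum.decompose_of_mem_same ℳ m.2, DirectSum.decompose_of_mem_same 𝒩 (hv j m m.2)]
    · rw [DirectSum.decompose_of_mem_ne ℳ m.2 hij, DirectSum.decompose_of_mem_ne 𝒩 (hv j m m.2) hij, map_zero]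
  | add a b ha hb => simp [DirectSum.decompose_add, map_add, ha, hb]

variable {ψ : 𝒜 →+*ᵍ ℬ} {c : 𝒜 0}

/-- `N = M[1/c]` through `v`. -/
structure IsLocMap (v : M →ₛₗ[ψ.toRingHom] N) (c : 𝒜 0) : Prop where
  surj : ∀ b : N, ∃ (k : ℕ) (a : M), v a = ψ (c : A) ^ k • b
  sep : ∀ a : M, v a = 0 → ∃ k : ℕ, (c : A) ^ k • a = 0

variable {v : M →ₛₗ[ψ.toRingHom] N}

theorem isUnit_c (hA : Localize.IsLocHom ψ c) : IsUnit (ψ (c : A)) :=
  letI := ψ.toRingHom.toAlgebra
  haveI : IsLocalization.Away (c : A) B := hA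
  IsLocalization.Away.algebraMap_isUnit (S := B) (c : A)

theorem notMem_c (hA : Localize.IsLocHom ψ c) (hψ : ℬ₊ ≤ (𝒜₊).map ψ) (y : ProjectiveSpectrum ℬ) (k : ℕ) :
    (c : A) ^ k ∉ (ProjectiveSpectrum.comap ψ hψ y).asHomogeneousIdeal := fun h => by
  change ψ ((c : A) ^ k) ∈ y.asHomogeneousIdeal.toIdeal at h
  rw [map_pow] at h
  exact y.isPrime.ne_top (Ideal.eq_top_of_isUnit_mem _ h ((isUnit_c hA).pow k))

theorem IsLocMap.surj_homogeneous (hM : IsLocMap v c) (hv : ∀ (i : ℕ) (m : M), m ∈ ℳ i → v m ∈ 𝒩 i) {i : ℕ}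
    {b : N} (hb : b ∈ 𝒩 i) : ∃ (k : ℕ) (a : M), a ∈ ℳ i ∧ v a = ψ (c : A) ^ k • b := by
  obtain ⟨k, a, ha⟩ := hM.surj b
  refine ⟨k, DirectSum.decompose ℳ a i, SetLike.coe_mem _, ?_⟩
  have hck : ψ (c : A) ^ k ∈ ℬ 0 := by simpa using SetLike.pow_mem_graded k (ψ.map_mem c.2)
  have : ψ (c : A) ^ k • b ∈ 𝒩 (0 + i) := SetLike.GradedSMul.smul_mem hck hb
  rw [zero_add] at this
  rw [decompose_map v hv, ha, DirectSum.decompose_of_mem_same 𝒩 this]

variable (hψ : ℬ₊ ≤ (𝒜₊).map ψ)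

omit [SetLike.GradedSMul 𝒜 ℳ] [DirectSum.Decomposition ℳ] [SetLike.GradedSMul ℬ 𝒩] [DirectSum.Decomposition 𝒩] in
theorem locModMap_injective (hA : Localize.IsLocHom ψ c) (hM : IsLocMap v c) (y : ProjectiveSpectrum ℬ) :
    Function.Injective (GrMod.locModMap ψ hψ v y) := by
  rw [injective_iff_map_eq_zero]
  intro q hq
  induction q using LocalizedModule.induction_on with
  | h m s =>
    rw [GrMod.locModMap_mk, ← LocalizedModule.zero_mk ⟨ψ (s : A), s.2⟩, LocalizedModule.mk_eq] at hq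
    obtain ⟨⟨u, hu⟩, hum⟩ := hq
    simp only [Submonoid.smul_def, smul_zero] at hum
    letI := ψ.toRingHom.toAlgebra
    haveI : IsLocalization.Away (c : A) B := hA
    obtain ⟨⟨a, ⟨_, k, rfl⟩⟩, hak⟩ := IsLocalization.surj (Submonoid.powers (c : A)) u
    change u * ψ ((c : A) ^ k) = ψ a at hak
    have h0 : v ((s : A) • a • m) = 0 := by
      rw [v.map_smulₛₗ, v.map_smulₛₗ]
      change ψ (s : A) • ψ a • v m = 0
      rw [← hak, mul_comm u, mul_smul, smul_comm (ψ (s : A)) (ψ ((c : A) ^ k)), smul_comm (ψ (s : A)) u]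
      have : u • ψ (s : A) • v m = 0 := by
        rw [← mul_smul, mul_comm, mul_smul] at hum ⊢
        exact hum
      rw [this, smul_zero]
    obtain ⟨l, hl⟩ := hM.sep _ h0
    have ha : a ∉ (ProjectiveSpectrum.comap ψ hψ y).asHomogeneousIdeal := fun h => by
      change ψ a ∈ y.asHomogeneousIdeal.toIdeal at h
      rw [← hak] at h
      rcases y.isPrime.mem_or_mem h with h | h
      · exact hu h
      · exact y.isPrime.ne_top (Ideal.eq_top_of_isUnit_mem _ h (by rw [map_pow]; exact (isUnit_c hA).pow k))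
    rw [← LocalizedModule.zero_mk 1, LocalizedModule.mk_eq]
    refine ⟨⟨(c : A) ^ l * (s : A) * a, fun h => ?_⟩, ?_⟩
    · rcases (ProjectiveSpectrum.comap ψ hψ y).isPrime.mem_or_mem h with h | h
      · rcases (ProjectiveSpectrum.comap ψ hψ y).isPrime.mem_or_mem h with h | h
        · exact notMem_c hA hψ y l h
        · exact s.2 h
      · exact ha h
    · simp only [Submonoid.smul_def, smul_zero, OneMemClass.coe_one, one_smul, mul_smul]
      exact hl

section sections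

variable (hv : ∀ (i : ℕ) (m : M), m ∈ ℳ i → v m ∈ 𝒩 i) (n : ℤ) (U : Opens (ProjectiveSpectrum.top 𝒜))
  (V : Opens (ProjectiveSpectrum.top ℬ)) (hUV : V.1 ⊆ ProjectiveSpectrum.comap ψ hψ ⁻¹' U.1)

/-- Sections of the attached module over opens in the locus `D(c)` do not change. -/
theorem comapApp_bijective (hA : Localize.IsLocHom ψ c) (hM : IsLocMap v c)
    (hemb : Topology.IsOpenEmbedding (ProjectiveSpectrum.comap ψ hψ))
    (hU : U.1 ⊆ ProjectiveSpectrum.comap ψ hψ '' V.1) :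
    Function.Bijective (GrMod.comapApp ψ hψ v hv n U V hUV) := by
  classical
  constructor
  · intro s t h
    refine Subtype.ext (funext fun x => Subtype.ext ?_)
    obtain ⟨y, hy, hyx⟩ := hU x.2
    have := congrArg (fun r : GrMod.sect ℬ 𝒩 n (op V) => ((r.1 ⟨y, hy⟩ : GrMod.tildeAt ℬ 𝒩 n y) : GrMod.LocMod ℬ (M := N) y)) h
    simp only [GrMod.comapApp_apply_coe] at this
    obtain rfl : (⟨ProjectiveSpectrum.comap ψ hψ y, hUV hy⟩ : U) = x := Subtype.ext hyx
    exact locModMap_injective hψ hA hM y this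
  · intro t
    have hex : ∀ y : V, ∃ (W : Opens (ProjectiveSpectrum.top ℬ)) (_ : y.1 ∈ W) (hWV : W ≤ V) (i j : ℕ) (a : ℳ i) (s : 𝒜 j)
        (hs : ∀ z : W, (s : A) ∉ (ProjectiveSpectrum.comap ψ hψ z.1).asHomogeneousIdeal),
        ((i : ℤ) = j + n ∨ (a : M) = 0) ∧ ∀ z : W,
          GrMod.locModMap ψ hψ v z.1 (LocalizedModule.mk (a : M) ⟨s, hs z⟩) =
            ((t.1 ⟨z.1, hWV z.2⟩ : GrMod.tildeAt ℬ 𝒩 n z.1) : GrMod.LocMod ℬ (M := N) z.1) := by
      intro y
      obtain ⟨W, hyW, iW, i, j, ⟨b, hb⟩, ⟨t', ht'⟩, hnin, hdeg, hval⟩ := t.2 y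
      obtain ⟨k, a, ha, hab, hzero⟩ : ∃ (k : ℕ) (a : M), a ∈ ℳ i ∧ v a = ψ (c : A) ^ k • b ∧ (b = 0 → a = 0) := by
        by_cases hb0 : b = 0
        · exact ⟨0, 0, zero_mem _, by rw [map_zero, hb0, smul_zero], fun _ => rfl⟩
        · obtain ⟨k, a, ha, hab⟩ := hM.surj_homogeneous hv hb
          exact ⟨k, a, ha, hab, fun h => absurd h hb0⟩
      obtain ⟨l, t₀, ht₀, htt⟩ := hA.exists_homogeneous ht'
      have hck : (c : A) ^ k ∈ 𝒜 0 := by simpa using SetLike.pow_mem_graded k c.2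
      have hcl : (c : A) ^ l ∈ 𝒜 0 := by simpa using SetLike.pow_mem_graded l c.2
      let a' : ℳ i := ⟨(c : A) ^ l • a, by have := SetLike.GradedSMul.smul_mem hcl ha; rwa [vadd_eq_add, zero_add] at this⟩
      let s' : 𝒜 j := ⟨(c : A) ^ k * t₀, by simpa using SetLike.mul_mem_graded hck ht₀⟩
      have hs : ∀ z : W, (s' : A) ∉ (ProjectiveSpectrum.comap ψ hψ z.1).asHomogeneousIdeal := fun z h => by
        rcases (ProjectiveSpectrum.comap ψ hψ z.1).isPrime.mem_or_mem h with h | h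
        · exact notMem_c hA hψ z.1 k h
        · change ψ t₀ ∈ z.1.asHomogeneousIdeal.toIdeal at h
          rw [← htt] at h
          rcases z.1.isPrime.mem_or_mem h with h | h
          · exact hnin z h
          · exact z.1.isPrime.ne_top (Ideal.eq_top_of_isUnit_mem _ h ((isUnit_c hA).pow l))
      refine ⟨W, hyW, iW.le, i, j, a', s', hs, hdeg.imp id fun h => ?_, fun z => ?_⟩
      · change (c : A) ^ l • a = 0
        rw [hzero h, smul_zero]
      · refine Eq.trans ?_ (hval z).symm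
        rw [GrMod.locModMap_mk, LocalizedModule.mk_eq]
        refine ⟨1, ?_⟩
        simp only [one_smul, Submonoid.smul_def]
        change t' • v ((c : A) ^ l • a) = ψ ((c : A) ^ k * t₀) • b
        rw [v.map_smulₛₗ, hab, map_mul, map_pow, ← htt]
        change t' • ψ (c : A) ^ l • ψ (c : A) ^ k • b = _
        rw [smul_smul, smul_smul, map_pow]
        congr 1
        ring
    choose W hyW hWV i j a s hs hdeg hW using hex
    have hpre : ∀ x : U, ∃ y : V, ProjectiveSpectrum.comap ψ hψ y.1 = x.1 := fun x => by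
      obtain ⟨y, hy, e⟩ := hU x.2; exact ⟨⟨y, hy⟩, e⟩
    choose pre hpre using hpre
    let val : ∀ x : U, GrMod.LocMod 𝒜 (M := M) x.1 := fun x =>
      LocalizedModule.mk (a (pre x) : M) ⟨(s (pre x) : A), hpre x ▸ hs (pre x) ⟨(pre x).1, hyW (pre x)⟩⟩
    have hval : ∀ (y : V) (x : U) (z : W y) (hz : ProjectiveSpectrum.comap ψ hψ z.1 = x.1),
        val x = LocalizedModule.mk (a y : M) ⟨(s y : A), hz ▸ hs y z⟩ := by
      intro y x z hz
      obtain ⟨x, hx⟩ := x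
      obtain rfl : ProjectiveSpectrum.comap ψ hψ z.1 = x := hz
      have hpz : (pre ⟨_, hx⟩).1 = z.1 := hemb.injective (hpre ⟨_, hx⟩)
      refine locModMap_injective hψ hA hM z.1 ?_
      refine Eq.trans ?_ (hW y z).symm
      have hz' : z.1 ∈ W (pre ⟨_, hx⟩) := by
        have h := hyW (pre ⟨_, hx⟩)
        rwa [hpz] at h
      exact hW (pre ⟨_, hx⟩) ⟨z.1, hz'⟩
    have hloc : ∀ x : U, ∃ (O : Opens (ProjectiveSpectrum.top 𝒜)) (_ : x.1 ∈ O) (iO : O ⟶ U) (i j : ℕ) (m : ℳ i) (r : 𝒜 j)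
        (hr : ∀ x' : O, (r : A) ∉ x'.1.asHomogeneousIdeal),
        ((i : ℤ) = j + n ∨ (m : M) = 0) ∧ ∀ x' : O, val (iO x') = LocalizedModule.mk (m : M) ⟨(r : A), hr x'⟩ := by
      intro x
      let O : Opens (ProjectiveSpectrum.top 𝒜) :=
        ⟨ProjectiveSpectrum.comap ψ hψ '' (W (pre x)).1, hemb.isOpenMap _ (W (pre x)).2⟩
      have hOU : O ≤ U := by rintro _ ⟨z, hz, rfl⟩; exact hUV (hWV _ hz)
      refine ⟨O, ⟨_, hyW _, hpre x⟩, homOfLE hOU, i (pre x), j (pre x), a (pre x), s (pre x), fun x' => ?_, hdeg _, fun x' => ?_⟩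
      · obtain ⟨z, hz, e⟩ := x'.2
        exact e ▸ hs (pre x) ⟨z, hz⟩
      · obtain ⟨z, hz, e⟩ := x'.2
        exact hval (pre x) ⟨x'.1, hOU x'.2⟩ ⟨z, hz⟩ e
    have hmem : ∀ x : U, val x ∈ GrMod.tildeAt 𝒜 ℳ n x.1 := fun x => by
      obtain ⟨O, hxO, iO, i', j', m, r, hr, hd, hv'⟩ := hloc x
      have e : val x = LocalizedModule.mk (m : M) ⟨(r : A), hr ⟨x.1, hxO⟩⟩ := hv' ⟨x.1, hxO⟩
      rw [e]
      rcases hd with h | h
      · exact Submodule.subset_span ⟨i', j', m, r, hr ⟨x.1, hxO⟩, h, rfl⟩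
      · rw [h, LocalizedModule.zero_mk]; exact zero_mem _
    refine ⟨⟨fun x => ⟨val x, hmem x⟩, fun x => ?_⟩, Subtype.ext (funext fun y => Subtype.ext ?_)⟩
    · obtain ⟨O, hxO, iO, i', j', m, r, hr, hd, hv'⟩ := hloc x
      exact ⟨O, hxO, iO, i', j', m, r, hr, hd, hv'⟩
    · rw [GrMod.comapApp_apply_coe]
      change GrMod.locModMap ψ hψ v y.1 (val ⟨_, hUV y.2⟩) = _
      rw [hval y ⟨_, hUV y.2⟩ ⟨y.1, hyW y⟩ rfl]
      exact hW y ⟨y.1, hyW y⟩

end sections

end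

end Groth.Agent.H81.RelProj.TildeLocal
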