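import Groth.Agent.H81.RelProj.ModGlue
import Groth.Agent.H81.RelProj.TildeLocal
import Groth.Agent.H81.RelProj.Exists
import Groth.Agent.H81.RelProj.GrTilde.QCoh
import Groth.Agent.Lib.QCoh.Localizing
import Groth.Agent.Lib.ProjTilde.Hom

/-!
# The module on a relative Proj attached to a graded module
-/

set_option autoImplicit false
universe u

open CategoryTheory AlgebraicGeometry TopologicalSpace Opposite
open scoped HomogeneousIdeal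

namespace Groth.Agent.H81.RelProj.RelTilde

open Groth.Agent.Lib.TensorMod.Dual (rs rs_self rs_rs)

noncomputable section

variable {Y P : Scheme.{u}} {𝒮 : RelProj.QCGrAlg Y} {p : P ⟶ Y}
  {chart : ∀ (U : Y.Opens) (hU : IsAffineOpen U), (((p ⁻¹ᵁ U : P.Opens) : Scheme.{u}) ≅ Proj (𝒮.deg U hU))}

/-- Sections over a basic open are the localization. -/
def Loc (ℳ : RelProj.GrModule 𝒮) : Prop :=
  ∀ (U : Y.Opens) (hU : IsAffineOpen U) (r : Γ(Y, U)),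
    TildeLocal.IsLocMap (ℳ.res hU (hU.basicOpen r) (Y.basicOpen_le r)) ((𝒮.strZero U hU).hom r)

theorem loc_of_isQCoh (ℳ : RelProj.GrModule 𝒮) (hℳ : Coh.IsQCoh ((AMod.toOS 𝒮.toQCAlg).obj ℳ.mod)) : Loc ℳ := by
  intro U hU r
  haveI := hℳ
  have h := Lib.QCoh.Localizing.localizes_of_isAffineOpen ((AMod.toOS 𝒮.toQCAlg).obj ℳ.mod) hU r
  refine ⟨fun b => ?_, fun a ha => ?_⟩
  · obtain ⟨k, t, ht⟩ := h.ext' b
    refine ⟨k, t, ht.trans ?_⟩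
    change (𝒮.str.app (op (Y.basicOpen r))).hom (Lib.QCoh.Localizing.resR (Y.basicOpen_le r) r ^ k) • b = _
    rw [map_pow, show (𝒮.str.app (op (Y.basicOpen r))).hom (Lib.QCoh.Localizing.resR (Y.basicOpen_le r) r) =
      (𝒮.res hU (hU.basicOpen r) (Y.basicOpen_le r)) ((𝒮.strZero U hU).hom r : 𝒮.presheaf.obj (op U)) from
        (Chart.str_res 𝒮 (Y.basicOpen_le r) r).symm]
  · obtain ⟨k, hk⟩ := h.sep a ha
    refine ⟨k, ?_⟩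
    change (𝒮.str.app (op U)).hom (r ^ k) • a = 0 at hk
    rw [map_pow] at hk
    exact hk

variable (𝒮) in
/-- `𝒮` as a graded module over itself. -/
def selfMod : RelProj.GrModule 𝒮 where
  mod := SheafOfModules.unit (AMod.ringSheaf 𝒮.toQCAlg)
  deg U hU := 𝒮.deg U hU
  decomp U hU := (𝒮.graded U hU).toDecomposition
  gradedSMul U hU := ⟨fun {i j a b} ha hb => (𝒮.graded U hU).toGradedMonoid.mul_mem ha hb⟩
  map_mem := fun {U V} hU hV i {d m} h => 𝒮.map_mem hU hV i h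

theorem loc_selfMod : Loc (selfMod 𝒮) := by
  intro U hU r
  let ψ := 𝒮.res hU (hU.basicOpen r) (Y.basicOpen_le r)
  letI := ψ.toRingHom.toAlgebra
  haveI : IsLocalization.Away (((𝒮.strZero U hU).hom r : 𝒮.deg U hU 0) : 𝒮.presheaf.obj (op U))
      (𝒮.presheaf.obj (op (Y.basicOpen r))) := Chart.isLocHom 𝒮 hU r
  refine ⟨fun (b : 𝒮.presheaf.obj (op (Y.basicOpen r))) => ?_, fun (a : 𝒮.presheaf.obj (op U)) ha => ?_⟩
  · obtain ⟨⟨x, _, k, rfl⟩, hx⟩ := IsLocalization.surj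
      (Submonoid.powers (((𝒮.strZero U hU).hom r : 𝒮.deg U hU 0) : 𝒮.presheaf.obj (op U))) b
    refine ⟨k, x, ?_⟩
    change b * ψ (_ ^ k) = ψ x at hx
    rw [map_pow, mul_comm] at hx
    exact hx.symm
  · obtain ⟨⟨_, k, rfl⟩, hk⟩ := (IsLocalization.map_eq_zero_iff
      (Submonoid.powers (((𝒮.strZero U hU).hom r : 𝒮.deg U hU 0) : 𝒮.presheaf.obj (op U)))
      (𝒮.presheaf.obj (op (Y.basicOpen r))) a).1 ha
    exact ⟨k, hk⟩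

/-- `D` is a basic open of `U`. -/
def Rel (D U : Y.affineOpens) : Prop := ∃ r : Γ(Y, U.1), Y.basicOpen r = D.1

theorem Rel.le {D U : Y.affineOpens} (h : Rel D U) : D.1 ≤ U.1 := by
  obtain ⟨r, hr⟩ := h; exact hr ▸ Y.basicOpen_le r

theorem Rel.trans {C D U : Y.affineOpens} (h₁ : Rel C D) (h₂ : Rel D U) : Rel C U := by
  obtain ⟨C, hC⟩ := C; obtain ⟨D, hD⟩ := D; obtain ⟨U, hU⟩ := U
  obtain ⟨r, rfl : Y.basicOpen r = D⟩ := h₂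
  obtain ⟨s, hs⟩ := h₁
  obtain ⟨t, ht⟩ := hU.basicOpen_basicOpen_is_basicOpen r s
  exact ⟨t, ht.trans hs⟩

variable (𝒮) in
theorem irr {D U : Y.affineOpens} (h : Rel D U) :
    (𝒮.deg D.1 D.2)₊ ≤ ((𝒮.deg U.1 U.2)₊).map (𝒮.res U.2 D.2 h.le) := by
  obtain ⟨D, hD⟩ := D; obtain ⟨U, hU⟩ := U
  obtain ⟨r, rfl : Y.basicOpen r = D⟩ := h
  exact 𝒮.irrelevant_le_map U hU r

theorem map_emb (hP : RelProj.IsRelProj 𝒮 p chart) {D U : Y.affineOpens} (h : Rel D U) :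
    Proj.map (𝒮.res U.2 D.2 h.le) (irr 𝒮 h) ≫ RelProj.emb p chart U.1 U.2 = RelProj.emb p chart D.1 D.2 := by
  obtain ⟨D, hD⟩ := D; obtain ⟨U, hU⟩ := U
  obtain ⟨r, rfl : Y.basicOpen r = D⟩ := h
  exact RelProj.map_res_emb hP U hU r

theorem isOpenImmersion_map {D U : Y.affineOpens} (h : Rel D U) :
    IsOpenImmersion (Proj.map (𝒮.res U.2 D.2 h.le) (irr 𝒮 h)) := by
  obtain ⟨D, hD⟩ := D; obtain ⟨U, hU⟩ := U
  obtain ⟨r, rfl : Y.basicOpen r = D⟩ := h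
  exact Chart.isOpenImmersion_ρ 𝒮 hU r

theorem opensRange_emb (p : P ⟶ Y)
    (chart : ∀ (U : Y.Opens) (hU : IsAffineOpen U), (((p ⁻¹ᵁ U : P.Opens) : Scheme.{u}) ≅ Proj (𝒮.deg U hU)))
    (U : Y.Opens) (hU : IsAffineOpen U) : (RelProj.emb p chart U hU).opensRange = p ⁻¹ᵁ U := by
  change ((chart U hU).inv ≫ (p ⁻¹ᵁ U).ι).opensRange = p ⁻¹ᵁ U
  rw [Scheme.Hom.opensRange_comp_of_isIso, Scheme.Opens.opensRange_ι]

theorem comapApp_comp {A σ : Type u} [CommRing A] [SetLike σ A] [AddSubgroupClass σ A] {𝒜 : ℕ → σ} [GradedRing 𝒜]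
    {M τ : Type u} [AddCommGroup M] [Module A M] [SetLike τ M] [AddSubgroupClass τ M] {ℳ₁ : ℕ → τ}
    [SetLike.GradedSMul 𝒜 ℳ₁]
    {B σ' : Type u} [CommRing B] [SetLike σ' B] [AddSubgroupClass σ' B] {ℬ : ℕ → σ'} [GradedRing ℬ]
    {N τ' : Type u} [AddCommGroup N] [Module B N] [SetLike τ' N] [AddSubgroupClass τ' N] {ℳ₂ : ℕ → τ'}
    [SetLike.GradedSMul ℬ ℳ₂]
    {C σ'' : Type u} [CommRing C] [SetLike σ'' C] [AddSubgroupClass σ'' C] {𝒞 : ℕ → σ''} [GradedRing 𝒞]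
    {L τ'' : Type u} [AddCommGroup L] [Module C L] [SetLike τ'' L] [AddSubgroupClass τ'' L] {ℳ₃ : ℕ → τ''}
    [SetLike.GradedSMul 𝒞 ℳ₃]
    {ψ : 𝒜 →+*ᵍ ℬ} {hψ : ℬ₊ ≤ (𝒜₊).map ψ} {v : M →ₛₗ[ψ.toRingHom] N} {hv}
    {ψ' : ℬ →+*ᵍ 𝒞} {hψ' : 𝒞₊ ≤ (ℬ₊).map ψ'} {v' : N →ₛₗ[ψ'.toRingHom] L} {hv'}
    {ψ'' : 𝒜 →+*ᵍ 𝒞} {hψ'' : 𝒞₊ ≤ (𝒜₊).map ψ''} {v'' : M →ₛₗ[ψ''.toRingHom] L} {hv''}
    (he : ∀ a, ψ'' a = ψ' (ψ a)) (hve : ∀ m, v'' m = v' (v m)) (n : ℤ)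
    (U : Opens (ProjectiveSpectrum.top 𝒜)) (V : Opens (ProjectiveSpectrum.top ℬ))
    (W : Opens (ProjectiveSpectrum.top 𝒞)) (h₁) (h₂) (h₃) (s : GrMod.sect 𝒜 ℳ₁ n (op U)) :
    GrMod.comapApp (ℳ := ℳ₂) (𝒩 := ℳ₃) ψ' hψ' v' hv' n V W h₂
        (GrMod.comapApp (ℳ := ℳ₁) (𝒩 := ℳ₂) ψ hψ v hv n U V h₁ s) =
      GrMod.comapApp (ℳ := ℳ₁) (𝒩 := ℳ₃) ψ'' hψ'' v'' hv'' n U W h₃ s := by
  obtain rfl : ψ'' = ψ'.comp ψ := GradedRingHom.ext he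
  refine Subtype.ext (funext fun z => Subtype.ext ?_)
  simp only [GrMod.comapApp_apply_coe]
  suffices ∀ q : GrMod.LocMod 𝒜 (M := M) (ProjectiveSpectrum.comap (ψ'.comp ψ) hψ'' z.1),
      GrMod.locModMap ψ' hψ' v' z.1 (GrMod.locModMap ψ hψ v (ProjectiveSpectrum.comap ψ' hψ' z.1) q) =
        GrMod.locModMap (ψ'.comp ψ) hψ'' v'' z.1 q from
    this (s.1 ⟨ProjectiveSpectrum.comap (ψ'.comp ψ) hψ'' z.1, h₃ z.2⟩).1
  intro q
  induction q using LocalizedModule.induction_on with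
  | h m t =>
    change LocalizedModule.mk (v' (v m)) _ = LocalizedModule.mk (v'' m) _
    rw [hve]
    rfl

section Generic

variable {A σ : Type u} [CommRing A] [SetLike σ A] [AddSubgroupClass σ A] {𝒜 : ℕ → σ} [GradedRing 𝒜]
  {M τ : Type u} [AddCommGroup M] [Module A M] [SetLike τ M] [AddSubgroupClass τ M] {ℳ₁ : ℕ → τ}
  [SetLike.GradedSMul 𝒜 ℳ₁]
  {B σ' : Type u} [CommRing B] [SetLike σ' B] [AddSubgroupClass σ' B] {ℬ : ℕ → σ'} [GradedRing ℬ]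
  {N τ' : Type u} [AddCommGroup N] [Module B N] [SetLike τ' N] [AddSubgroupClass τ' N] {ℳ₂ : ℕ → τ'}
  [SetLike.GradedSMul ℬ ℳ₂]
  (ψ : 𝒜 →+*ᵍ ℬ) (hψ : ℬ₊ ≤ (𝒜₊).map ψ) (v : M →ₛₗ[ψ.toRingHom] N)
  (hv : ∀ (i : ℕ) (m : M), m ∈ ℳ₁ i → v m ∈ ℳ₂ i) (n : ℤ)
  (eU : Proj 𝒜 ⟶ P) (eD : Proj ℬ ⟶ P) (he : Proj.map ψ hψ ≫ eU = eD)

include he in
theorem hsub_gen (W : P.Opens) : (eD ⁻¹ᵁ W).1 ⊆ ProjectiveSpectrum.comap ψ hψ ⁻¹' (eU ⁻¹ᵁ W).1 := by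
  subst he
  exact fun y hy => hy

include he in
theorem app_eq (W : P.Opens) (r : Γ(P, W)) :
    (eD.app W r : GrTwist.O (𝒜 := ℬ) (op (eD ⁻¹ᵁ W))) =
      Proj.comapStructureSheaf ψ hψ (eU ⁻¹ᵁ W) (eD ⁻¹ᵁ W) (hsub_gen ψ hψ eU eD he W) (eU.app W r) := by
  subst he
  rfl

/-- The comparison of direct images along a triangle over `Proj.map`. -/
def comapTo : (Scheme.Modules.pushforward eU).obj (GrMod.tilde 𝒜 ℳ₁ n) ⟶
    (Scheme.Modules.pushforward eD).obj (GrMod.tilde ℬ ℳ₂ n) :=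
  Groth.Agent.Lib.ProjTilde.Hom.homMk
    (fun W => GrMod.comapApp ψ hψ v hv n (eU ⁻¹ᵁ W) (eD ⁻¹ᵁ W) (hsub_gen ψ hψ eU eD he W))
    (fun W r m => by
      refine (GrMod.comapApp_smul ψ hψ v hv n _ _ (hsub_gen ψ hψ eU eD he W) (eU.app W r) m).trans ?_
      exact congrArg (fun x : GrTwist.O (𝒜 := ℬ) (op (eD ⁻¹ᵁ W)) =>
        x • GrMod.comapApp ψ hψ v hv n (eU ⁻¹ᵁ W) (eD ⁻¹ᵁ W) (hsub_gen ψ hψ eU eD he W) m)
        (app_eq ψ hψ eU eD he W r).symm)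
    (fun _ _ _ _ => rfl)

theorem comapTo_app (W : P.Opens) (t : Γ((Scheme.Modules.pushforward eU).obj (GrMod.tilde 𝒜 ℳ₁ n), W)) :
    (comapTo ψ hψ v hv n eU eD he).app W t =
      GrMod.comapApp ψ hψ v hv n (eU ⁻¹ᵁ W) (eD ⁻¹ᵁ W) (hsub_gen ψ hψ eU eD he W) t :=
  rfl

theorem comapTo_trans {C σ'' : Type u} [CommRing C] [SetLike σ'' C] [AddSubgroupClass σ'' C] {𝒞 : ℕ → σ''}
    [GradedRing 𝒞] {L τ'' : Type u} [AddCommGroup L] [Module C L] [SetLike τ'' L] [AddSubgroupClass τ'' L]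
    {ℳ₃ : ℕ → τ''} [SetLike.GradedSMul 𝒞 ℳ₃]
    (ψ' : ℬ →+*ᵍ 𝒞) (hψ' : 𝒞₊ ≤ (ℬ₊).map ψ') (v' : N →ₛₗ[ψ'.toRingHom] L)
    (hv' : ∀ (i : ℕ) (m : N), m ∈ ℳ₂ i → v' m ∈ ℳ₃ i) (eC : Proj 𝒞 ⟶ P) (he' : Proj.map ψ' hψ' ≫ eD = eC)
    (ψ'' : 𝒜 →+*ᵍ 𝒞) (hψ'' : 𝒞₊ ≤ (𝒜₊).map ψ'') (v'' : M →ₛₗ[ψ''.toRingHom] L)
    (hv'' : ∀ (i : ℕ) (m : M), m ∈ ℳ₁ i → v'' m ∈ ℳ₃ i) (he'' : Proj.map ψ'' hψ'' ≫ eU = eC)
    (hcomp : ∀ a, ψ'' a = ψ' (ψ a)) (hvcomp : ∀ m, v'' m = v' (v m)) :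
    comapTo ψ hψ v hv n eU eD he ≫ comapTo ψ' hψ' v' hv' n eD eC he' = comapTo ψ'' hψ'' v'' hv'' n eU eC he'' := by
  refine Scheme.Modules.hom_ext _ _ fun W => AddCommGrpCat.hom_ext (AddMonoidHom.ext fun t => ?_)
  exact comapApp_comp hcomp hvcomp n _ _ _ _ _ _ t

end Generic

variable (ℳ : RelProj.GrModule 𝒮) (n : ℤ) (p chart)

/-- The member of the gluing system at `U`. -/
abbrev G (U : Y.affineOpens) : P.Modules :=
  (Scheme.Modules.pushforward (RelProj.emb p chart U.1 U.2)).obj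
    (GrMod.tilde (𝒮.deg U.1 U.2) (ℳ.deg U.1 U.2) n)

variable {p chart}
variable (hP : RelProj.IsRelProj 𝒮 p chart)

/-- The transition map of the gluing system. -/
def c {D U : Y.affineOpens} (h : Rel D U) : G p chart ℳ n U ⟶ G p chart ℳ n D :=
  comapTo (𝒮.res U.2 D.2 h.le) (irr 𝒮 h) (ℳ.res U.2 D.2 h.le) (ℳ.res_mem U.2 D.2 h.le) n _ _ (map_emb hP h)

include hP in
theorem hsub {D U : Y.affineOpens} (h : Rel D U) (W : P.Opens) :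
    (RelProj.emb p chart D.1 D.2 ⁻¹ᵁ W).1 ⊆
      ProjectiveSpectrum.comap (𝒮.res U.2 D.2 h.le) (irr 𝒮 h) ⁻¹' (RelProj.emb p chart U.1 U.2 ⁻¹ᵁ W).1 :=
  hsub_gen _ _ _ _ (map_emb hP h) W

theorem c_app {D U : Y.affineOpens} (h : Rel D U) (W : P.Opens) (t : Γ(G p chart ℳ n U, W)) :
    (c ℳ n hP h).app W t =
      GrMod.comapApp (𝒮.res U.2 D.2 h.le) (irr 𝒮 h) (ℳ.res U.2 D.2 h.le) (ℳ.res_mem U.2 D.2 h.le) n
        (RelProj.emb p chart U.1 U.2 ⁻¹ᵁ W) (RelProj.emb p chart D.1 D.2 ⁻¹ᵁ W) (hsub hP h W) t :=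
  comapTo_app (𝒮.res U.2 D.2 h.le) (irr 𝒮 h) (ℳ.res U.2 D.2 h.le) (ℳ.res_mem U.2 D.2 h.le) n _ _ (map_emb hP h) W t

variable {ℳ} in
theorem rs_bijective_of_eq {X : Scheme.{u}} (M : X.Modules) {A B : X.Opens} (h : A ≤ B) (e : A = B) :
    Function.Bijective (rs M h) := by
  subst e
  exact ⟨fun a b hab => by rwa [rs_self, rs_self] at hab, fun a => ⟨a, rs_self M _ a⟩⟩

theorem res_trans {l k j : Y.affineOpens} (h₁ : Rel l k) (h₂ : Rel k j) (m : ℳ.mod.val.obj (op j.1)) :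
    ℳ.res j.2 l.2 (h₁.trans h₂).le m = ℳ.res k.2 l.2 h₁.le (ℳ.res j.2 k.2 h₂.le m) := by
  simp only [RelProj.GrModule.res_apply]
  rw [show (homOfLE (h₁.trans h₂).le).op = (homOfLE h₂.le).op ≫ (homOfLE h₁.le).op from rfl,
    PresheafOfModules.map_comp_apply]

theorem res_trans' {l k j : Y.affineOpens} (h₁ : Rel l k) (h₂ : Rel k j) (a : 𝒮.presheaf.obj (op j.1)) :
    𝒮.res j.2 l.2 (h₁.trans h₂).le a = 𝒮.res k.2 l.2 h₁.le (𝒮.res j.2 k.2 h₂.le a) :=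
  (DFunLike.congr_fun (Exists.res_comp 𝒮 j.2 k.2 l.2 h₂.le h₁.le) a).symm

theorem c_trans {l k j : Y.affineOpens} (h₁ : Rel l k) (h₂ : Rel k j) :
    c ℳ n hP h₂ ≫ c ℳ n hP h₁ = c ℳ n hP (h₁.trans h₂) :=
  comapTo_trans (𝒮.res j.2 k.2 h₂.le) (irr 𝒮 h₂) (ℳ.res j.2 k.2 h₂.le) (ℳ.res_mem j.2 k.2 h₂.le) n
    _ _ (map_emb hP h₂) (𝒮.res k.2 l.2 h₁.le) (irr 𝒮 h₁) (ℳ.res k.2 l.2 h₁.le) (ℳ.res_mem k.2 l.2 h₁.le)
    _ (map_emb hP h₁) (𝒮.res j.2 l.2 (h₁.trans h₂).le) (irr 𝒮 (h₁.trans h₂)) (ℳ.res j.2 l.2 (h₁.trans h₂).le)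
    (ℳ.res_mem j.2 l.2 (h₁.trans h₂).le) (map_emb hP (h₁.trans h₂)) (res_trans' h₁ h₂) (res_trans ℳ h₁ h₂)

theorem supp_bijective (U : Y.affineOpens) (W : P.Opens) :
    Function.Bijective (rs (G p chart ℳ n U) (inf_le_left : W ⊓ p ⁻¹ᵁ U.1 ≤ W)) := by
  refine rs_bijective_of_eq (GrMod.tilde (𝒮.deg U.1 U.2) (ℳ.deg U.1 U.2) n)
    ((RelProj.emb p chart U.1 U.2).preimage_mono inf_le_left) ?_
  refine le_antisymm ((RelProj.emb p chart U.1 U.2).preimage_mono inf_le_left) fun y hy => ⟨hy, ?_⟩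
  change (RelProj.emb p chart U.1 U.2) y ∈ p ⁻¹ᵁ U.1
  rw [← opensRange_emb p chart U.1 U.2]
  exact ⟨y, rfl⟩

theorem c_bijective (hloc : Loc ℳ) {D U : Y.affineOpens} (h : Rel D U) (W : P.Opens) (hW : W ≤ p ⁻¹ᵁ D.1) :
    Function.Bijective ((c ℳ n hP h).app W) := by
  rw [show ⇑((c ℳ n hP h).app W) = GrMod.comapApp (𝒮.res U.2 D.2 h.le) (irr 𝒮 h) (ℳ.res U.2 D.2 h.le)
    (ℳ.res_mem U.2 D.2 h.le) n (RelProj.emb p chart U.1 U.2 ⁻¹ᵁ W) (RelProj.emb p chart D.1 D.2 ⁻¹ᵁ W)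
    (hsub hP h W) from funext (c_app ℳ n hP h W)]
  haveI := isOpenImmersion_map (𝒮 := 𝒮) h
  have hemb : Topology.IsOpenEmbedding (ProjectiveSpectrum.comap (𝒮.res U.2 D.2 h.le) (irr 𝒮 h)) :=
    (Proj.map (𝒮.res U.2 D.2 h.le) (irr 𝒮 h)).isOpenEmbedding
  have hU' : (RelProj.emb p chart U.1 U.2 ⁻¹ᵁ W).1 ⊆
      ProjectiveSpectrum.comap (𝒮.res U.2 D.2 h.le) (irr 𝒮 h) '' (RelProj.emb p chart D.1 D.2 ⁻¹ᵁ W).1 := by
    intro x hx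
    obtain ⟨y, hy⟩ : RelProj.emb p chart U.1 U.2 x ∈ (RelProj.emb p chart D.1 D.2).opensRange := by
      rw [opensRange_emb]; exact hW hx
    refine ⟨y, ?_, (RelProj.emb p chart U.1 U.2).isOpenEmbedding.injective ?_⟩
    · change RelProj.emb p chart D.1 D.2 y ∈ W
      rw [hy]; exact hx
    · rw [← hy, ← map_emb hP h]
      rfl
  obtain ⟨D, hD⟩ := D; obtain ⟨U, hU⟩ := U
  obtain ⟨r, rfl : Y.basicOpen r = D⟩ := h
  exact TildeLocal.comapApp_bijective _ _ n _ _ _ (Chart.isLocHom 𝒮 hU r) (hloc U hU r) hemb hU'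

omit hP in
theorem exists_common (U V : Y.affineOpens) (x : P) (hU : x ∈ p ⁻¹ᵁ U.1) (hV : x ∈ p ⁻¹ᵁ V.1) :
    ∃ l : Y.affineOpens, Rel l U ∧ Rel l V ∧ x ∈ p ⁻¹ᵁ l.1 := by
  obtain ⟨r, s, e, hx⟩ := exists_basicOpen_le_affine_inter U.2 V.2 (p x) ⟨hU, hV⟩
  exact ⟨⟨Y.basicOpen r, U.2.basicOpen r⟩, ⟨r, rfl⟩, ⟨s, e.symm⟩, hx⟩

/-- The gluing system of `M(n)~`. -/
def system (hloc : Loc ℳ) : ModGlue.Datum P where
  J := Y.affineOpens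
  rel := Rel
  O U := p ⁻¹ᵁ U.1
  G U := G p chart ℳ n U
  c h := c ℳ n hP h
  trans := Rel.trans
  comp h₁ h₂ := c_trans ℳ n hP h₁ h₂
  supp U W := supp_bijective ℳ n U W
  O_le h := p.preimage_mono h.le
  bij h W hW := c_bijective ℳ n hP hloc h W hW
  exists_common U V x hU hV := exists_common U V x hU hV

theorem iSup_O (hloc : Loc ℳ) : iSup (system ℳ n hP hloc).O = ⊤ := by
  refine top_le_iff.mp fun x _ => ?_
  obtain ⟨U, hU, hx, -⟩ := exists_isAffineOpen_mem_and_subset (U := ⊤) (x := p x) trivial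
  exact Opens.mem_iSup.mpr ⟨(⟨U, hU⟩ : Y.affineOpens), hx⟩

variable {ℳ n}

include hP in
theorem lam_c {F : P.Modules} {lam : ∀ (U : Y.Opens) (hU : IsAffineOpen U),
      F ⟶ (Scheme.Modules.pushforward (RelProj.emb p chart U hU)).obj (GrMod.tilde (𝒮.deg U hU) (ℳ.deg U hU) n)}
    (hF : RelProj.IsRelTilde 𝒮 p chart ℳ n F lam) {D U : Y.affineOpens} (h : Rel D U) :
    lam U.1 U.2 ≫ c ℳ n hP h = lam D.1 D.2 := by
  refine Scheme.Modules.hom_ext _ _ fun W => AddCommGrpCat.hom_ext (AddMonoidHom.ext fun s => ?_)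
  change (c ℳ n hP h).app W ((lam U.1 U.2).app W s) = (lam D.1 D.2).app W s
  rw [c_app]
  refine Subtype.ext (funext fun y => Subtype.ext ?_)
  obtain ⟨D, hD⟩ := D; obtain ⟨U, hU⟩ := U
  obtain ⟨r, rfl : Y.basicOpen r = D⟩ := h
  exact (hF.compat U hU r W s y.1 y.2 (hsub hP (D := ⟨_, hD⟩) (U := ⟨U, hU⟩) ⟨r, rfl⟩ W y.2)).symm

include hP in
theorem existsUnique (hloc : Loc ℳ) {F F' : P.Modules}
    {lam : ∀ (U : Y.Opens) (hU : IsAffineOpen U),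
      F ⟶ (Scheme.Modules.pushforward (RelProj.emb p chart U hU)).obj (GrMod.tilde (𝒮.deg U hU) (ℳ.deg U hU) n)}
    {lam' : ∀ (U : Y.Opens) (hU : IsAffineOpen U),
      F' ⟶ (Scheme.Modules.pushforward (RelProj.emb p chart U hU)).obj (GrMod.tilde (𝒮.deg U hU) (ℳ.deg U hU) n)}
    (hF : RelProj.IsRelTilde 𝒮 p chart ℳ n F lam) (hF' : RelProj.IsRelTilde 𝒮 p chart ℳ n F' lam') :
    (∃! φ : F ⟶ F', ∀ (U : Y.Opens) (hU : IsAffineOpen U), φ ≫ lam' U hU = lam U hU) ∧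
      ∀ φ : F ⟶ F', (∀ (U : Y.Opens) (hU : IsAffineOpen U), φ ≫ lam' U hU = lam U hU) → IsIso φ := by
  obtain ⟨⟨φ, hφ, hu⟩, hiso⟩ := ModGlue.existsUnique_iso (system ℳ n hP hloc)
    (fun U => lam U.1 U.2) (fun l j h => lam_c hP hF h) (fun U => lam' U.1 U.2) (fun l j h => lam_c hP hF' h)
    (iSup_O ℳ n hP hloc) (fun U W hW => hF.bijective U.1 U.2 W hW) (fun U W hW => hF'.bijective U.1 U.2 W hW)
  exact ⟨⟨φ, fun U hU => hφ ⟨U, hU⟩, fun φ' h' => hu φ' fun U => h' U.1 U.2⟩,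
    fun φ' h' => hiso φ' fun U => h' U.1 U.2⟩

include hP in
theorem exists_isRelTilde (hloc : Loc ℳ) :
    ∃ (F : P.Modules) (lam : ∀ (U : Y.Opens) (hU : IsAffineOpen U),
      F ⟶ (Scheme.Modules.pushforward (RelProj.emb p chart U hU)).obj (GrMod.tilde (𝒮.deg U hU) (ℳ.deg U hU) n)),
      RelProj.IsRelTilde 𝒮 p chart ℳ n F lam := by
  let S := system ℳ n hP hloc
  refine ⟨ModGlue.glue S, fun U hU => ModGlue.π S (⟨U, hU⟩ : Y.affineOpens),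
    fun U hU W hW => ModGlue.π_bijective S (⟨U, hU⟩ : Y.affineOpens) hW, fun U hU r W s y hy hy' => ?_⟩
  have h : Rel (⟨Y.basicOpen r, hU.basicOpen r⟩ : Y.affineOpens) ⟨U, hU⟩ := ⟨r, rfl⟩
  have e := (congr(($(ModGlue.π_c S (l := (⟨Y.basicOpen r, hU.basicOpen r⟩ : Y.affineOpens))
    (j := (⟨U, hU⟩ : Y.affineOpens)) h)).app W s) :)
  change (c ℳ n hP h).app W ((ModGlue.π S (⟨U, hU⟩ : Y.affineOpens)).app W s) = _ at e
  rw [c_app] at e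
  exact (congrArg (fun t : GrMod.sect _ _ n (op (RelProj.emb p chart (Y.basicOpen r) (hU.basicOpen r) ⁻¹ᵁ W)) =>
    GrMod.val (V := RelProj.emb p chart (Y.basicOpen r) (hU.basicOpen r) ⁻¹ᵁ W) t ⟨y, hy⟩) e).symm

omit hP in
theorem localizes_of_bijective {F G : P.Modules} (φ : F ⟶ G) {U : P.Opens}
    (h : ∀ W, W ≤ U → Function.Bijective (φ.app W)) (f : Γ(P, U)) (hG : Lib.QCoh.Localizing.Localizes G f) :
    Lib.QCoh.Localizing.Localizes F f := by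
  open Lib.QCoh.Localizing in
  constructor
  · intro s
    obtain ⟨k, t, ht⟩ := hG.ext' (φ.app _ s)
    obtain ⟨t, rfl⟩ := (h U le_rfl).2 t
    exact ⟨k, t, (h _ (P.basicOpen_le f)).1 (by rw [← res_app, ht, Scheme.Modules.Hom.app_smul])⟩
  · intro t ht
    obtain ⟨k, hk⟩ := hG.sep (φ.app U t) (by
      rw [Lib.QCoh.Localizing.res_app, ht, map_zero])
    exact ⟨k, (h U le_rfl).1 (by rw [Scheme.Modules.Hom.app_smul, hk, map_zero])⟩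

omit hP in
theorem localizes_pushforward {X : Scheme.{u}} (e : X ⟶ P) (T : X.Modules) {U : P.Opens} (f : Γ(P, U))
    (hT : Lib.QCoh.Localizing.Localizes T (e.app U f)) :
    Lib.QCoh.Localizing.Localizes ((Scheme.Modules.pushforward e).obj T) f := by
  open Lib.QCoh.Localizing in
  constructor
  · intro s
    have hb : e ⁻¹ᵁ P.basicOpen f = X.basicOpen (e.app U f) := Scheme.preimage_basicOpen e f
    obtain ⟨k, t, ht⟩ := hT.ext'.exists_of_eq hb (e.preimage_mono (P.basicOpen_le f)) s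
    refine ⟨k, t, ht.trans ?_⟩
    change _ = (e.app (P.basicOpen f)).hom (resR (P.basicOpen_le f) f ^ k) •
      (show Γ(T, e ⁻¹ᵁ P.basicOpen f) from s)
    rw [map_pow]
    congr 2
    exact congr($(e.naturality (homOfLE (P.basicOpen_le f)).op) f).symm
  · intro t ht
    have hb : e ⁻¹ᵁ P.basicOpen f = X.basicOpen (e.app U f) := Scheme.preimage_basicOpen e f
    obtain ⟨k, hk⟩ := hT.sep.exists_of_eq hb (e.preimage_mono (P.basicOpen_le f)) t ht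
    refine ⟨k, ?_⟩
    change (e.app U).hom (f ^ k) • (show Γ(T, e ⁻¹ᵁ U) from t) = (0 : Γ(T, e ⁻¹ᵁ U))
    rw [map_pow]
    exact hk

theorem isQCoh (hloc : Loc ℳ) {F : P.Modules} {lam : ∀ (U : Y.Opens) (hU : IsAffineOpen U),
      F ⟶ (Scheme.Modules.pushforward (RelProj.emb p chart U hU)).obj (GrMod.tilde (𝒮.deg U hU) (ℳ.deg U hU) n)}
    (hF : RelProj.IsRelTilde 𝒮 p chart ℳ n F lam) : Coh.IsQCoh F := by
  refine Lib.QCoh.Localizing.isQCoh_of_forall_exists_localizes fun x => ?_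
  obtain ⟨U, hU, hxU, -⟩ := exists_isAffineOpen_mem_and_subset (U := ⊤) (x := p x) trivial
  obtain ⟨V, hV, hxV, hVU⟩ := exists_isAffineOpen_mem_and_subset (U := p ⁻¹ᵁ U) (x := x) hxU
  refine ⟨V, hV, hxV, fun f => localizes_of_bijective (lam U hU)
    (fun W hW => hF.bijective U hU W (hW.trans hVU)) f (localizes_pushforward _ _ f ?_)⟩
  haveI : (GrMod.tilde (𝒮.deg U hU) (ℳ.deg U hU) n).IsQuasicoherent := GrTilde.QCoh.tilde_isQCoh n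
  exact Lib.QCoh.Localizing.localizes_of_isAffineOpen _
    (hV.preimage_of_isOpenImmersion _ (by rw [opensRange_emb]; exact hVU)) _

end

end Groth.Agent.H81.RelProj.RelTilde
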