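import Groth.Agent.Lib.TensorMod.HomGlue
import Groth.Agent.Lib.TensorMod.LocIso

/-!
# Gluing modules along a system of refinements
-/

set_option autoImplicit false
universe u

open CategoryTheory AlgebraicGeometry Opposite TopologicalSpace

namespace Groth.Agent.H81.RelProj.ModGlue

open Groth.Agent.Lib.TensorMod Groth.Agent.Lib.TensorMod.Dual Groth.Agent.Lib.TensorMod.HomGlue

noncomputable section

/-- A system of modules `G j`, each supported on `O j`, with transition maps to refinements, bijective inside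
the smaller open, any two opens being covered by common refinements. -/
structure Datum (P : Scheme.{u}) where
  J : Type u
  rel : J → J → Prop
  O : J → P.Opens
  G : J → P.Modules
  c : ∀ {l j : J}, rel l j → (G j ⟶ G l)
  trans : ∀ {l k j : J}, rel l k → rel k j → rel l j
  comp : ∀ {l k j : J} (h₁ : rel l k) (h₂ : rel k j), c h₂ ≫ c h₁ = c (trans h₁ h₂)
  supp : ∀ (j : J) (W : P.Opens), Function.Bijective (rs (G j) (inf_le_left : W ⊓ O j ≤ W))
  O_le : ∀ {l j : J}, rel l j → O l ≤ O j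
  bij : ∀ {l j : J} (h : rel l j) (W : P.Opens), W ≤ O l → Function.Bijective ((c h).app W)
  exists_common : ∀ (j k : J) (x : P), x ∈ O j → x ∈ O k → ∃ l, rel l j ∧ rel l k ∧ x ∈ O l

variable {P : Scheme.{u}} (S : Datum P)

/-- The compatible families of sections. -/
def sec (W : P.Opens) : Submodule Γ(P, W) (∀ j, Γ(S.G j, W)) where
  carrier := {f | ∀ (l j : S.J) (h : S.rel l j), (S.c h).app W (f j) = f l}
  zero_mem' l j h := map_zero ((S.c h).app W).hom
  add_mem' {f g} hf hg l j h := by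
    rw [Pi.add_apply, Pi.add_apply, ← hf l j h, ← hg l j h]
    exact map_add ((S.c h).app W).hom _ _
  smul_mem' r f hf l j h := by
    rw [Pi.smul_apply, Pi.smul_apply, Scheme.Modules.Hom.app_smul, hf l j h]

/-- Restriction of compatible families. -/
def resSec {W W' : P.Opens} (i : W' ≤ W) : sec S W →+ sec S W' where
  toFun f := ⟨fun j => rs (S.G j) i (f.1 j), fun l j h => by rw [← rs_app, f.2 l j h]⟩
  map_zero' := Subtype.ext (funext fun j => map_zero ((S.G j).presheaf.map (homOfLE i).op).hom)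
  map_add' _ _ := Subtype.ext (funext fun j => rs_add _ _ _ _)

/-- The presheaf of compatible families. -/
def presheaf : TopCat.Presheaf Ab.{u} P where
  obj W := AddCommGrpCat.of (sec S W.unop)
  map i := AddCommGrpCat.ofHom (resSec S i.unop.le)
  map_id W := AddCommGrpCat.hom_ext (AddMonoidHom.ext fun (f : sec S W.unop) =>
    Subtype.ext (funext fun j => rs_self (S.G j) le_rfl (f.1 j)))
  map_comp {W W' W''} i i' := AddCommGrpCat.hom_ext (AddMonoidHom.ext fun (f : sec S W.unop) =>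
    Subtype.ext (funext fun j => (rs_rs (S.G j) i.unop.le i'.unop.le (f.1 j)).symm))

instance (W : (Opens P)ᵒᵖ) : Module (P.ringCatSheaf.obj.obj W) ((presheaf S).obj W) :=
  inferInstanceAs (Module Γ(P, W.unop) (sec S W.unop))

/-- The glued module. -/
def glue : P.Modules where
  val := PresheafOfModules.ofPresheaf (presheaf S) fun {W W'} g r (f : sec S W.unop) =>
    Subtype.ext (funext fun j => rs_smul (S.G j) g.unop.le r (f.1 j))
  isSheaf := by
    refine (TopCat.Presheaf.isSheaf_iff_isSheafUniqueGluing (X := P.carrier) (F := presheaf S)).2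
      fun κ V sf hsf => ?_
    have hg : ∀ j, ∃! r : Γ(S.G j, iSup V), ∀ a, rs (S.G j) (le_iSup V a) r = (sf a).1 j := fun j =>
      TopCat.Sheaf.existsUnique_gluing' (⟨(S.G j).presheaf, (S.G j).isSheaf⟩ : TopCat.Sheaf Ab.{u} P)
        V (iSup V) (fun a => homOfLE (le_iSup V a)) le_rfl (fun a => (sf a).1 j)
        fun a b => congrFun (congrArg Subtype.val (hsf a b)) j
    choose r hr hru using hg
    have hmem : r ∈ sec S (iSup V) := fun l j h => hru l _ fun a => by
      rw [rs_app, hr, (sf a).2 l j h]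
    exact ⟨⟨r, hmem⟩, fun a => Subtype.ext (funext fun j => hr j a), fun t ht =>
      Subtype.ext (funext fun j => hru j _ fun a => congrFun (congrArg Subtype.val (ht a)) j)⟩

/-- The projection to the member of the system at `j`. -/
def π (j : S.J) : glue S ⟶ S.G j :=
  SheafOfModules.Hom.mk
    { app := fun W => ModuleCat.ofHom (X := (glue S).val.obj W) (Y := (S.G j).val.obj W)
        { toFun := fun (f : sec S W.unop) => f.1 j, map_add' := fun _ _ => rfl, map_smul' := fun _ _ => rfl }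
      naturality := fun {V W} g => ModuleCat.hom_ext (LinearMap.ext fun _ => rfl) }

theorem π_app {W : P.Opens} (j : S.J) (f : sec S W) : (π S j).app W f = f.1 j := rfl

theorem π_c {l j : S.J} (h : S.rel l j) : π S j ≫ S.c h = π S l := by
  refine Scheme.Modules.hom_ext _ _ fun W => ?_
  refine AddCommGrpCat.hom_ext (AddMonoidHom.ext fun (f : sec S W) => ?_)
  exact f.2 l j h

theorem rs_injective (j : S.J) {V W : P.Opens} (i : V ≤ W) (hV : W ⊓ S.O j ≤ V) {a b : Γ(S.G j, W)}
    (h : rs (S.G j) i a = rs (S.G j) i b) : a = b := by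
  refine (S.supp j W).1 ?_
  have := congrArg (rs (S.G j) hV) h
  rwa [rs_rs, rs_rs] at this

/-- The common refinements of `j` and `k`. -/
abbrev Common (j k : S.J) : Type u := {l : S.J // S.rel l j ∧ S.rel l k}

theorem le_iSup_common (j k : S.J) : S.O j ⊓ S.O k ≤ ⨆ l : Common S j k, S.O l.1 := fun x hx => by
  obtain ⟨l, hlj, hlk, hxl⟩ := S.exists_common j k x hx.1 hx.2
  exact Opens.mem_iSup.mpr ⟨⟨l, hlj, hlk⟩, hxl⟩

/-- The transition of a section over an open inside `O j` to the member at `k`. -/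
theorem exists_transition (j k : S.J) {W : P.Opens} (hW : W ≤ S.O j) (t : Γ(S.G j, W)) :
    ∃! g : Γ(S.G k, W), ∀ l : Common S j k,
      (S.c l.2.2).app (W ⊓ S.O l.1) (rs (S.G k) inf_le_left g) =
        (S.c l.2.1).app (W ⊓ S.O l.1) (rs (S.G j) inf_le_left t) := by
  choose d hd using fun l : Common S j k =>
    (S.bij l.2.2 (W ⊓ S.O l.1) inf_le_right).2 ((S.c l.2.1).app _ (rs (S.G j) inf_le_left t))
  have hsup : W ⊓ S.O k ≤ ⨆ l : Common S j k, W ⊓ S.O l.1 := by
    rw [← inf_iSup_eq]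
    exact le_inf inf_le_left ((inf_le_inf_right _ hW).trans (le_iSup_common S j k))
  have hsup' : (⨆ l : Common S j k, W ⊓ S.O l.1) ≤ W := iSup_le fun _ => inf_le_left
  have hcompat : ∀ a b : Common S j k,
      rs (S.G k) (inf_le_left : (W ⊓ S.O a.1) ⊓ (W ⊓ S.O b.1) ≤ _) (d a) =
        rs (S.G k) (inf_le_right : (W ⊓ S.O a.1) ⊓ (W ⊓ S.O b.1) ≤ _) (d b) := by
    intro a b
    set V := (W ⊓ S.O a.1) ⊓ (W ⊓ S.O b.1) with hV
    refine sections_ext_cover (fun m : Common S a.1 b.1 => S.O m.1) (S.G k)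
      ((inf_le_inf inf_le_right inf_le_right).trans (le_iSup_common S a.1 b.1)) fun m => ?_
    have hkm : S.rel m.1 k := S.trans m.2.1 a.2.2
    refine (S.bij hkm _ inf_le_right).1 ?_
    rw [rs_rs, rs_rs]
    have h1 : ∀ (x : Common S j k) (hx : S.rel m.1 x.1) (e : V ⊓ S.O m.1 ≤ W ⊓ S.O x.1),
        (S.c hkm).app (V ⊓ S.O m.1) (rs (S.G k) e (d x)) =
          (S.c (S.trans hx x.2.1)).app (V ⊓ S.O m.1) (rs (S.G j) (e.trans inf_le_left) t) := by
      intro x hx e
      rw [← S.comp hx x.2.1, show S.c hkm = S.c x.2.2 ≫ S.c hx from (S.comp hx x.2.2).symm]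
      change (S.c hx).app _ ((S.c x.2.2).app _ (rs (S.G k) e (d x))) =
        (S.c hx).app _ ((S.c x.2.1).app _ (rs (S.G j) (e.trans inf_le_left) t))
      rw [← rs_app (S.c x.2.2), hd x, rs_app, rs_rs]
    rw [h1 a m.2.1, h1 b m.2.2]
  obtain ⟨g₀, hg₀, hu₀⟩ := TopCat.Sheaf.existsUnique_gluing'
    (⟨(S.G k).presheaf, (S.G k).isSheaf⟩ : TopCat.Sheaf Ab.{u} P)
    (fun l : Common S j k => W ⊓ S.O l.1) (⨆ l : Common S j k, W ⊓ S.O l.1)
    (fun l => homOfLE (le_iSup (fun l : Common S j k => W ⊓ S.O l.1) l)) le_rfl d hcompat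
  obtain ⟨g₁, hg₁⟩ := (S.supp k W).2 (rs (S.G k) hsup g₀)
  have hg : rs (S.G k) hsup' g₁ = g₀ := by
    refine rs_injective S k (le_inf hsup' le_rfl |>.trans inf_le_right |> fun _ =>
      (inf_le_left : (⨆ l : Common S j k, W ⊓ S.O l.1) ⊓ S.O k ≤ _)) le_rfl ?_
    have := congrArg (rs (S.G k) (inf_le_inf_right (S.O k) hsup')) hg₁
    rw [rs_rs, rs_rs] at this
    rw [rs_rs]
    exact this
  refine ⟨g₁, fun l => ?_, fun g' hg' => ?_⟩
  · have : rs (S.G k) (inf_le_left : W ⊓ S.O l.1 ≤ W) g₁ = d l := by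
      have := hg₀ l
      rw [← hg] at this
      exact (rs_rs (S.G k) hsup' _ g₁).symm.trans this
    rw [this, hd l]
  · refine rs_injective S k hsup' hsup ?_
    rw [hg]
    refine hu₀ _ fun l => ?_
    refine (rs_rs (S.G k) hsup' _ g').trans ((S.bij l.2.2 (W ⊓ S.O l.1) inf_le_right).1 ?_)
    rw [hg' l, hd l]

theorem π_bijective (j : S.J) {W : P.Opens} (hW : W ≤ S.O j) : Function.Bijective ((π S j).app W) := by
  constructor
  · intro (f : sec S W) (f' : sec S W) h
    refine Subtype.ext (funext fun k => (exists_transition S j k hW (f.1 j)).unique ?_ ?_) <;> intro l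
    · rw [← rs_app, ← rs_app, f.2 _ _ l.2.1, f.2 _ _ l.2.2]
    · rw [show f.1 j = f'.1 j from h, ← rs_app, ← rs_app, f'.2 _ _ l.2.1, f'.2 _ _ l.2.2]
  · intro t
    choose g hg hgu using fun k => exists_transition S j k hW t
    have hmem : g ∈ sec S W := by
      intro l k h
      refine hgu l _ fun m => ?_
      rw [rs_app]
      change (S.c h ≫ S.c m.2.2).app _ (rs (S.G k) inf_le_left (g k)) = _
      rw [S.comp]
      exact hg k ⟨m.1, m.2.1, S.trans m.2.2 h⟩
    refine ⟨(⟨g, hmem⟩ : sec S W), ?_⟩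
    exact (hgu j t fun l => by
      obtain ⟨l, h1, h2⟩ := l
      rfl).symm

/-- The map into the glued module of a compatible family of maps. -/
def lift {F : P.Modules} (ψ : ∀ j, F ⟶ S.G j) (hψ : ∀ (l j : S.J) (h : S.rel l j), ψ j ≫ S.c h = ψ l) :
    F ⟶ glue S :=
  SheafOfModules.Hom.mk
    { app := fun W => ModuleCat.ofHom (X := F.val.obj W) (Y := (glue S).val.obj W)
        { toFun := fun t => (⟨fun j => (ψ j).app W.unop t, fun l j h =>
            congr(($(hψ l j h)).app W.unop t)⟩ : sec S W.unop)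
          map_add' := fun a b => Subtype.ext (funext fun j => map_add ((ψ j).app W.unop).hom a b)
          map_smul' := fun r a => Subtype.ext (funext fun j => (ψ j).app_smul r a) }
      naturality := fun {V W} g => ModuleCat.hom_ext (LinearMap.ext fun t =>
        Subtype.ext (funext fun j => (rs_app (ψ j) g.unop.le t).symm)) }

theorem lift_π {F : P.Modules} (ψ : ∀ j, F ⟶ S.G j) (hψ) (j : S.J) : lift S ψ hψ ≫ π S j = ψ j :=
  Scheme.Modules.hom_ext _ _ fun _ => rfl

theorem hom_ext {F : P.Modules} {a b : F ⟶ glue S} (h : ∀ j, a ≫ π S j = b ≫ π S j) : a = b := by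
  refine Scheme.Modules.hom_ext _ _ fun W => ?_
  refine AddCommGrpCat.hom_ext (AddMonoidHom.ext fun t => ?_)
  exact Subtype.ext (funext fun j => congr(($(h j)).app W t))

theorem isIso_lift {F : P.Modules} (ψ : ∀ j, F ⟶ S.G j) (hψ) (hcov : iSup S.O = ⊤)
    (hbij : ∀ (j : S.J) (W : P.Opens), W ≤ S.O j → Function.Bijective ((ψ j).app W)) :
    IsIso (lift S ψ hψ) := by
  refine LocIso.isIso_of_locally _ fun x => ?_
  obtain ⟨j, hj⟩ := Opens.mem_iSup.1 (show x ∈ iSup S.O by rw [hcov]; trivial)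
  refine ⟨S.O j, hj, fun V hV => ?_⟩
  rw [ConcreteCategory.isIso_iff_bijective]
  refine (Function.Bijective.of_comp_iff' (π_bijective S j hV) _).1 ?_
  exact hbij j V hV

/-- Two modules identified compatibly with the members of the system are uniquely isomorphic. -/
theorem existsUnique_iso {F F' : P.Modules} (ψ : ∀ j, F ⟶ S.G j) (hψ : ∀ (l j : S.J) (h : S.rel l j), ψ j ≫ S.c h = ψ l)
    (ψ' : ∀ j, F' ⟶ S.G j) (hψ' : ∀ (l j : S.J) (h : S.rel l j), ψ' j ≫ S.c h = ψ' l) (hcov : iSup S.O = ⊤)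
    (hbij : ∀ (j : S.J) (W : P.Opens), W ≤ S.O j → Function.Bijective ((ψ j).app W))
    (hbij' : ∀ (j : S.J) (W : P.Opens), W ≤ S.O j → Function.Bijective ((ψ' j).app W)) :
    (∃! φ : F ⟶ F', ∀ j, φ ≫ ψ' j = ψ j) ∧ ∀ φ : F ⟶ F', (∀ j, φ ≫ ψ' j = ψ j) → IsIso φ := by
  have i := isIso_lift S ψ hψ hcov hbij
  have i' := isIso_lift S ψ' hψ' hcov hbij'
  have key : ∀ φ : F ⟶ F', (∀ j, φ ≫ ψ' j = ψ j) → φ = lift S ψ hψ ≫ inv (lift S ψ' hψ') := fun φ hφ => by
    rw [IsIso.eq_comp_inv]
    exact hom_ext S fun j => by rw [Category.assoc, lift_π, lift_π, hφ j]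
  refine ⟨⟨lift S ψ hψ ≫ inv (lift S ψ' hψ'), fun j => ?_, key⟩, fun φ hφ => ?_⟩
  · show (lift S ψ hψ ≫ inv (lift S ψ' hψ')) ≫ _ = _
    rw [← lift_π S ψ' hψ' j, Category.assoc, IsIso.inv_hom_id_assoc, lift_π]
  · rw [key φ hφ]; infer_instance

end

end Groth.Agent.H81.RelProj.ModGlue
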