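import Groth.Agent.H81.RelProj.GrTilde.MapProps
import Groth.Agent.H81.RelProj.TildeLocal
import Groth.Agent.Lib.Modules.Stalk

/-!
# Restriction of scalars of graded modules and direct images of the attached modules
-/

set_option autoImplicit false
set_option linter.unusedSectionVars false
universe u

open CategoryTheory AlgebraicGeometry TopologicalSpace Opposite
open scoped HomogeneousIdeal

namespace Groth.Agent.H81.RelProj.ComapIso

open GrTilde.Frac GrTilde.Basic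

noncomputable section

variable {A σT : Type u} [CommRing A] [SetLike σT A] [AddSubgroupClass σT A] {𝒜 : ℕ → σT} [GradedRing 𝒜]
  {B σ' : Type u} [CommRing B] [SetLike σ' B] [AddSubgroupClass σ' B] {ℬ : ℕ → σ'} [GradedRing ℬ]
  {M τ : Type u} [AddCommGroup M] [Module A M] [SetLike τ M] [AddSubgroupClass τ M] {ℳ : ℕ → τ}
  [SetLike.GradedSMul 𝒜 ℳ] [DirectSum.Decomposition ℳ]
  {N τ' : Type u} [AddCommGroup N] [Module B N] [SetLike τ' N] [AddSubgroupClass τ' N] {𝒩 : ℕ → τ'}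
  [SetLike.GradedSMul ℬ 𝒩] [DirectSum.Decomposition 𝒩]
  (ψ : 𝒜 →+*ᵍ ℬ) (hψ : ℬ₊ ≤ (𝒜₊).map ψ) (v : M →ₛₗ[ψ.toRingHom] N)
  (hv : ∀ (i : ℕ) (m : M), m ∈ ℳ i → v m ∈ 𝒩 i) (n : ℤ)

/-- A point of an open has a basic neighbourhood of positive degree inside it. -/
theorem exists_basic_nhd (U : Opens (ProjectiveSpectrum.top 𝒜)) (x : ProjectiveSpectrum 𝒜) (hx : x ∈ U) :
    ∃ (d : ℕ) (g : A), 0 < d ∧ g ∈ 𝒜 d ∧ g ∉ x.asHomogeneousIdeal ∧ ProjectiveSpectrum.basicOpen 𝒜 g ≤ U := by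
  obtain ⟨e, h, he, hxh, hhU⟩ := exists_homog_basicOpen_le U x hx
  obtain ⟨d, hd, f, hf, hfx⟩ := GrTilde.MapProps.exists_deg_pos_notMem x
  exact ⟨e + d, h * f, by omega, SetLike.mul_mem_graded he hf, fun hh => (x.isPrime.mem_or_mem hh).elim hxh hfx,
    fun y hy => hhU fun hh => hy (Ideal.mul_mem_right f _ hh)⟩

theorem comap_app_eq (U : (Proj 𝒜).Opens) (σ : GrMod.sect 𝒜 ℳ n (op U))
    (y : (Proj.map ψ hψ ⁻¹ᵁ U : (Proj ℬ).Opens)) :
    val ((GrMod.comap ψ hψ v hv n).app U σ : GrMod.sect ℬ 𝒩 n (op (Proj.map ψ hψ ⁻¹ᵁ U))) y =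
      GrMod.locModMap ψ hψ v y.1 (val σ ⟨ProjectiveSpectrum.comap ψ hψ y.1, y.2⟩) := rfl

include hv in
theorem app_injective (hbij : Function.Bijective v) (U : (Proj 𝒜).Opens) :
    Function.Injective ((GrMod.comap ψ hψ v hv n).app U) := by
  rw [injective_iff_map_eq_zero]
  intro (σ : GrMod.sect 𝒜 ℳ n (op U)) hσ
  refine sect_ext fun x => ?_
  obtain ⟨j, s, a, hs, ha, hsx, hrep⟩ := exists_local_rep σ x
  rw [hrep x hsx]
  change _ = (0 : GrMod.LocMod 𝒜 (M := M) x.1)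
  obtain ⟨i, hi, -⟩ := ha.exists_mem
  obtain ⟨d, g, hd, hg, hgx, hgU⟩ := exists_basic_nhd (U ⊓ ProjectiveSpectrum.basicOpen 𝒜 s) x.1 ⟨x.2, hsx⟩
  obtain ⟨K, hK⟩ := exists_pow_smul_eq_zero (m := v a) hd (ψ.map_mem hg) fun y => by
    have hy : ProjectiveSpectrum.comap ψ hψ y.1 ∈ U ⊓ ProjectiveSpectrum.basicOpen 𝒜 s := hgU y.2
    have h0 : GrMod.locModMap ψ hψ v y.1 (val σ ⟨_, hy.1⟩) = 0 :=
      (comap_app_eq ψ hψ v hv n U σ ⟨y.1, hy.1⟩).symm.trans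
        (congrArg (fun t : GrMod.sect ℬ 𝒩 n (op (Proj.map ψ hψ ⁻¹ᵁ U)) => val t ⟨y.1, hy.1⟩) hσ)
    rw [hrep ⟨_, hy.1⟩ hy.2, GrMod.locModMap_mk] at h0
    exact (mk_eq_zero_iff (hv i a hi)).mp h0
  refine (mk_eq_zero_iff hi).mpr ⟨K * d, g ^ K, by simpa [smul_eq_mul] using SetLike.pow_mem_graded K hg,
    fun hh => hgx (x.1.isPrime.mem_of_pow_mem K hh), hbij.1 ?_⟩
  rw [v.map_smulₛₗ, map_zero, ← hK, map_pow]

include hv in
theorem app_surjective (hbij : Function.Bijective v) (U : (Proj 𝒜).Opens) :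
    Function.Surjective ((GrMod.comap ψ hψ v hv n).app U) := by
  intro (t : GrMod.sect ℬ 𝒩 n (op (Proj.map ψ hψ ⁻¹ᵁ U)))
  choose d g hd hg hgx hgU using fun x : U => exists_basic_nhd U x.1 x.2
  have hloc : ∀ x : U, ∃ (k : ℕ) (a : M), Deg ℳ ((k * d x : ℕ) + n) a ∧
      ∀ (y : (Proj.map ψ hψ ⁻¹ᵁ U : (Proj ℬ).Opens)) (hy : ψ (g x) ^ k ∉ y.1.asHomogeneousIdeal),
        ψ (g x) ∉ y.1.asHomogeneousIdeal → val t y = LocalizedModule.mk (v a) ⟨ψ (g x) ^ k, hy⟩ := by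
    intro x
    have hle : ProjectiveSpectrum.basicOpen ℬ (ψ (g x)) ≤ Proj.map ψ hψ ⁻¹ᵁ U := fun y hy => hgU x hy
    obtain ⟨k, i, b, hb, hi, hval⟩ := exists_frac_basicOpen (hd x) (ψ.map_mem (hg x))
      (GrMod.res ℬ 𝒩 n (homOfLE hle).op t)
    obtain ⟨a, rfl⟩ := hbij.2 b
    refine ⟨k, DirectSum.decompose ℳ a i, Or.inl ⟨i, by push_cast; exact hi, SetLike.coe_mem _⟩, fun y hy hy' => ?_⟩
    rw [TildeLocal.decompose_map v hv, DirectSum.decompose_of_mem_same 𝒩 hb]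
    exact hval ⟨y.1, hy'⟩ hy
  choose k a ha hrep using hloc
  have hgk : ∀ x : U, g x ^ k x ∈ 𝒜 (k x * d x) := fun x => by
    simpa [smul_eq_mul] using SetLike.pow_mem_graded (k x) (hg x)
  let F : ∀ x : U, GrMod.sect 𝒜 ℳ n (op (ProjectiveSpectrum.basicOpen 𝒜 (g x))) := fun x =>
    fracSec _ (hgk x) (ha x) (fun y hy hh => hy (y.isPrime.mem_of_pow_mem (k x) hh))
  have himg : ∀ (x : U) (y : ProjectiveSpectrum ℬ) (hy : ψ (g x) ∉ y.asHomogeneousIdeal),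
      GrMod.locModMap ψ hψ v y (val (F x) ⟨ProjectiveSpectrum.comap ψ hψ y, hy⟩) = val t ⟨y, hgU x hy⟩ := by
    intro x y hy
    rw [val_fracSec, GrMod.locModMap_mk]
    refine Eq.trans ?_ (hrep x ⟨y, hgU x hy⟩ (fun hh => hy (y.isPrime.mem_of_pow_mem (k x) hh)) hy).symm
    congr 1
    exact Subtype.ext (map_pow ψ (g x) (k x))
  have hagree : ∀ (x x' : U) (z : ProjectiveSpectrum 𝒜) (h : g x ∉ z.asHomogeneousIdeal)
      (h' : g x' ∉ z.asHomogeneousIdeal), val (F x) ⟨z, h⟩ = val (F x') ⟨z, h'⟩ := by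
    intro x x' z h h'
    let O : (Proj 𝒜).Opens := ProjectiveSpectrum.basicOpen 𝒜 (g x) ⊓ ProjectiveSpectrum.basicOpen 𝒜 (g x')
    have : GrMod.res 𝒜 ℳ n (homOfLE (inf_le_left : O ≤ _)).op (F x) =
        GrMod.res 𝒜 ℳ n (homOfLE (inf_le_right : O ≤ _)).op (F x') := by
      refine app_injective ψ hψ v hv n hbij O (sect_ext fun y => ?_)
      rw [comap_app_eq, comap_app_eq]
      exact (himg x y.1 y.2.1).trans (himg x' y.1 y.2.2).symm
    exact congrArg (fun σ : GrMod.sect 𝒜 ℳ n (op O) => val σ ⟨z, h, h'⟩) this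
  let vals : ∀ x : U, GrMod.LocMod 𝒜 (M := M) x.1 := fun x => val (F x) ⟨x.1, hgx x⟩
  refine ⟨secOfRep (ℳ := ℳ) (n := n) vals fun x => ⟨k x * d x + d x, g x ^ k x * g x, g x • a x,
    SetLike.mul_mem_graded (hgk x) (hg x), ((ha x).smul (hg x)).congr (by push_cast; ring),
    fun hh => (x.1.isPrime.mem_or_mem hh).elim (fun h => hgx x (x.1.isPrime.mem_of_pow_mem (k x) h)) (hgx x),
    fun y hy => ?_⟩, sect_ext fun y => ?_⟩
  · have hgy : g x ∉ y.1.asHomogeneousIdeal := fun h => hy (Ideal.mul_mem_left _ _ h)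
    refine (hagree y x y.1 (hgx y) hgy).trans ?_
    rw [val_fracSec, LocalizedModule.mk_eq]
    refine ⟨1, ?_⟩
    simp only [one_smul, Submonoid.smul_def]
    rw [smul_smul]
  · rw [comap_app_eq, val_secOfRep]
    have hy' : g ⟨_, y.2⟩ ∉ (ProjectiveSpectrum.comap ψ hψ y.1).asHomogeneousIdeal := hgx ⟨_, y.2⟩
    exact himg ⟨_, y.2⟩ y.1 hy'

theorem isIso (hbij : Function.Bijective v) : IsIso (GrMod.comap ψ hψ v hv n) :=
  (Lib.Modules.Stalk.isIso_iff_app_bijective _).mpr fun U =>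
    ⟨app_injective ψ hψ v hv n hbij U, app_surjective ψ hψ v hv n hbij U⟩

end

end Groth.Agent.H81.RelProj.ComapIso
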