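import Mathlib.AlgebraicGeometry.ProjectiveSpectrum.Functor
import Mathlib.RingTheory.Localization.Away.Basic

/-!
# Degree zero localisations of a graded ring localised at a degree zero element
-/

universe u

open HomogeneousLocalization Graded

namespace Groth.Agent.H81.RelProj.Localize

variable {A B σ τ : Type*} [CommRing A] [SetLike σ A] [AddSubgroupClass σ A]
  [CommRing B] [SetLike τ B] [AddSubgroupClass τ B]
  {𝒜 : ℕ → σ} {ℬ : ℕ → τ} [GradedRing 𝒜] [GradedRing ℬ]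

/-- `B = A[1/c]` for a degree zero element `c`, through the graded homomorphism `ψ`. -/
def IsLocHom (ψ : 𝒜 →+*ᵍ ℬ) (c : 𝒜 0) : Prop :=
  letI := ψ.toRingHom.toAlgebra
  IsLocalization.Away (c : A) B

variable {ψ : 𝒜 →+*ᵍ ℬ} {c : 𝒜 0}

theorem IsLocHom.exists_homogeneous (h : IsLocHom ψ c) {i : ℕ} {b : B} (hb : b ∈ ℬ i) :
    ∃ (k : ℕ) (a : A), a ∈ 𝒜 i ∧ b * ψ c ^ k = ψ a := by
  classical
  letI := ψ.toRingHom.toAlgebra
  haveI : IsLocalization.Away (c : A) B := h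
  obtain ⟨⟨x, _, k, rfl⟩, hx⟩ := IsLocalization.surj (Submonoid.powers (c : A)) b
  change b * ψ ((c : A) ^ k) = ψ x at hx
  refine ⟨k, DirectSum.decompose 𝒜 x i, SetLike.coe_mem _, ?_⟩
  have hc0 : ψ ((c : A) ^ k) ∈ ℬ 0 := by
    rw [map_pow]; exact SetLike.pow_mem_graded _ (ψ.map_mem c.2) |> fun h => by simpa using h
  have hbi : b * ψ ((c : A) ^ k) ∈ ℬ i := by
    simpa only [add_zero] using SetLike.mul_mem_graded (A := ℬ) hb hc0
  rw [GradedRingHom.map_directSumDecompose, ← hx, DirectSum.decompose_of_mem_same _ hbi, map_pow]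

theorem val_fromZero (x : Submonoid A) (c : 𝒜 0) :
    (fromZeroRingHom 𝒜 x c).val = Localization.mk (c : A) 1 := rfl

theorem val_fromZero_pow (x : Submonoid A) (c : 𝒜 0) (k : ℕ) :
    ((fromZeroRingHom 𝒜 x c) ^ k).val = Localization.mk ((c : A) ^ k) 1 := by
  rw [val_pow, val_fromZero, Localization.mk_pow, one_pow]

theorem map_fromZero (ψ : 𝒜 →+*ᵍ ℬ) (s : A) (c : 𝒜 0) :
    Away.map ψ s (fromZeroRingHom 𝒜 _ c) = fromZeroRingHom ℬ _ ⟨ψ c, ψ.map_mem c.2⟩ := by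
  ext
  simp [fromZeroRingHom, Away.map, HomogeneousLocalization.map_mk]

/-- `Away ℬ (ψ s) = (Away 𝒜 s)[1/c]`. -/
theorem isLocalization_away (h : IsLocHom ψ c) {i : ℕ} {s : A} (hs : s ∈ 𝒜 i) :
    letI := (Away.map ψ s).toAlgebra
    IsLocalization.Away (fromZeroRingHom 𝒜 (Submonoid.powers s) c) (Away ℬ (ψ s)) := by
  letI := ψ.toRingHom.toAlgebra
  haveI hA : IsLocalization.Away (c : A) B := h
  letI := (Away.map ψ s).toAlgebra
  rw [IsLocalization.Away, isLocalization_iff]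
  refine ⟨?_, fun z => ?_, fun {x y} hxy => ?_⟩
  · rintro ⟨_, k, rfl⟩
    change IsUnit (Away.map ψ s ((fromZeroRingHom 𝒜 _ c) ^ k))
    rw [map_pow, map_fromZero]
    refine IsUnit.pow k ?_
    obtain ⟨u, hu⟩ : IsUnit (ψ c) := IsLocalization.Away.algebraMap_isUnit (S := B) (c : A)
    -- the inverse has degree zero
    classical
    let w : B := DirectSum.decompose ℬ (↑u⁻¹ : B) 0
    have hw : ψ c * w = 1 := by
      have h1 := DirectSum.coe_decompose_mul_of_left_mem_of_le ℬ (a := ψ c) (b := (↑u⁻¹ : B)) (ψ.map_mem c.2) (le_refl 0)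
      rw [tsub_self] at h1
      rw [← h1, ← hu, Units.mul_inv, DirectSum.decompose_of_mem_same _ SetLike.GradedOne.one_mem]
    refine IsUnit.of_mul_eq_one (fromZeroRingHom ℬ _ ⟨w, SetLike.coe_mem _⟩) ?_
    rw [← map_mul]
    exact (congrArg _ (Subtype.ext hw : (⟨ψ c, ψ.map_mem c.2⟩ * ⟨w, SetLike.coe_mem _⟩ : ℬ 0) = 1)).trans (map_one _)
  · obtain ⟨n, b, hb, rfl⟩ := Away.mk_surjective ℬ (ψ.map_mem hs) z
    obtain ⟨k, a, ha, hab⟩ := h.exists_homogeneous hb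
    refine ⟨⟨Away.mk 𝒜 hs n a ha, ⟨_, k, rfl⟩⟩, ?_⟩
    change Away.mk ℬ _ n b hb * Away.map ψ s (fromZeroRingHom 𝒜 _ c ^ k) = Away.map ψ s (Away.mk 𝒜 hs n a ha)
    rw [map_pow, map_fromZero, Away.map_mk]
    ext
    rw [val_mul, val_fromZero_pow, Away.val_mk, Away.val_mk, Localization.mk_mul]
    exact congrArg₂ Localization.mk hab (mul_one _)
  · change Away.map ψ s x = Away.map ψ s y at hxy
    suffices ∀ z, Away.map ψ s z = 0 → ∃ k, fromZeroRingHom 𝒜 _ c ^ k * z = 0 by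
      obtain ⟨k, hk⟩ := this (x - y) (by rw [map_sub, hxy, sub_self])
      exact ⟨⟨_, k, rfl⟩, sub_eq_zero.1 (by rwa [← mul_sub])⟩
    intro z hz
    obtain ⟨n, a, ha, rfl⟩ := Away.mk_surjective 𝒜 hs z
    rw [Away.map_mk] at hz
    have hz' := congrArg HomogeneousLocalization.val hz
    rw [Away.val_mk, val_zero, Localization.mk_eq_mk', IsLocalization.mk'_eq_zero_iff] at hz'
    obtain ⟨⟨_, m, rfl⟩, hm⟩ := hz'
    change ψ s ^ m * ψ a = 0 at hm
    rw [← map_pow, ← map_mul] at hm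
    obtain ⟨⟨_, k, rfl⟩, hk⟩ := (IsLocalization.map_eq_zero_iff (Submonoid.powers (c : A)) B _).1 hm
    refine ⟨k, ?_⟩
    ext
    rw [val_mul, val_fromZero_pow, Away.val_mk, Localization.mk_mul, val_zero, Localization.mk_eq_mk',
      IsLocalization.mk'_eq_zero_iff]
    refine ⟨⟨_, m, rfl⟩, ?_⟩
    rw [← hk]
    ring

end Groth.Agent.H81.RelProj.Localize
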