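import Groth.Agent.Lib.RelProjBasics.Basic
import Groth.Agent.H81.RelProj.Localize
import Mathlib.AlgebraicGeometry.OpenImmersion

/-!
# The restriction maps between the charts of a relative Proj are open immersions
-/

set_option autoImplicit false
universe u

open CategoryTheory Limits AlgebraicGeometry Opposite TopologicalSpace HomogeneousLocalization Graded
open scoped HomogeneousIdeal

namespace Groth.Agent.H81.RelProj.Chart

open Groth.Agent.Lib.RelProjBasics.Basic (chartStr)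

noncomputable section

variable {Y : Scheme.{u}} (𝒮 : RelProj.QCGrAlg Y)

theorem str_res {U V : Y.Opens} (i : V ≤ U) (a : Γ(Y, U)) :
    (𝒮.presheaf.map (homOfLE i).op).hom ((𝒮.str.app (op U)).hom a) =
      (𝒮.str.app (op V)).hom ((Y.presheaf.map (homOfLE i).op).hom a) :=
  (congrArg (fun φ => φ.hom a) (𝒮.str.naturality (homOfLE i).op)).symm

/-- The restriction morphism between two charts. -/
abbrev resMap {U V : Y.Opens} (hU : IsAffineOpen U) (hV : IsAffineOpen V) (i : V ≤ U)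
    (hirr : (𝒮.deg V hV)₊ ≤ ((𝒮.deg U hU)₊).map (𝒮.res hU hV i)) :
    Proj (𝒮.deg V hV) ⟶ Proj (𝒮.deg U hU) :=
  Proj.map (𝒮.res hU hV i) hirr

theorem awayι_resMap {U V : Y.Opens} (hU : IsAffineOpen U) (hV : IsAffineOpen V) (i : V ≤ U) (hirr)
    {m : ℕ} (hm : 0 < m) (t : 𝒮.presheaf.obj (op U)) (ht : t ∈ 𝒮.deg U hU m) :
    Proj.awayι (𝒮.deg V hV) (𝒮.res hU hV i t) ((𝒮.res hU hV i).map_mem ht) hm ≫ resMap 𝒮 hU hV i hirr =
      Spec.map (CommRingCat.ofHom (Away.map (𝒮.res hU hV i) t)) ≫ Proj.awayι (𝒮.deg U hU) t ht hm :=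
  Proj.awayι_comp_map _ _ hm _ ht

theorem fromZero_strZero {U V : Y.Opens} (hU : IsAffineOpen U) (hV : IsAffineOpen V) (i : V ≤ U)
    (s : 𝒮.presheaf.obj (op U)) :
    (Away.map (𝒮.res hU hV i) s).comp ((fromZeroRingHom (𝒮.deg U hU) (Submonoid.powers s)).comp
      (𝒮.strZero U hU).hom) =
    ((fromZeroRingHom (𝒮.deg V hV) (Submonoid.powers (𝒮.res hU hV i s))).comp
      (𝒮.strZero V hV).hom).comp (Y.presheaf.map (homOfLE i).op).hom := by
  refine RingHom.ext fun a => ?_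
  simp only [RingHom.comp_apply]
  rw [Localize.map_fromZero]
  exact congrArg _ (Subtype.ext (str_res 𝒮 i a))

theorem resMap_chartStr {U V : Y.Opens} (hU : IsAffineOpen U) (hV : IsAffineOpen V) (i : V ≤ U) (hirr) :
    resMap 𝒮 hU hV i hirr ≫ chartStr 𝒮 U hU =
      chartStr 𝒮 V hV ≫ Spec.map (Y.presheaf.map (homOfLE i).op) := by
  refine (Proj.mapAffineOpenCover _ hirr).openCover.hom_ext _ _ fun s => ?_
  simp only [Scheme.AffineOpenCover.openCover_f, Proj.mapAffineOpenCover_f]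
  obtain ⟨⟨m, hm⟩, t, ht⟩ := s
  erw [reassoc_of% awayι_resMap 𝒮 hU hV i hirr hm t ht]
  simp only [chartStr]
  rw [Proj.awayι_toSpecZero_assoc]
  simp only [Category.assoc]
  erw [Proj.awayι_toSpecZero_assoc]
  rw [← Spec.map_comp, ← Spec.map_comp, ← Spec.map_comp, ← Spec.map_comp]
  exact congrArg Spec.map (CommRingCat.hom_ext (fromZero_strZero 𝒮 hU hV i t))

variable {U : Y.Opens} (hU : IsAffineOpen U) (r : Γ(Y, U))

/-- The restriction to a basic open. -/
abbrev ρ : Proj (𝒮.deg (Y.basicOpen r) (hU.basicOpen r)) ⟶ Proj (𝒮.deg U hU) :=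
  resMap 𝒮 hU (hU.basicOpen r) (Y.basicOpen_le r) (𝒮.irrelevant_le_map U hU r)

theorem isLocHom :
    Localize.IsLocHom (𝒮.res hU (hU.basicOpen r) (Y.basicOpen_le r)) ((𝒮.strZero U hU).hom r) :=
  𝒮.isQC U hU r

theorem awayMap_isLocalization {i : ℕ} {s : 𝒮.presheaf.obj (op U)} (hs : s ∈ 𝒮.deg U hU i) :
    letI := (Away.map (𝒮.res hU (hU.basicOpen r) (Y.basicOpen_le r)) s).toAlgebra
    IsLocalization.Away (fromZeroRingHom (𝒮.deg U hU) (Submonoid.powers s) ((𝒮.strZero U hU).hom r))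
      (Away (𝒮.deg (Y.basicOpen r) (hU.basicOpen r)) (𝒮.res hU (hU.basicOpen r) (Y.basicOpen_le r) s)) :=
  Localize.isLocalization_away (isLocHom 𝒮 hU r) hs

instance isOpenImmersion_ρ : IsOpenImmersion (ρ 𝒮 hU r) := by
  refine IsZariskiLocalAtTarget.of_openCover (P := @IsOpenImmersion) (Proj.affineOpenCover (𝒮.deg U hU)).openCover fun s => ?_
  let ψ := 𝒮.res hU (hU.basicOpen r) (Y.basicOpen_le r)
  letI := (Away.map ψ s.2.1).toAlgebra
  haveI := awayMap_isLocalization 𝒮 hU r s.2.2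
  haveI : IsOpenImmersion (Spec.map (CommRingCat.ofHom (Away.map ψ s.2.1))) :=
    IsOpenImmersion.of_isLocalization (fromZeroRingHom (𝒮.deg U hU) (Submonoid.powers s.2.1) ((𝒮.strZero U hU).hom r))
  have hpb : IsPullback (Spec.map (CommRingCat.ofHom (Away.map ψ s.2.1)))
      (Proj.awayι (𝒮.deg (Y.basicOpen r) (hU.basicOpen r)) (ψ s.2.1) (ψ.map_mem s.2.2) s.1.2)
      (Proj.awayι (𝒮.deg U hU) s.2.1 s.2.2 s.1.2) (ρ 𝒮 hU r) := by
    refine IsOpenImmersion.isPullback _ _ _ _ (awayι_resMap 𝒮 hU (hU.basicOpen r) (Y.basicOpen_le r) (𝒮.irrelevant_le_map U hU r) s.1.2 s.2.1 s.2.2) ?_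
    rw [Proj.opensRange_awayι, Proj.opensRange_awayι]
    exact Proj.map_preimage_basicOpen _ _ _
  have e := hpb.flip.isoPullback_inv_snd
  change IsOpenImmersion (pullback.snd (ρ 𝒮 hU r) (Proj.awayι (𝒮.deg U hU) s.2.1 s.2.2 s.1.2))
  rw [← e]
  infer_instance

theorem preimage_eq_opensRange :
    chartStr 𝒮 U hU ⁻¹ᵁ PrimeSpectrum.basicOpen r = (ρ 𝒮 hU r).opensRange := by
  let ψ := 𝒮.res hU (hU.basicOpen r) (Y.basicOpen_le r)
  haveI : IsOpenImmersion (Spec.map (Y.presheaf.map (homOfLE (Y.basicOpen_le r)).op)) := by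
    letI := (Y.presheaf.map (homOfLE (Y.basicOpen_le r)).op).hom.toAlgebra
    haveI : IsLocalization.Away r Γ(Y, Y.basicOpen r) := hU.isLocalization_basicOpen r
    exact IsOpenImmersion.of_isLocalization r
  have hrange : (Spec.map (Y.presheaf.map (homOfLE (Y.basicOpen_le r)).op)).opensRange = PrimeSpectrum.basicOpen r := by
    letI := (Y.presheaf.map (homOfLE (Y.basicOpen_le r)).op).hom.toAlgebra
    haveI : IsLocalization.Away r Γ(Y, Y.basicOpen r) := hU.isLocalization_basicOpen r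
    exact Opens.ext (PrimeSpectrum.localization_away_comap_range (Γ(Y, Y.basicOpen r)) r)
  refine le_antisymm (fun x hx => ?_) ?_
  · obtain ⟨s, y, hy⟩ := (Proj.affineOpenCover (𝒮.deg U hU)).openCover.exists_eq x
    letI := (Away.map ψ s.2.1).toAlgebra
    haveI := awayMap_isLocalization 𝒮 hU r s.2.2
    have h1 : y ∈ PrimeSpectrum.basicOpen (fromZeroRingHom (𝒮.deg U hU) (Submonoid.powers s.2.1) ((𝒮.strZero U hU).hom r)) := by
      have h2 : (Proj.awayι (𝒮.deg U hU) s.2.1 s.2.2 s.1.2 ≫ chartStr 𝒮 U hU) y ∈ PrimeSpectrum.basicOpen r := by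
        rw [Scheme.Hom.comp_apply]; exact (congrArg (fun z => chartStr 𝒮 U hU z) hy) ▸ hx
      rw [chartStr, Proj.awayι_toSpecZero_assoc, ← Spec.map_comp] at h2
      exact h2
    obtain ⟨y', hy'⟩ : y ∈ Set.range (PrimeSpectrum.comap (Away.map ψ s.2.1)) := by
      rw [show Away.map ψ s.2.1 = algebraMap _ _ from rfl,
        PrimeSpectrum.localization_away_comap_range _ (fromZeroRingHom (𝒮.deg U hU) (Submonoid.powers s.2.1) ((𝒮.strZero U hU).hom r))]
      exact h1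
    refine ⟨Proj.awayι (𝒮.deg (Y.basicOpen r) (hU.basicOpen r)) (ψ s.2.1) (ψ.map_mem s.2.2) s.1.2 y', ?_⟩
    rw [← Scheme.Hom.comp_apply]
    erw [awayι_resMap 𝒮 hU (hU.basicOpen r) (Y.basicOpen_le r) (𝒮.irrelevant_le_map U hU r) s.1.2 s.2.1 s.2.2, Scheme.Hom.comp_apply]
    exact (congrArg _ hy').trans hy
  · rintro _ ⟨z, rfl⟩
    show (ρ 𝒮 hU r ≫ chartStr 𝒮 U hU) z ∈ PrimeSpectrum.basicOpen r
    rw [resMap_chartStr, Scheme.Hom.comp_apply, ← hrange]
    exact ⟨_, rfl⟩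

end

end Groth.Agent.H81.RelProj.Chart
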