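import Groth.Agent.H81.RelProj.Exists
import Groth.Agent.Lib.RelProjBasics.Glue
import Groth.Agent.Lib.ProjMor.Pieces
import Mathlib.AlgebraicGeometry.Morphisms.ClosedImmersion

/-!
# Morphisms of relative Proj's; reducedness
-/

set_option autoImplicit false
universe u

open CategoryTheory Limits AlgebraicGeometry Opposite TopologicalSpace HomogeneousLocalization Graded
open scoped HomogeneousIdeal

namespace Groth.Agent.H81.RelProj.Map

open Groth.Agent.Lib.RelProjBasics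

noncomputable section

section Proj

variable {A B σ τ : Type u} [CommRing A] [SetLike σ A] [AddSubgroupClass σ A]
  [CommRing B] [SetLike τ B] [AddSubgroupClass τ B]
  {𝒜 : ℕ → σ} {ℬ : ℕ → τ} [GradedRing 𝒜] [GradedRing ℬ]

theorem awayMap_surjective (φ : 𝒜 →+*ᵍ ℬ) (hsurj : Function.Surjective φ) {i : ℕ} {s : A} (hs : s ∈ 𝒜 i) :
    Function.Surjective (Away.map φ s) := by
  classical
  intro z
  obtain ⟨d, b, hb, rfl⟩ := Away.mk_surjective ℬ (φ.map_mem hs) z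
  obtain ⟨x, rfl⟩ := hsurj b
  refine ⟨Away.mk 𝒜 hs d (DirectSum.decompose 𝒜 x (d • i)) (SetLike.coe_mem _), ?_⟩
  apply val_injective
  rw [Away.map_mk, Away.val_mk, Away.val_mk]
  congr 1
  exact (GradedRingHom.map_directSumDecompose 𝒜 ℬ φ).trans (DirectSum.decompose_of_mem_same ℬ hb)

theorem isClosedImmersion_map (φ : 𝒜 →+*ᵍ ℬ) (hsurj : Function.Surjective φ) (hφ : ℬ₊ ≤ 𝒜₊.map φ) :
    IsClosedImmersion (Proj.map φ hφ) := by
  refine IsZariskiLocalAtTarget.of_iSup_eq_top (P := @IsClosedImmersion)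
    (fun p : Σ d : ℕ, {a : A // 0 < d ∧ a ∈ 𝒜 d} => Proj.basicOpen 𝒜 p.2.1) ?_ fun ⟨d, a, hd, ha⟩ => ?_
  · refine Proj.iSup_basicOpen_eq_top 𝒜 _ ?_
    rw [HomogeneousIdeal.toIdeal_irrelevant_le]
    exact fun i hi x hx => Ideal.subset_span ⟨⟨i, x, hi, hx⟩, rfl⟩
  · refine Groth.Agent.Lib.ProjMor.Pieces.isClosedImmersion_restrict _ (Proj.isAffineOpen_basicOpen 𝒜 a ha hd)
      (Proj.isAffineOpen_basicOpen ℬ (φ a) (φ.map_mem ha) hd) (Proj.map_preimage_basicOpen φ hφ a) ?_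
    intro z
    have hiso : IsIso (Proj.awayToSection ℬ (φ a)) :=
      (Proj.basicOpenIsoAway ℬ (φ a) (φ.map_mem ha) hd).isIso_hom
    obtain ⟨w, rfl⟩ := (ConcreteCategory.bijective_of_isIso (Proj.awayToSection ℬ (φ a))).2 z
    obtain ⟨v, rfl⟩ := awayMap_surjective φ hsurj ha w
    exact ⟨Proj.awayToSection 𝒜 a v,
      DFunLike.congr_fun (congrArg CommRingCat.Hom.hom (Proj.awayToSection_comp_appLE φ hφ ha)) v⟩

theorem isReduced_away (hred : ∀ f ∈ (𝒜₊).toIdeal, IsNilpotent f → f = 0) {i : ℕ} (hi : 0 < i) {s : A}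
    (hs : s ∈ 𝒜 i) : _root_.IsReduced (Away 𝒜 s) := by
  refine ⟨fun z ⟨k, hk⟩ => ?_⟩
  obtain ⟨n, a, ha, rfl⟩ := Away.mk_surjective 𝒜 hs z
  have hk' := congrArg HomogeneousLocalization.val hk
  rw [val_pow, Away.val_mk, val_zero, Localization.mk_pow, Localization.mk_eq_mk', IsLocalization.mk'_eq_zero_iff] at hk'
  obtain ⟨⟨_, m, rfl⟩, hm⟩ := hk'
  change s ^ m * a ^ k = 0 at hm
  have hsa : s * a ∈ (𝒜₊).toIdeal :=
    Ideal.mul_mem_right _ _ (HomogeneousIdeal.mem_irrelevant_of_mem _ hi hs)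
  have hnil : IsNilpotent (s * a) := ⟨m + k, by
    rw [mul_pow, pow_add, pow_add, show s ^ m * s ^ k * (a ^ m * a ^ k) = s ^ k * a ^ m * (s ^ m * a ^ k) by ring,
      hm, mul_zero]⟩
  have h0 := hred _ hsa hnil
  ext
  rw [Away.val_mk, val_zero, Localization.mk_eq_mk', IsLocalization.mk'_eq_zero_iff]
  exact ⟨⟨s, 1, pow_one s⟩, h0⟩

theorem isReduced_proj (hred : ∀ f ∈ (𝒜₊).toIdeal, IsNilpotent f → f = 0) :
    AlgebraicGeometry.IsReduced (Proj 𝒜) := by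
  haveI : ∀ s, AlgebraicGeometry.IsReduced ((Proj.affineOpenCover 𝒜).openCover.X s) := fun s => by
    haveI := isReduced_away hred s.1.2 s.2.2
    exact (inferInstance : AlgebraicGeometry.IsReduced (Spec (CommRingCat.of (Away 𝒜 s.2.1))))
  exact IsReduced.of_openCover _ (Proj.affineOpenCover 𝒜).openCover

end Proj

variable {Y PA PB : Scheme.{u}} {𝒜 ℬ : RelProj.QCGrAlg Y} (φ : 𝒜.toQCAlg ⟶ ℬ.toQCAlg) (hφ : RelProj.IsGradedHom φ)
  (hirr : ∀ (U : Y.Opens) (hU : IsAffineOpen U),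
      (ℬ.deg U hU)₊ ≤ ((𝒜.deg U hU)₊).map (RelProj.gradedHomAt φ hφ U hU))
  {pA : PA ⟶ Y} {pB : PB ⟶ Y}
  {chartA : ∀ (U : Y.Opens) (hU : IsAffineOpen U), (((pA ⁻¹ᵁ U : PA.Opens) : Scheme.{u}) ≅ Proj (𝒜.deg U hU))}
  {chartB : ∀ (U : Y.Opens) (hU : IsAffineOpen U), (((pB ⁻¹ᵁ U : PB.Opens) : Scheme.{u}) ≅ Proj (ℬ.deg U hU))}

theorem res_comp_gradedHomAt {U : Y.Opens} (hU : IsAffineOpen U) (r : Γ(Y, U)) :
    (ℬ.res hU (hU.basicOpen r) (Y.basicOpen_le r)).comp (RelProj.gradedHomAt φ hφ U hU) =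
      (RelProj.gradedHomAt φ hφ (Y.basicOpen r) (hU.basicOpen r)).comp (𝒜.res hU (hU.basicOpen r) (Y.basicOpen_le r)) :=
  GradedRingHom.ext fun x => (congrArg (fun ψ => ψ.hom x) (φ.hom.naturality (homOfLE (Y.basicOpen_le r)).op)).symm

theorem zero_comp_gradedHomAt {U : Y.Opens} (hU : IsAffineOpen U) {s : 𝒜.presheaf.obj (op U)} :
    (Away.map (RelProj.gradedHomAt φ hφ U hU) s).comp ((fromZeroRingHom (𝒜.deg U hU) (Submonoid.powers s)).comp
      (𝒜.strZero U hU).hom) =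
    (fromZeroRingHom (ℬ.deg U hU) (Submonoid.powers (RelProj.gradedHomAt φ hφ U hU s))).comp (ℬ.strZero U hU).hom := by
  refine RingHom.ext fun a => ?_
  simp only [RingHom.comp_apply]
  rw [Localize.map_fromZero]
  exact congrArg _ (Subtype.ext (congrArg (fun ψ => (ψ.app (op U)).hom a) φ.comm))

theorem map_chartStr (U : Y.Opens) (hU : IsAffineOpen U) :
    Proj.map (RelProj.gradedHomAt φ hφ U hU) (hirr U hU) ≫ Basic.chartStr 𝒜 U hU = Basic.chartStr ℬ U hU := by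
  refine (Proj.mapAffineOpenCover _ (hirr U hU)).openCover.hom_ext _ _ fun s => ?_
  simp only [Scheme.AffineOpenCover.openCover_f, Proj.mapAffineOpenCover_f]
  obtain ⟨⟨m, hm⟩, t, ht⟩ := s
  erw [Proj.awayι_comp_map_assoc (RelProj.gradedHomAt φ hφ U hU) (hirr U hU) hm t ht]
  simp only [Basic.chartStr]
  rw [Proj.awayι_toSpecZero_assoc]
  erw [Proj.awayι_toSpecZero_assoc]
  rw [← Spec.map_comp, ← Spec.map_comp, ← Spec.map_comp]
  exact congrArg Spec.map (CommRingCat.hom_ext (zero_comp_gradedHomAt φ hφ hU (s := t)))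

theorem existsUnique (hA : RelProj.IsRelProj 𝒜 pA chartA) (hB : RelProj.IsRelProj ℬ pB chartB) :
    (∃! h : PB ⟶ PA, RelProj.IsRelProjMap φ hφ hirr chartA chartB h) ∧
      ∀ h : PB ⟶ PA, RelProj.IsRelProjMap φ hφ hirr chartA chartB h → h ≫ pA = pB := by
  refine ⟨Glue.existsUnique_glue pB _ fun U hU r => ?_, fun h hh => Glue.hom_ext pB fun U hU => ?_⟩
  · have e2 : Proj.map (𝒜.res hU (hU.basicOpen r) (Y.basicOpen_le r)) (𝒜.irrelevant_le_map U hU r) ≫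
        (chartA U hU).inv = (chartA _ (hU.basicOpen r)).inv ≫ PA.homOfLE (pA.preimage_mono (Y.basicOpen_le r)) := by
      rw [Iso.comp_inv_eq, Category.assoc, hA.chart_res, Iso.inv_hom_id_assoc]
    have e3 : Proj.map (ℬ.res hU (hU.basicOpen r) (Y.basicOpen_le r)) (ℬ.irrelevant_le_map U hU r) ≫
        Proj.map (RelProj.gradedHomAt φ hφ U hU) (hirr U hU) =
        Proj.map (RelProj.gradedHomAt φ hφ _ (hU.basicOpen r)) (hirr _ _) ≫
          Proj.map (𝒜.res hU (hU.basicOpen r) (Y.basicOpen_le r)) (𝒜.irrelevant_le_map U hU r) := by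
      rw [← Proj.map_comp, ← Proj.map_comp]
      congr 1
      exact res_comp_gradedHomAt φ hφ hU r
    rw [reassoc_of% hB.chart_res U hU r, reassoc_of% e3, reassoc_of% e2, Scheme.homOfLE_ι]
  · rw [← Category.assoc, hh U hU]
    simp only [Category.assoc]
    rw [← hA.chart_over U hU, Iso.inv_hom_id_assoc, ← hB.chart_over U hU]
    congr 1
    simpa only [Basic.chartStr, Category.assoc] using (map_chartStr φ hφ hirr U hU) =≫ hU.fromSpec

theorem isClosedImmersion (hA : RelProj.IsRelProj 𝒜 pA chartA) (hB : RelProj.IsRelProj ℬ pB chartB)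
    (hsurj : ∀ (U : Y.Opens) (hU : IsAffineOpen U), Function.Surjective (φ.hom.app (op U)).hom)
    (h : PB ⟶ PA) (hh : RelProj.IsRelProjMap φ hφ hirr chartA chartB h) : IsClosedImmersion h := by
  have hover := (existsUnique φ hφ hirr hA hB).2 h hh
  refine IsZariskiLocalAtTarget.of_iSup_eq_top (P := @IsClosedImmersion) (fun U : Y.affineOpens => pA ⁻¹ᵁ U.1)
    (Glue.iSup_preimage pA) fun U => ?_
  obtain ⟨U, hU⟩ := U
  have hpre : h ⁻¹ᵁ (pA ⁻¹ᵁ U) = pB ⁻¹ᵁ U := by rw [← Scheme.Hom.comp_preimage, hover]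
  have e : h ∣_ (pA ⁻¹ᵁ U) = (PB.isoOfEq hpre).hom ≫ (chartB U hU).hom ≫
      Proj.map (RelProj.gradedHomAt φ hφ U hU) (hirr U hU) ≫ (chartA U hU).inv := by
    rw [← cancel_mono (pA ⁻¹ᵁ U).ι, morphismRestrict_ι]
    simp only [Category.assoc]
    rw [← hh U hU, Scheme.isoOfEq_hom_ι_assoc]
  rw [e]
  haveI := isClosedImmersion_map (RelProj.gradedHomAt φ hφ U hU) (hsurj U hU) (hirr U hU)
  infer_instance

theorem isReduced {P : Scheme.{u}} (𝒮 : RelProj.QCGrAlg Y)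
    (hred : ∀ (U : Y.Opens) (hU : IsAffineOpen U) (x : 𝒮.presheaf.obj (op U)),
      x ∈ (𝒮.deg U hU)₊ → IsNilpotent x → x = 0)
    (p : P ⟶ Y)
    (chart : ∀ (U : Y.Opens) (hU : IsAffineOpen U), (((p ⁻¹ᵁ U : P.Opens) : Scheme.{u}) ≅ Proj (𝒮.deg U hU))) :
    AlgebraicGeometry.IsReduced P := by
  let 𝒰 := P.openCoverOfIsOpenCover _ (Glue.iSup_preimage p)
  haveI : ∀ U, AlgebraicGeometry.IsReduced (𝒰.X U) := fun U => by
    haveI := isReduced_proj (𝒜 := 𝒮.deg U.1 U.2) (fun f hf => hred U.1 U.2 f hf)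
    exact isReduced_of_isOpenImmersion (chart U.1 U.2).hom
  exact IsReduced.of_openCover _ 𝒰

end

end Groth.Agent.H81.RelProj.Map
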