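import Groth.Agent.H81.RelProj.RelFun
import Groth.Agent.H81.RelProj.Map

/-!
# The comparison of attached modules along an induced morphism of relative Proj's
-/

set_option autoImplicit false
universe u

open CategoryTheory AlgebraicGeometry TopologicalSpace Opposite
open scoped HomogeneousIdeal

namespace Groth.Agent.H81.RelProj.RelComap

open Groth.Agent.Lib.TensorMod.Dual (rs rs_self rs_rs)

noncomputable section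

/-- The direct image of a gluing datum. -/
def push {PA PB : Scheme.{u}} (h : PB ⟶ PA) (S : ModGlue.Datum PB) (O' : S.J → PA.Opens)
    (hO : ∀ j, h ⁻¹ᵁ O' j = S.O j) (hle : ∀ l j, S.rel l j → O' l ≤ O' j)
    (hcommon : ∀ (j k : S.J) (x : PA), x ∈ O' j → x ∈ O' k → ∃ l, S.rel l j ∧ S.rel l k ∧ x ∈ O' l) :
    ModGlue.Datum PA where
  J := S.J
  rel := S.rel
  O := O'
  G j := (Scheme.Modules.pushforward h).obj (S.G j)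
  c r := (Scheme.Modules.pushforward h).map (S.c r)
  trans := S.trans
  comp r₁ r₂ := by rw [← Functor.map_comp, S.comp]
  supp j W := by
    have e : h ⁻¹ᵁ (W ⊓ O' j) = h ⁻¹ᵁ W ⊓ S.O j := by rw [← hO j]; rfl
    have key : ∀ (V : PB.Opens) (i : V ≤ h ⁻¹ᵁ W), V = h ⁻¹ᵁ W ⊓ S.O j → Function.Bijective (rs (S.G j) i) := by
      rintro V i rfl
      exact S.supp j (h ⁻¹ᵁ W)
    exact key _ (h.preimage_mono inf_le_left) e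
  O_le r := hle _ _ r
  bij {l j} r W hW := S.bij r (h ⁻¹ᵁ W) ((h.preimage_mono hW).trans (hO l).le)
  exists_common := hcommon

section Square

variable {PA PB : Scheme.{u}}
  {A σ : Type u} [CommRing A] [SetLike σ A] [AddSubgroupClass σ A] {𝒜 : ℕ → σ} [GradedRing 𝒜]
  {M τ : Type u} [AddCommGroup M] [Module A M] [SetLike τ M] [AddSubgroupClass τ M] {ℳ : ℕ → τ}
  [SetLike.GradedSMul 𝒜 ℳ]
  {A' σ₁ : Type u} [CommRing A'] [SetLike σ₁ A'] [AddSubgroupClass σ₁ A'] {𝒜' : ℕ → σ₁} [GradedRing 𝒜']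
  {M' τ₁ : Type u} [AddCommGroup M'] [Module A' M'] [SetLike τ₁ M'] [AddSubgroupClass τ₁ M'] {ℳ' : ℕ → τ₁}
  [SetLike.GradedSMul 𝒜' ℳ']
  {B σ₂ : Type u} [CommRing B] [SetLike σ₂ B] [AddSubgroupClass σ₂ B] {ℬ : ℕ → σ₂} [GradedRing ℬ]
  {N τ₂ : Type u} [AddCommGroup N] [Module B N] [SetLike τ₂ N] [AddSubgroupClass τ₂ N] {𝒩 : ℕ → τ₂}
  [SetLike.GradedSMul ℬ 𝒩]
  {B' σ₃ : Type u} [CommRing B'] [SetLike σ₃ B'] [AddSubgroupClass σ₃ B'] {ℬ' : ℕ → σ₃} [GradedRing ℬ']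
  {N' τ₃ : Type u} [AddCommGroup N'] [Module B' N'] [SetLike τ₃ N'] [AddSubgroupClass τ₃ N'] {𝒩' : ℕ → τ₃}
  [SetLike.GradedSMul ℬ' 𝒩']

/-- The comparison into a composite direct image. -/
def toComp (ψ : 𝒜 →+*ᵍ ℬ) (hψ : ℬ₊ ≤ (𝒜₊).map ψ) (v : M →ₛₗ[ψ.toRingHom] N)
    (hv : ∀ (i : ℕ) (m : M), m ∈ ℳ i → v m ∈ 𝒩 i) (n : ℤ) (h : PB ⟶ PA) (eU : Proj 𝒜 ⟶ PA) (fU : Proj ℬ ⟶ PB)
    (e₃ : Proj.map ψ hψ ≫ eU = fU ≫ h) :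
    (Scheme.Modules.pushforward eU).obj (GrMod.tilde 𝒜 ℳ n) ⟶
      (Scheme.Modules.pushforward h).obj ((Scheme.Modules.pushforward fU).obj (GrMod.tilde ℬ 𝒩 n)) :=
  RelTilde.comapTo ψ hψ v hv n eU (fU ≫ h) e₃ ≫ (Scheme.Modules.pushforwardComp fU h).inv.app _

theorem square (ρ : 𝒜 →+*ᵍ 𝒜') (hρ : 𝒜'₊ ≤ (𝒜₊).map ρ) (w : M →ₛₗ[ρ.toRingHom] M')
    (hw : ∀ (i : ℕ) (m : M), m ∈ ℳ i → w m ∈ ℳ' i)
    (ρ' : ℬ →+*ᵍ ℬ') (hρ' : ℬ'₊ ≤ (ℬ₊).map ρ') (w' : N →ₛₗ[ρ'.toRingHom] N')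
    (hw' : ∀ (i : ℕ) (m : N), m ∈ 𝒩 i → w' m ∈ 𝒩' i)
    (ψ : 𝒜 →+*ᵍ ℬ) (hψ : ℬ₊ ≤ (𝒜₊).map ψ) (v : M →ₛₗ[ψ.toRingHom] N)
    (hv : ∀ (i : ℕ) (m : M), m ∈ ℳ i → v m ∈ 𝒩 i)
    (ψ' : 𝒜' →+*ᵍ ℬ') (hψ' : ℬ'₊ ≤ (𝒜'₊).map ψ') (v' : M' →ₛₗ[ψ'.toRingHom] N')
    (hv' : ∀ (i : ℕ) (m : M'), m ∈ ℳ' i → v' m ∈ 𝒩' i)
    (hcr : ∀ a, ψ' (ρ a) = ρ' (ψ a)) (hcm : ∀ m, v' (w m) = w' (v m)) (n : ℤ)
    (h : PB ⟶ PA) (eU : Proj 𝒜 ⟶ PA) (eD : Proj 𝒜' ⟶ PA) (fU : Proj ℬ ⟶ PB) (fD : Proj ℬ' ⟶ PB)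
    (e₁ : Proj.map ρ hρ ≫ eU = eD) (e₂ : Proj.map ρ' hρ' ≫ fU = fD) (e₃ : Proj.map ψ hψ ≫ eU = fU ≫ h)
    (e₄ : Proj.map ψ' hψ' ≫ eD = fD ≫ h) :
    RelTilde.comapTo ρ hρ w hw n eU eD e₁ ≫ toComp ψ' hψ' v' hv' n h eD fD e₄ =
      toComp ψ hψ v hv n h eU fU e₃ ≫
        (Scheme.Modules.pushforward h).map (RelTilde.comapTo ρ' hρ' w' hw' n fU fD e₂) := by
  refine Scheme.Modules.hom_ext _ _ fun W => AddCommGrpCat.hom_ext (AddMonoidHom.ext fun t => ?_)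
  change GrMod.comapApp ψ' hψ' v' hv' n (eD ⁻¹ᵁ W) (fD ⁻¹ᵁ (h ⁻¹ᵁ W))
      (RelTilde.hsub_gen ψ' hψ' eD (fD ≫ h) e₄ W)
      (GrMod.comapApp ρ hρ w hw n (eU ⁻¹ᵁ W) (eD ⁻¹ᵁ W) (RelTilde.hsub_gen ρ hρ eU eD e₁ W) t) =
    GrMod.comapApp ρ' hρ' w' hw' n (fU ⁻¹ᵁ (h ⁻¹ᵁ W)) (fD ⁻¹ᵁ (h ⁻¹ᵁ W))
      (RelTilde.hsub_gen ρ' hρ' fU fD e₂ (h ⁻¹ᵁ W))
      (GrMod.comapApp ψ hψ v hv n (eU ⁻¹ᵁ W) (fU ⁻¹ᵁ (h ⁻¹ᵁ W)) (RelTilde.hsub_gen ψ hψ eU (fU ≫ h) e₃ W) t)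
  let vv : M →ₛₗ[(ψ'.comp ρ).toRingHom] N' :=
    { toFun := fun m => v' (w m)
      map_add' := fun a b => by rw [map_add, map_add]
      map_smul' := fun a m => by rw [LinearMap.map_smulₛₗ, LinearMap.map_smulₛₗ]; rfl }
  have hsub₂ : (fD ⁻¹ᵁ (h ⁻¹ᵁ W)).1 ⊆
      ProjectiveSpectrum.comap (ψ'.comp ρ) (HomogeneousIdeal.irrelevant_le_map_comp hρ hψ') ⁻¹' (eU ⁻¹ᵁ W).1 :=
    fun y hy => RelTilde.hsub_gen ρ hρ eU eD e₁ W (RelTilde.hsub_gen ψ' hψ' eD (fD ≫ h) e₄ W hy)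
  refine (RelTilde.comapApp_comp (ψ'' := ψ'.comp ρ) (hψ'' := HomogeneousIdeal.irrelevant_le_map_comp hρ hψ')
    (v'' := vv) (hv'' := fun i m hm => hv' i _ (hw i m hm)) (fun _ => rfl) (fun _ => rfl) n _ _ _ _ _ hsub₂ t).trans
    (RelTilde.comapApp_comp (ψ'' := ψ'.comp ρ) (hψ'' := HomogeneousIdeal.irrelevant_le_map_comp hρ hψ')
    (v'' := vv) (hv'' := fun i m hm => hv' i _ (hw i m hm)) (fun a => hcr a) (fun m => hcm m) n _ _ _ _ _ hsub₂ t).symm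

/-- `square` for objects and maps that are only known to be equal to those of `square`. -/
theorem square' (ρ : 𝒜 →+*ᵍ 𝒜') (hρ : 𝒜'₊ ≤ (𝒜₊).map ρ) (w : M →ₛₗ[ρ.toRingHom] M')
    (hw : ∀ (i : ℕ) (m : M), m ∈ ℳ i → w m ∈ ℳ' i)
    (ρ' : ℬ →+*ᵍ ℬ') (hρ' : ℬ'₊ ≤ (ℬ₊).map ρ') (w' : N →ₛₗ[ρ'.toRingHom] N')
    (hw' : ∀ (i : ℕ) (m : N), m ∈ 𝒩 i → w' m ∈ 𝒩' i)
    (ψ : 𝒜 →+*ᵍ ℬ) (hψ : ℬ₊ ≤ (𝒜₊).map ψ) (v : M →ₛₗ[ψ.toRingHom] N)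
    (hv : ∀ (i : ℕ) (m : M), m ∈ ℳ i → v m ∈ 𝒩 i)
    (ψ' : 𝒜' →+*ᵍ ℬ') (hψ' : ℬ'₊ ≤ (𝒜'₊).map ψ') (v' : M' →ₛₗ[ψ'.toRingHom] N')
    (hv' : ∀ (i : ℕ) (m : M'), m ∈ ℳ' i → v' m ∈ 𝒩' i)
    (hcr : ∀ a, ψ' (ρ a) = ρ' (ψ a)) (hcm : ∀ m, v' (w m) = w' (v m)) (n : ℤ)
    (h : PB ⟶ PA) (eU : Proj 𝒜 ⟶ PA) (eD : Proj 𝒜' ⟶ PA) (fU : Proj ℬ ⟶ PB) (fD : Proj ℬ' ⟶ PB)
    (e₁ : Proj.map ρ hρ ≫ eU = eD) (e₂ : Proj.map ρ' hρ' ≫ fU = fD) (e₃ : Proj.map ψ hψ ≫ eU = fU ≫ h)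
    (e₄ : Proj.map ψ' hψ' ≫ eD = fD ≫ h)
    {XU XD : PA.Modules} {YU YD : PB.Modules}
    (hXU : XU = (Scheme.Modules.pushforward eU).obj (GrMod.tilde 𝒜 ℳ n))
    (hXD : XD = (Scheme.Modules.pushforward eD).obj (GrMod.tilde 𝒜' ℳ' n))
    (hYU : YU = (Scheme.Modules.pushforward fU).obj (GrMod.tilde ℬ 𝒩 n))
    (hYD : YD = (Scheme.Modules.pushforward fD).obj (GrMod.tilde ℬ' 𝒩' n))
    (cA : XU ⟶ XD) (cB : YU ⟶ YD) (kU : XU ⟶ (Scheme.Modules.pushforward h).obj YU)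
    (kD : XD ⟶ (Scheme.Modules.pushforward h).obj YD)
    (hcA : HEq cA (RelTilde.comapTo ρ hρ w hw n eU eD e₁)) (hcB : HEq cB (RelTilde.comapTo ρ' hρ' w' hw' n fU fD e₂))
    (hkU : HEq kU (toComp ψ hψ v hv n h eU fU e₃)) (hkD : HEq kD (toComp ψ' hψ' v' hv' n h eD fD e₄)) :
    cA ≫ kD = kU ≫ (Scheme.Modules.pushforward h).map cB := by
  subst hXU hXD hYU hYD
  obtain rfl := eq_of_heq hcA
  obtain rfl := eq_of_heq hcB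
  obtain rfl := eq_of_heq hkU
  obtain rfl := eq_of_heq hkD
  exact square ρ hρ w hw ρ' hρ' w' hw' ψ hψ v hv ψ' hψ' v' hv' hcr hcm n h eU eD fU fD e₁ e₂ e₃ e₄

end Square

variable {Y PA PB : Scheme.{u}} {𝒜 ℬ : RelProj.QCGrAlg Y} (φ : 𝒜.toQCAlg ⟶ ℬ.toQCAlg) (hφ : RelProj.IsGradedHom φ)
  (hirr : ∀ (U : Y.Opens) (hU : IsAffineOpen U),
    (ℬ.deg U hU)₊ ≤ ((𝒜.deg U hU)₊).map (RelProj.gradedHomAt φ hφ U hU))
  {pA : PA ⟶ Y} {pB : PB ⟶ Y}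
  {chartA : ∀ (U : Y.Opens) (hU : IsAffineOpen U), (((pA ⁻¹ᵁ U : PA.Opens) : Scheme.{u}) ≅ Proj (𝒜.deg U hU))}
  {chartB : ∀ (U : Y.Opens) (hU : IsAffineOpen U), (((pB ⁻¹ᵁ U : PB.Opens) : Scheme.{u}) ≅ Proj (ℬ.deg U hU))}
  {ℳ : RelProj.GrModule 𝒜} {𝒩 : RelProj.GrModule ℬ}
  (v : ∀ (U : Y.Opens) (hU : IsAffineOpen U),
    ℳ.mod.val.obj (op U) →ₛₗ[(RelProj.gradedHomAt φ hφ U hU).toRingHom] 𝒩.mod.val.obj (op U))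
  (hv : ∀ (U : Y.Opens) (hU : IsAffineOpen U) (i : ℕ) (m : ℳ.mod.val.obj (op U)),
    m ∈ ℳ.deg U hU i → v U hU m ∈ 𝒩.deg U hU i)
  (n : ℤ) (h : PB ⟶ PA)

theorem gradedHomAt_res {D U : Y.Opens} (hU : IsAffineOpen U) (hD : IsAffineOpen D) (i : D ≤ U)
    (a : 𝒜.presheaf.obj (op U)) :
    RelProj.gradedHomAt φ hφ D hD (𝒜.res hU hD i a) = ℬ.res hU hD i (RelProj.gradedHomAt φ hφ U hU a) :=
  congr(($(φ.hom.naturality (homOfLE i).op)).hom a)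

variable {φ hφ hirr}

theorem emb_map (hh : RelProj.IsRelProjMap φ hφ hirr chartA chartB h) (U : Y.affineOpens) :
    Proj.map (RelProj.gradedHomAt φ hφ U.1 U.2) (hirr U.1 U.2) ≫ RelProj.emb pA chartA U.1 U.2 =
      RelProj.emb pB chartB U.1 U.2 ≫ h := by
  rw [RelProj.emb, RelProj.emb, Category.assoc, hh U.1 U.2, Iso.inv_hom_id_assoc]

variable (hirr)

/-- The comparison on the members of the gluing data. -/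
def κ (hh : RelProj.IsRelProjMap φ hφ hirr chartA chartB h) (U : Y.affineOpens) :
    RelTilde.G pA chartA ℳ n U ⟶ (Scheme.Modules.pushforward h).obj (RelTilde.G pB chartB 𝒩 n U) :=
  toComp (RelProj.gradedHomAt φ hφ U.1 U.2) (hirr U.1 U.2) (v U.1 U.2) (hv U.1 U.2) n h
    (RelProj.emb pA chartA U.1 U.2) (RelProj.emb pB chartB U.1 U.2) (emb_map h hh U)

theorem κ_app (hh : RelProj.IsRelProjMap φ hφ hirr chartA chartB h) (U : Y.affineOpens) (W : PA.Opens)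
    (t : Γ(RelTilde.G pA chartA ℳ n U, W)) :
    (κ hirr v hv n h hh U).app W t =
      GrMod.comapApp (RelProj.gradedHomAt φ hφ U.1 U.2) (hirr U.1 U.2) (v U.1 U.2) (hv U.1 U.2) n
        (RelProj.emb pA chartA U.1 U.2 ⁻¹ᵁ W) (RelProj.emb pB chartB U.1 U.2 ⁻¹ᵁ (h ⁻¹ᵁ W))
        (RelTilde.hsub_gen _ _ _ _ (emb_map h hh U) W) t :=
  rfl

variable (hA : RelProj.IsRelProj 𝒜 pA chartA) (hB : RelProj.IsRelProj ℬ pB chartB)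
  (hh : RelProj.IsRelProjMap φ hφ hirr chartA chartB h)
  (hnat : ∀ {D U : Y.Opens} (hU : IsAffineOpen U) (hD : IsAffineOpen D) (i : D ≤ U) (m : ℳ.mod.val.obj (op U)),
    v D hD (ℳ.res hU hD i m) = 𝒩.res hU hD i (v U hU m))

include hA hB hnat in
theorem κ_c {D U : Y.affineOpens} (r : RelTilde.Rel D U) :
    RelTilde.c ℳ n hA r ≫ κ hirr v hv n h hh D =
      κ hirr v hv n h hh U ≫ (Scheme.Modules.pushforward h).map (RelTilde.c 𝒩 n hB r) := by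
  refine square' (XU := RelTilde.G pA chartA ℳ n U) (XD := RelTilde.G pA chartA ℳ n D)
    (YU := RelTilde.G pB chartB 𝒩 n U) (YD := RelTilde.G pB chartB 𝒩 n D) (𝒜.res U.2 D.2 r.le) (RelTilde.irr 𝒜 r) (ℳ.res U.2 D.2 r.le) (ℳ.res_mem U.2 D.2 r.le)
    (ℬ.res U.2 D.2 r.le) (RelTilde.irr ℬ r) (𝒩.res U.2 D.2 r.le) (𝒩.res_mem U.2 D.2 r.le)
    (RelProj.gradedHomAt φ hφ U.1 U.2) (hirr U.1 U.2) (v U.1 U.2) (hv U.1 U.2)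
    (RelProj.gradedHomAt φ hφ D.1 D.2) (hirr D.1 D.2) (v D.1 D.2) (hv D.1 D.2)
    (gradedHomAt_res φ hφ U.2 D.2 r.le) (hnat U.2 D.2 r.le) n h
    (RelProj.emb pA chartA U.1 U.2) (RelProj.emb pA chartA D.1 D.2) (RelProj.emb pB chartB U.1 U.2)
    (RelProj.emb pB chartB D.1 D.2)
    (RelTilde.map_emb hA r) (RelTilde.map_emb hB r) (emb_map h hh U) (emb_map h hh D)
    rfl rfl rfl rfl _ _ _ _ ?_ ?_ ?_ ?_ <;> exact HEq.rfl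

include hA hB hnat in
theorem existsUnique_comap (hloc : RelTilde.Loc 𝒩) {F : PA.Modules} {G : PB.Modules}
    {lam : ∀ (U : Y.Opens) (hU : IsAffineOpen U),
      F ⟶ (Scheme.Modules.pushforward (RelProj.emb pA chartA U hU)).obj (GrMod.tilde (𝒜.deg U hU) (ℳ.deg U hU) n)}
    {lam' : ∀ (U : Y.Opens) (hU : IsAffineOpen U),
      G ⟶ (Scheme.Modules.pushforward (RelProj.emb pB chartB U hU)).obj (GrMod.tilde (ℬ.deg U hU) (𝒩.deg U hU) n)}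
    (hF : RelProj.IsRelTilde 𝒜 pA chartA ℳ n F lam) (hG : RelProj.IsRelTilde ℬ pB chartB 𝒩 n G lam') :
    ∃! θ : F ⟶ (Scheme.Modules.pushforward h).obj G, ∀ U : Y.affineOpens,
      θ ≫ (Scheme.Modules.pushforward h).map (lam' U.1 U.2) = lam U.1 U.2 ≫ κ hirr v hv n h hh U := by
  have hover : h ≫ pA = pB := (Map.existsUnique φ hφ hirr hA hB).2 h hh
  have hpre : ∀ U : Y.affineOpens, h ⁻¹ᵁ (pA ⁻¹ᵁ U.1) = pB ⁻¹ᵁ U.1 := fun U => by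
    rw [← Scheme.Hom.comp_preimage, hover]
  let S := push h (RelTilde.system 𝒩 n hB hloc) (fun U => pA ⁻¹ᵁ U.1) hpre
    (fun l j r => pA.preimage_mono r.le) (fun j k x hj hk => RelTilde.exists_common j k x hj hk)
  refine RelFun.existsUnique_hom S (fun U => lam U.1 U.2 ≫ κ hirr v hv n h hh U) (fun l j r => ?_)
    (fun U => (Scheme.Modules.pushforward h).map (lam' U.1 U.2)) (fun l j r => ?_) ?_ (fun U W hW => ?_)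
  · change (lam j.1 j.2 ≫ κ hirr v hv n h hh j) ≫ (Scheme.Modules.pushforward h).map (RelTilde.c 𝒩 n hB r) = _
    rw [Category.assoc, ← κ_c hirr v hv n h hA hB hh hnat r, ← Category.assoc, RelTilde.lam_c hA hF r]
    rfl
  · change (Scheme.Modules.pushforward h).map (lam' j.1 j.2) ≫
      (Scheme.Modules.pushforward h).map (RelTilde.c 𝒩 n hB r) = _
    rw [← Functor.map_comp, RelTilde.lam_c hB hG r]
    rfl
  · refine top_le_iff.mp fun x _ => ?_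
    obtain ⟨U, hU, hx⟩ := RelFun.exists_affine_chart (p := pA) x
    exact Opens.mem_iSup.mpr ⟨(⟨U, hU⟩ : Y.affineOpens), hx⟩
  · exact hG.bijective U.1 U.2 (h ⁻¹ᵁ W) ((h.preimage_mono hW).trans (hpre U).le)

/-- The defining equation, valuewise. -/
theorem cond_iff {F : PA.Modules} {G : PB.Modules}
    (lam : ∀ (U : Y.Opens) (hU : IsAffineOpen U),
      F ⟶ (Scheme.Modules.pushforward (RelProj.emb pA chartA U hU)).obj (GrMod.tilde (𝒜.deg U hU) (ℳ.deg U hU) n))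
    (lam' : ∀ (U : Y.Opens) (hU : IsAffineOpen U),
      G ⟶ (Scheme.Modules.pushforward (RelProj.emb pB chartB U hU)).obj (GrMod.tilde (ℬ.deg U hU) (𝒩.deg U hU) n))
    (θ : F ⟶ (Scheme.Modules.pushforward h).obj G) (U : Y.affineOpens) :
    θ ≫ (Scheme.Modules.pushforward h).map (lam' U.1 U.2) = lam U.1 U.2 ≫ κ hirr v hv n h hh U ↔
      ∀ (W : PA.Opens) (s : Γ(F, W)) (y : ProjectiveSpectrum (ℬ.deg U.1 U.2))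
        (hy : (RelProj.emb pB chartB U.1 U.2).base y ∈ h ⁻¹ᵁ W)
        (hy' : (RelProj.emb pA chartA U.1 U.2).base
          (ProjectiveSpectrum.comap (RelProj.gradedHomAt φ hφ U.1 U.2) (hirr U.1 U.2) y) ∈ W),
        GrMod.val (V := RelProj.emb pB chartB U.1 U.2 ⁻¹ᵁ (h ⁻¹ᵁ W))
            ((lam' U.1 U.2).app (h ⁻¹ᵁ W) (θ.app W s)) ⟨y, hy⟩ =
          GrMod.locModMap (RelProj.gradedHomAt φ hφ U.1 U.2) (hirr U.1 U.2) (v U.1 U.2) y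
            (GrMod.val (V := RelProj.emb pA chartA U.1 U.2 ⁻¹ᵁ W) ((lam U.1 U.2).app W s) ⟨_, hy'⟩) := by
  constructor
  · intro e W s y hy hy'
    have e' : (lam' U.1 U.2).app (h ⁻¹ᵁ W) (θ.app W s) = (κ hirr v hv n h hh U).app W ((lam U.1 U.2).app W s) :=
      congr((($e).app W).hom s)
    rw [e']
    rfl
  · intro e
    refine Scheme.Modules.hom_ext _ _ fun W => AddCommGrpCat.hom_ext (AddMonoidHom.ext fun s => ?_)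
    exact Subtype.ext (funext fun y => Subtype.ext
      (e W s y.1 y.2 (RelTilde.hsub_gen _ _ _ _ (emb_map h hh U) W y.2)))

end

end Groth.Agent.H81.RelProj.RelComap
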