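import Groth.Agent.H81.RelProj.GrTilde.Invertible
import Groth.Agent.Lib.TensorMod.LocIso
import Groth.Prelude.Def_RelProj2

/-!
# Invertibility of the twisting sheaves of a relative Proj generated in degree one
-/

set_option autoImplicit false
universe u

open CategoryTheory AlgebraicGeometry TopologicalSpace Opposite
open scoped HomogeneousIdeal

namespace Groth.Agent.H81.RelProj.TwistInv

noncomputable section

theorem nonempty_restrict_iso_unit {X Z W : Scheme.{u}} {L : X.Modules} (f : Z ⟶ X) [IsOpenImmersion f]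
    (e : L.restrict f ≅ Coh.structureModule Z) (j : W ⟶ X) [IsOpenImmersion j] (h : j.opensRange ≤ f.opensRange) :
    Nonempty (L.restrict j ≅ Coh.structureModule W) := by
  have hr : Set.range j.base ⊆ Set.range f.base := h
  let g : W ⟶ Z := IsOpenImmersion.lift f j hr
  have hg : g ≫ f = j := IsOpenImmersion.lift_fac f j hr
  haveI : IsOpenImmersion (g ≫ f) := hg.symm ▸ inferInstance
  haveI : IsOpenImmersion g := IsOpenImmersion.of_comp g f
  exact ⟨(Scheme.Modules.restrictFunctorCongr hg.symm).app L ≪≫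
    (Scheme.Modules.restrictFunctorComp g f).app L ≪≫
    (Scheme.Modules.restrictFunctor g).mapIso e ≪≫ Scheme.Modules.restrictUnitIso g⟩

/-- A module identified on the range of an open immersion with a direct image restricts to the source. -/
theorem nonempty_restrict_iso {X P : Scheme.{u}} (e : X ⟶ P) [IsOpenImmersion e] {F : P.Modules} {T : X.Modules}
    (φ : F ⟶ (Scheme.Modules.pushforward e).obj T)
    (h : ∀ W : P.Opens, W ≤ e.opensRange → Function.Bijective (φ.app W)) : Nonempty (F.restrict e ≅ T) := by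
  haveI : IsIso ((Scheme.Modules.restrictFunctor e).map φ) := by
    rw [Scheme.Modules.Hom.isIso_iff_isIso_app]
    intro V
    rw [ConcreteCategory.isIso_iff_bijective]
    exact h (e ''ᵁ V) (by rintro _ ⟨z, -, rfl⟩; exact ⟨z, rfl⟩)
  exact ⟨asIso ((Scheme.Modules.restrictFunctor e).map φ) ≪≫
    (asIso (Scheme.Modules.restrictAdjunction e).counit).app T⟩

theorem irrelevant_le_span {A σ : Type u} [CommRing A] [SetLike σ A] [AddSubgroupClass σ A] (𝒜 : ℕ → σ) [GradedRing 𝒜]
    (hgen : Subring.closure ((𝒜 0 : Set A) ∪ (𝒜 1 : Set A)) = ⊤) (x : ProjectiveSpectrum 𝒜) :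
    ∃ f ∈ 𝒜 1, f ∉ x.asHomogeneousIdeal := by
  classical
  by_contra h
  push Not at h
  have key : ∀ a : A, a - (DirectSum.decompose 𝒜 a 0 : A) ∈ x.asHomogeneousIdeal.toIdeal := by
    intro a
    have ha : a ∈ Subring.closure ((𝒜 0 : Set A) ∪ (𝒜 1 : Set A)) := by rw [hgen]; trivial
    induction ha using Subring.closure_induction with
    | mem z hz =>
      rcases hz with hz | hz
      · rw [DirectSum.decompose_of_mem_same 𝒜 hz, sub_self]; exact zero_mem _
      · rw [DirectSum.decompose_of_mem_ne 𝒜 hz one_ne_zero, sub_zero]; exact h z hz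
    | zero => simp
    | one => rw [DirectSum.decompose_of_mem_same 𝒜 SetLike.GradedOne.one_mem, sub_self]; exact zero_mem _
    | add z w _ _ hz hw =>
      rw [DirectSum.decompose_add]
      convert add_mem hz hw using 1
      simp only [DirectSum.add_apply, AddMemClass.coe_add]
      ring
    | neg z _ hz =>
      change -z - GradedRing.proj 𝒜 0 (-z) ∈ _
      change z - GradedRing.proj 𝒜 0 z ∈ _ at hz
      rw [map_neg]
      convert neg_mem hz using 1
      ring
    | mul z w _ _ hz hw =>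
      have e : ((DirectSum.decompose 𝒜 (z * w) 0 : 𝒜 0) : A) =
          (DirectSum.decompose 𝒜 z 0 : A) * (DirectSum.decompose 𝒜 w 0 : A) := by
        exact map_mul (GradedRing.projZeroRingHom 𝒜) z w
      rw [e, show z * w - (DirectSum.decompose 𝒜 z 0 : A) * (DirectSum.decompose 𝒜 w 0 : A) =
        (z - (DirectSum.decompose 𝒜 z 0 : A)) * w + (DirectSum.decompose 𝒜 z 0 : A) * (w - (DirectSum.decompose 𝒜 w 0 : A)) by ring]
      exact add_mem (Ideal.mul_mem_right _ _ hz) (Ideal.mul_mem_left _ _ hw)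
  refine x.not_irrelevant_le fun a ha => ?_
  have ha0 : (DirectSum.decompose 𝒜 a 0 : A) = 0 := (HomogeneousIdeal.mem_irrelevant_iff 𝒜 a).1 ha
  simpa [ha0] using key a

theorem isInvertible {Y P : Scheme.{u}} {𝒮 : RelProj.QCGrAlg Y} (hgen : 𝒮.IsGenDegOne) {p : P ⟶ Y}
    {chart : ∀ (U : Y.Opens) (hU : IsAffineOpen U), (((p ⁻¹ᵁ U : P.Opens) : Scheme.{u}) ≅ Proj (𝒮.deg U hU))}
    {n : ℤ} {L : P.Modules}
    {lam : ∀ (U : Y.Opens) (hU : IsAffineOpen U),
      L ⟶ (Scheme.Modules.pushforward (RelProj.emb p chart U hU)).obj (GrTwist.twist (𝒮.deg U hU) n)}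
    (hL : RelProj.IsRelTwist 𝒮 p chart n L lam) : PicF.IsInvertible L := by
  intro x
  obtain ⟨U, hU, hxU, -⟩ := exists_isAffineOpen_mem_and_subset (U := ⊤) (x := p x) trivial
  have hrange : (RelProj.emb p chart U hU).opensRange = p ⁻¹ᵁ U := by
    change ((chart U hU).inv ≫ (p ⁻¹ᵁ U).ι).opensRange = p ⁻¹ᵁ U
    rw [Scheme.Hom.opensRange_comp_of_isIso, Scheme.Opens.opensRange_ι]
  obtain ⟨y, hy⟩ : x ∈ (RelProj.emb p chart U hU).opensRange := by rw [hrange]; exact hxU
  obtain ⟨D, hyD, ⟨eD⟩⟩ := GrTilde.Invertible.twist_isInvertible_of_cover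
    (irrelevant_le_span (𝒮.deg U hU) (hgen U hU)) n y
  obtain ⟨i⟩ := nonempty_restrict_iso (RelProj.emb p chart U hU) (lam U hU)
    (fun W hW => hL.bijective U hU W (hrange ▸ hW))
  refine ⟨(D.ι ≫ RelProj.emb p chart U hU).opensRange, ⟨⟨y, hyD⟩, hy⟩, ?_⟩
  refine nonempty_restrict_iso_unit (D.ι ≫ RelProj.emb p chart U hU) ?_ _ (by rw [Scheme.Opens.opensRange_ι])
  exact (Scheme.Modules.restrictFunctorComp D.ι (RelProj.emb p chart U hU)).app L ≪≫
    (Scheme.Modules.restrictFunctor D.ι).mapIso i ≪≫ eD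

end

end Groth.Agent.H81.RelProj.TwistInv
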