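import Groth.Agent.H81.RelProj.RelTilde
import Groth.Agent.H81.RelProj.GrTilde.MapProps

/-!
# Bijectivity of `α_n` passes to the localization at an element of degree zero
-/

set_option autoImplicit false
set_option linter.unusedSectionVars false
set_option linter.style.haveILetI false
universe u

open CategoryTheory AlgebraicGeometry TopologicalSpace Opposite
open scoped HomogeneousIdeal

namespace Groth.Agent.H81.RelProj.AlphaUniform

open GrTilde.Frac GrTilde.Basic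

noncomputable section

variable {A σ : Type u} [CommRing A] [SetLike σ A] [AddSubgroupClass σ A] {𝒜 : ℕ → σ} [GradedRing 𝒜]
variable {M τ : Type u} [AddCommGroup M] [Module A M] [SetLike τ M] [AddSubgroupClass τ M] {ℳ : ℕ → τ}
  [SetLike.GradedSMul 𝒜 ℳ] [DirectSum.Decomposition ℳ]

/-- The homogeneous elements `g` cover the spectrum. -/
def IsGens (s : Finset A) : Prop :=
  (∀ g ∈ s, ∃ d, 0 < d ∧ g ∈ 𝒜 d) ∧ ∀ x : ProjectiveSpectrum 𝒜, ∃ g ∈ s, g ∉ x.asHomogeneousIdeal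

theorem exists_isGens [IsNoetherianRing A] : ∃ s : Finset A, IsGens (𝒜 := 𝒜) s := by
  obtain ⟨s, hs, hspan⟩ := (Submodule.fg_span_iff_fg_span_finset_subset {f : A | ∃ d, 0 < d ∧ f ∈ 𝒜 d}).1
    (IsNoetherian.noetherian (Submodule.span A _))
  refine ⟨s, fun g hg => hs hg, fun x => ?_⟩
  by_contra! h
  obtain ⟨d, hd, f, hf, hfx⟩ := GrTilde.MapProps.exists_deg_pos_notMem x
  refine hfx ?_
  have hf' : f ∈ Submodule.span A (s : Set A) := hspan ▸ Submodule.subset_span ⟨d, hd, hf⟩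
  exact (Ideal.span_le (I := x.asHomogeneousIdeal.toIdeal)).2 (fun g hg => h g hg) hf'

theorem mem_of_deg_zero_smul {c : A} (hc : c ∈ 𝒜 0) {n : ℕ} {m : M} (hm : m ∈ ℳ n) (k : ℕ) :
    c ^ k • m ∈ ℳ n := by
  have h : c ^ k • m ∈ ℳ (k • 0 + n) := SetLike.GradedSMul.smul_mem (SetLike.pow_mem_graded k hc) hm
  simpa using h

variable {c : 𝒜 0} {n : ℕ} {s : Finset A}

theorem val_alpha (m : ℳ n) (x : ProjectiveSpectrum 𝒜) :
    val (GrMod.alpha 𝒜 ℳ n m : GrMod.sect 𝒜 ℳ (n : ℤ) (op ⊤)) ⟨x, trivial⟩ = LocalizedModule.mk (m : M) 1 :=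
  rfl

theorem eq_zero_of_forall (hbij : Function.Injective (GrMod.alpha 𝒜 ℳ n)) {m : M} (hm : m ∈ ℳ n)
    (h : ∀ x : ProjectiveSpectrum 𝒜, (LocalizedModule.mk m 1 : GrMod.LocMod 𝒜 (M := M) x) = 0) : m = 0 := by
  have e : GrMod.alpha 𝒜 ℳ n ⟨m, hm⟩ = GrMod.alpha 𝒜 ℳ n 0 :=
    sect_ext (U := ⊤) fun x => (val_alpha ⟨m, hm⟩ x.1).trans ((h x.1).trans (by
      refine Eq.symm ((val_alpha 0 x.1).trans ?_)
      rw [ZeroMemClass.coe_zero, LocalizedModule.zero_mk]))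
  exact congrArg Subtype.val (hbij e)

/-- An element vanishing where `c` is invertible is killed by a power of `c`. -/
theorem exists_pow_smul_of_vanish (hs : IsGens (𝒜 := 𝒜) s) (hbij : Function.Injective (GrMod.alpha 𝒜 ℳ n))
    {m : M} (hm : m ∈ ℳ n)
    (h : ∀ x : ProjectiveSpectrum 𝒜, (c : A) ∉ x.asHomogeneousIdeal →
      (LocalizedModule.mk m 1 : GrMod.LocMod 𝒜 (M := M) x) = 0) : ∃ K : ℕ, (c : A) ^ K • m = 0 := by
  classical
  have hK : ∀ g : {g // g ∈ s}, ∃ K : ℕ, ((c : A) * g.1) ^ K • m = 0 := fun g => by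
    obtain ⟨d, hd, hg⟩ := hs.1 g.1 g.2
    have hcg : (c : A) * g.1 ∈ 𝒜 d := by simpa using SetLike.mul_mem_graded c.2 hg
    exact exists_pow_smul_eq_zero hd hcg fun x =>
      (mk_eq_zero_iff hm).1 (h x.1 fun hh => x.2 (Ideal.mul_mem_right _ _ hh))
  choose K hK using hK
  refine ⟨Finset.univ.sup K, eq_zero_of_forall hbij (mem_of_deg_zero_smul c.2 hm _) fun x => ?_⟩
  obtain ⟨g, hg, hgx⟩ := hs.2 x
  obtain ⟨d, hd, hgd⟩ := hs.1 g hg
  refine (mk_eq_zero_iff (mem_of_deg_zero_smul c.2 hm _)).2 ⟨_, g ^ Finset.univ.sup K,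
    SetLike.pow_mem_graded _ hgd, fun hh => hgx (x.isPrime.mem_of_pow_mem _ hh), ?_⟩
  rw [smul_smul, ← mul_pow, mul_comm g]
  obtain ⟨l, hl⟩ := Nat.exists_eq_add_of_le (Finset.le_sup (f := K) (Finset.mem_univ ⟨g, hg⟩))
  rw [hl, add_comm, pow_add, mul_smul, hK ⟨g, hg⟩, smul_zero]

set_option maxHeartbeats 1000000 in
/-- A section where `c` is invertible extends after multiplication by a power of `c`. -/
theorem exists_extend (hs : IsGens (𝒜 := 𝒜) s) (hbij : Function.Surjective (GrMod.alpha 𝒜 ℳ n))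
    (σ' : GrMod.sect 𝒜 ℳ (n : ℤ) (op (ProjectiveSpectrum.basicOpen 𝒜 (c : A)))) :
    ∃ (e : ℕ) (m : M), m ∈ ℳ n ∧ ∀ x : ProjectiveSpectrum.basicOpen 𝒜 (c : A),
      (LocalizedModule.mk m 1 : GrMod.LocMod 𝒜 (M := M) x.1) = (c : A) ^ e • val σ' x := by
  classical
  choose d hd hg using fun g : {g // g ∈ s} => hs.1 g.1 g.2
  have hcg : ∀ g : {g // g ∈ s}, (c : A) * g.1 ∈ 𝒜 (d g) := fun g => by
    simpa using SetLike.mul_mem_graded c.2 (hg g)
  have hle : ∀ g : {g // g ∈ s},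
      ProjectiveSpectrum.basicOpen 𝒜 ((c : A) * g.1) ≤ ProjectiveSpectrum.basicOpen 𝒜 (c : A) :=
    fun g x hx hh => hx (Ideal.mul_mem_right _ _ hh)
  choose k₀ i₀ a₀ ha₀ hi₀ hrep₀ using fun g : {g // g ∈ s} =>
    exists_frac_basicOpen (hd g) (hcg g) (GrMod.res 𝒜 ℳ (n : ℤ) (homOfLE (hle g)).op σ')
  let k := Finset.univ.sup k₀
  let a : {g // g ∈ s} → M := fun g => ((c : A) * g.1) ^ (k - k₀ g) • a₀ g
  have ha : ∀ g, a g ∈ ℳ (k * d g + n) := fun g => by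
    have h : a g ∈ ℳ ((k - k₀ g) • d g + i₀ g) :=
      SetLike.GradedSMul.smul_mem (SetLike.pow_mem_graded _ (hcg g)) (ha₀ g)
    have hk : k₀ g ≤ k := Finset.le_sup (f := k₀) (Finset.mem_univ g)
    have : i₀ g = k₀ g * d g + n := by exact_mod_cast hi₀ g
    rwa [this, smul_eq_mul, ← add_assoc, ← add_mul, Nat.sub_add_cancel hk] at h
  have hrep : ∀ (g : {g // g ∈ s}) (x : ProjectiveSpectrum.basicOpen 𝒜 (c : A))
      (hx : ((c : A) * g.1) ^ k ∉ x.1.asHomogeneousIdeal), (c : A) * g.1 ∉ x.1.asHomogeneousIdeal →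
      val σ' x = LocalizedModule.mk (a g) ⟨((c : A) * g.1) ^ k, hx⟩ := by
    intro g x hx hx'
    have hk : k₀ g ≤ k := Finset.le_sup (f := k₀) (Finset.mem_univ g)
    refine (hrep₀ g ⟨x.1, hx'⟩ fun hh => hx' (x.1.isPrime.mem_of_pow_mem _ hh)).trans ?_
    rw [LocalizedModule.mk_eq]
    refine ⟨1, ?_⟩
    simp only [one_smul, Submonoid.smul_def, a]
    rw [smul_smul, ← pow_add, Nat.add_sub_cancel' hk]
  clear_value a
  have hK : ∀ p : {g // g ∈ s} × {g // g ∈ s}, ∃ K : ℕ, ((c : A) * p.1.1 * p.2.1) ^ K •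
      (((c : A) * p.2.1) ^ k • a p.1 - ((c : A) * p.1.1) ^ k • a p.2) = 0 := by
    intro p
    have hdeg : (c : A) * p.1.1 * p.2.1 ∈ 𝒜 (d p.1 + d p.2) := SetLike.mul_mem_graded (hcg p.1) (hg p.2)
    refine exists_pow_smul_eq_zero (Nat.add_pos_left (hd p.1) _) hdeg fun x => ?_
    have hcx : (c : A) ∉ x.1.asHomogeneousIdeal := fun hh =>
      x.2 (Ideal.mul_mem_right _ _ (Ideal.mul_mem_right _ _ hh))
    have h1 : (c : A) * p.1.1 ∉ x.1.asHomogeneousIdeal := fun hh => x.2 (Ideal.mul_mem_right _ _ hh)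
    have h2 : (c : A) * p.2.1 ∉ x.1.asHomogeneousIdeal := fun hh => x.2
      ((congrArg (· ∈ x.1.asHomogeneousIdeal.toIdeal) (mul_right_comm (c : A) p.2.1 p.1.1)).mp
        (Ideal.mul_mem_right _ _ hh))
    exact (mk_eq_mk_iff (n := (n : ℤ)) (SetLike.pow_mem_graded k (hcg p.1)) (SetLike.pow_mem_graded k (hcg p.2))
      (fun hh => h1 (x.1.isPrime.mem_of_pow_mem _ hh)) (fun hh => h2 (x.1.isPrime.mem_of_pow_mem _ hh))
      (Or.inl ⟨_, by push_cast [smul_eq_mul]; ring, ha p.1⟩)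
      (Or.inl ⟨_, by push_cast [smul_eq_mul]; ring, ha p.2⟩)).1
      ((hrep p.1 ⟨x.1, hcx⟩ _ h1).symm.trans (hrep p.2 ⟨x.1, hcx⟩ _ h2))
  choose K₀ hK₀ using hK
  let K := Finset.univ.sup K₀
  let b : {g // g ∈ s} → M := fun g => ((c : A) ^ (K + k) * g.1 ^ K) • a g
  have hb : ∀ g, b g ∈ ℳ (((k + K) * d g) + n) := fun g => by
    have h : b g ∈ ℳ (((K + k) • 0 + K • d g) + (k * d g + n)) := SetLike.GradedSMul.smul_mem
      (SetLike.mul_mem_graded (SetLike.pow_mem_graded _ c.2) (SetLike.pow_mem_graded _ (hg g))) (ha g)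
    rwa [show ((K + k) • 0 + K • d g) + (k * d g + n) = (k + K) * d g + n by simp [smul_eq_mul]; ring] at h
  have hcross : ∀ g h : {g // g ∈ s}, h.1 ^ (k + K) • b g = g.1 ^ (k + K) • b h := by
    intro g h
    have e : ((c : A) * g.1 * h.1) ^ K •
        (((c : A) * h.1) ^ k • a g - ((c : A) * g.1) ^ k • a h) = 0 := by
      obtain ⟨l, hl⟩ := Nat.exists_eq_add_of_le (Finset.le_sup (f := K₀) (Finset.mem_univ (g, h)))
      change Finset.univ.sup K₀ = _ at hl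
      rw [show K = l + K₀ (g, h) by rw [add_comm]; exact hl, pow_add, mul_smul, hK₀ (g, h), smul_zero]
    rw [smul_sub, sub_eq_zero, smul_smul, smul_smul] at e
    simp only [b, smul_smul]
    refine Eq.trans ?_ (e.trans ?_) <;> · congr 1; ring
  choose gx hgs hgx using hs.2
  let G : ProjectiveSpectrum 𝒜 → {g // g ∈ s} := fun x => ⟨gx x, hgs x⟩
  have hG : ∀ x, (G x).1 ^ (k + K) ∉ x.asHomogeneousIdeal := fun x hh => hgx x (x.isPrime.mem_of_pow_mem _ hh)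
  let vals : ∀ x : (⊤ : Opens (ProjectiveSpectrum.top 𝒜)), GrMod.LocMod 𝒜 (M := M) x.1 := fun x =>
    LocalizedModule.mk (b (G x.1)) ⟨_, hG x.1⟩
  let τ₀ : GrMod.sect 𝒜 ℳ (n : ℤ) (op ⊤) := secOfRep (ℳ := ℳ) (n := (n : ℤ)) vals fun x =>
    ⟨(k + K) * d (G x.1), (G x.1).1 ^ (k + K), b (G x.1),
      by simpa [smul_eq_mul] using SetLike.pow_mem_graded (k + K) (hg (G x.1)),
      Or.inl ⟨_, by push_cast; ring, hb (G x.1)⟩, hG x.1, fun y hy => by
        show LocalizedModule.mk (b (G y.1)) _ = _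
        rw [LocalizedModule.mk_eq]
        refine ⟨1, ?_⟩
        simp only [one_smul, Submonoid.smul_def]
        exact hcross (G y.1) (G x.1)⟩
  obtain ⟨m, hm⟩ := hbij τ₀
  refine ⟨K + k + k, m, m.2, fun x => ?_⟩
  have h1 : (LocalizedModule.mk (m : M) 1 : GrMod.LocMod 𝒜 (M := M) x.1) = vals ⟨x.1, trivial⟩ :=
    (val_alpha m x.1).symm.trans (congrArg (fun t : GrMod.sect 𝒜 ℳ (n : ℤ) (op ⊤) => val t ⟨x.1, trivial⟩) hm)
  have hcgx : (c : A) * (G x.1).1 ∉ x.1.asHomogeneousIdeal := fun hh =>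
    (x.1.isPrime.mem_or_mem hh).elim x.2 (hgx x.1)
  rw [h1, hrep (G x.1) x (fun hh => hcgx (x.1.isPrime.mem_of_pow_mem _ hh)) hcgx, LocalizedModule.smul'_mk,
    LocalizedModule.mk_eq]
  refine ⟨1, ?_⟩
  simp only [one_smul, Submonoid.smul_def, b, smul_smul]
  congr 1
  ring

section Loc

variable {B σ' : Type u} [CommRing B] [SetLike σ' B] [AddSubgroupClass σ' B] {ℬ : ℕ → σ'} [GradedRing ℬ]
variable {N τ' : Type u} [AddCommGroup N] [Module B N] [SetLike τ' N] [AddSubgroupClass τ' N] {𝒩 : ℕ → τ'}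
  [SetLike.GradedSMul ℬ 𝒩] [DirectSum.Decomposition 𝒩]
variable {ψ : 𝒜 →+*ᵍ ℬ} {v : M →ₛₗ[ψ.toRingHom] N}

theorem locModMap_smul (hψ : ℬ₊ ≤ (𝒜₊).map ψ) (y : ProjectiveSpectrum ℬ) (r : A)
    (q : GrMod.LocMod 𝒜 (M := M) (ProjectiveSpectrum.comap ψ hψ y)) :
    GrMod.locModMap ψ hψ v y (r • q) = ψ r • GrMod.locModMap ψ hψ v y q := by
  induction q using LocalizedModule.induction_on with
  | h m s =>
    rw [LocalizedModule.smul'_mk, GrMod.locModMap_mk, GrMod.locModMap_mk, LocalizedModule.smul'_mk,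
      v.map_smulₛₗ]
    rfl

/-- Points where `c` is invertible come from the localization. -/
theorem exists_comap_eq (hA : Localize.IsLocHom ψ c) (hψ : ℬ₊ ≤ (𝒜₊).map ψ) (x : ProjectiveSpectrum 𝒜)
    (hx : (c : A) ∉ x.asHomogeneousIdeal) : ∃ y, ProjectiveSpectrum.comap ψ hψ y = x := by
  letI := ψ.toRingHom.toAlgebra
  haveI : IsLocalization.Away (c : A) B := hA
  have hdisj : Disjoint (Submonoid.powers (c : A) : Set A) (x.asHomogeneousIdeal.toIdeal : Set A) :=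
    Set.disjoint_left.2 (by rintro _ ⟨k, rfl⟩ hh; exact hx (x.isPrime.mem_of_pow_mem k hh))
  have hcomap := IsLocalization.comap_map_of_isPrime_disjoint (Submonoid.powers (c : A)) B x.isPrime hdisj
  refine ⟨⟨x.asHomogeneousIdeal.map ψ,
    IsLocalization.isPrime_of_isPrime_disjoint (Submonoid.powers (c : A)) B _ x.isPrime hdisj, fun hirr => ?_⟩,
    ProjectiveSpectrum.ext (HomogeneousIdeal.toIdeal_injective hcomap)⟩
  refine x.not_irrelevant_le ((HomogeneousIdeal.irrelevant_le 𝒜).2 fun i hi a ha => ?_)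
  exact hcomap.le (show ψ a ∈ Ideal.map (algebraMap A B) x.asHomogeneousIdeal.toIdeal from
    hirr (HomogeneousIdeal.mem_irrelevant_of_mem ℬ hi (ψ.map_mem ha)))

/-- Bijectivity of `α_n` passes to `N = M[1/c]`. -/
theorem alpha_bijective (hψ : ℬ₊ ≤ (𝒜₊).map ψ) (hv : ∀ (i : ℕ) (m : M), m ∈ ℳ i → v m ∈ 𝒩 i)
    (hA : Localize.IsLocHom ψ c) (hM : TildeLocal.IsLocMap v c)
    (hemb : Topology.IsOpenEmbedding (ProjectiveSpectrum.comap ψ hψ))
    (hs : IsGens (𝒜 := 𝒜) s) (hbij : Function.Bijective (GrMod.alpha 𝒜 ℳ n)) :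
    Function.Bijective (GrMod.alpha ℬ 𝒩 n) := by
  classical
  have hu : ∀ k : ℕ, IsUnit (ψ (c : A) ^ k) := fun k => (TildeLocal.isUnit_c hA).pow k
  constructor
  · rw [injective_iff_map_eq_zero]
    intro b hb
    obtain ⟨k, a, ha, hab⟩ := hM.surj_homogeneous hv b.2
    obtain ⟨K, hK⟩ := exists_pow_smul_of_vanish (c := c) hs hbij.1 ha fun x hx => by
      obtain ⟨y, rfl⟩ := exists_comap_eq hA hψ x hx
      refine TildeLocal.locModMap_injective hψ hA hM y ?_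
      have h0 : (LocalizedModule.mk (b : N) 1 : GrMod.LocMod ℬ (M := N) y) = 0 :=
        (val_alpha b y).symm.trans (congrArg (fun t : GrMod.sect ℬ 𝒩 (n : ℤ) (op ⊤) => val t ⟨y, trivial⟩) hb)
      rw [map_zero, GrMod.locModMap_mk, hab, ← LocalizedModule.smul'_mk]
      refine Eq.trans (congrArg (ψ (c : A) ^ k • ·) (Eq.trans ?_ h0)) (smul_zero _)
      exact congrArg _ (Subtype.ext (map_one ψ.toRingHom))
    have := congrArg v hK
    rw [v.map_smulₛₗ, map_zero, hab, map_pow, smul_smul] at this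
    change (ψ (c : A) ^ K * ψ (c : A) ^ k) • (b : N) = 0 at this
    exact Subtype.ext (((hu K).mul (hu k)).smul_eq_zero.1 this)
  · intro t
    let U₀ : Opens (ProjectiveSpectrum.top 𝒜) := ProjectiveSpectrum.basicOpen 𝒜 (c : A)
    obtain ⟨σ', hσ'⟩ := (TildeLocal.comapApp_bijective hψ hv (n : ℤ) U₀ ⊤
      (fun y _ => show (c : A) ∉ _ from by simpa using TildeLocal.notMem_c hA hψ y 1) hA hM hemb
      (fun x hx => (exists_comap_eq hA hψ x hx).imp fun y hy => ⟨trivial, hy⟩)).2 t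
    obtain ⟨e, m, hm, hmσ⟩ := exists_extend hs hbij.2 σ'
    let w : N := (↑((hu e).unit⁻¹) : B) • v m
    have hw : ψ (c : A) ^ e • w = v m := by
      show ψ (c : A) ^ e • (↑((hu e).unit⁻¹) : B) • v m = v m
      rw [smul_smul, (hu e).mul_val_inv, one_smul]
    have hwn : ψ (c : A) ^ e • (DirectSum.decompose 𝒩 w n : N) = v m := by
      have hdeg : ∀ (i : ℕ) (z : N), z ∈ 𝒩 i → ψ (c : A) ^ e • z ∈ 𝒩 i := fun i z hz =>
        mem_of_deg_zero_smul (ψ.map_mem c.2) hz e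
      exact (TildeLocal.decompose_map (ℳ := 𝒩) (𝒩 := 𝒩) (DistribMulAction.toAddMonoidHom N (ψ (c : A) ^ e))
        hdeg w n).trans (by
          show (DirectSum.decompose 𝒩 (ψ (c : A) ^ e • w) n : N) = v m
          rw [hw, DirectSum.decompose_of_mem_same 𝒩 (hv n m hm)])
    refine ⟨⟨_, SetLike.coe_mem (DirectSum.decompose 𝒩 w n)⟩, sect_ext (U := ⊤) fun y => ?_⟩
    refine (val_alpha _ y.1).trans ((hu e).smul_left_cancel.1 ?_)
    rw [LocalizedModule.smul'_mk, hwn]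
    have hy : ProjectiveSpectrum.comap ψ hψ y.1 ∈ U₀ := show (c : A) ∉ _ from by
      simpa using TildeLocal.notMem_c hA hψ y.1 1
    have h2 := congrArg (GrMod.locModMap ψ hψ v y.1) (hmσ ⟨_, hy⟩)
    rw [GrMod.locModMap_mk, locModMap_smul hψ, map_pow] at h2
    refine Eq.trans ?_ (h2.trans (congrArg (ψ (c : A) ^ e • ·)
      (congrArg (fun r : GrMod.sect ℬ 𝒩 (n : ℤ) (op ⊤) => val r y) hσ')))
    exact congrArg _ (Subtype.ext (map_one ψ.toRingHom).symm)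

end Loc

end

end Groth.Agent.H81.RelProj.AlphaUniform
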