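import Mathlib.RingTheory.GradedAlgebra.HomogeneousLocalization
import Mathlib.RingTheory.GradedAlgebra.Homogeneous.Maps
import Mathlib.Algebra.Category.Ring.Constructions

/-!
# Base change of the degree zero part of a homogeneous localization
-/

set_option autoImplicit false
universe u

open CategoryTheory Limits HomogeneousLocalization Graded TensorProduct

namespace Groth.Agent.H81.RelProj.AwayBaseChange

noncomputable section

variable {R R' A B σ τ : Type u} [CommRing R] [CommRing R'] [CommRing A] [SetLike σ A] [AddSubgroupClass σ A]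
  [CommRing B] [SetLike τ B] [AddSubgroupClass τ B] {𝒜 : ℕ → σ} {ℬ : ℕ → τ} [GradedRing 𝒜] [GradedRing ℬ]

/-- `a ↦ a_{Nd}/s^N`. -/
def comp {d : ℕ} {s : A} (hs : s ∈ 𝒜 d) (N : ℕ) : A →+ Away 𝒜 s where
  toFun a := Away.mk 𝒜 hs N (DirectSum.decompose 𝒜 a (N • d)) (SetLike.coe_mem _)
  map_zero' := by
    apply val_injective
    rw [Away.val_mk, val_zero, DirectSum.decompose_zero]
    simp [Localization.mk_zero]
  map_add' a b := by
    apply val_injective
    rw [Away.val_mk, val_add, Away.val_mk, Away.val_mk, DirectSum.decompose_add, Localization.add_mk_self]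
    simp

theorem val_comp {d : ℕ} {s : A} (hs : s ∈ 𝒜 d) (N : ℕ) (a : A) :
    (comp hs N a).val =
      Localization.mk (DirectSum.decompose 𝒜 a (N • d) : A) (⟨s ^ N, ⟨N, rfl⟩⟩ : Submonoid.powers s) :=
  Away.val_mk 𝒜 N hs _ _

theorem comp_shift {d : ℕ} {s : A} (hs : s ∈ 𝒜 d) (N K : ℕ) (a : A) :
    comp hs (K + N) (s ^ K * a) = comp hs N a := by
  classical
  apply val_injective
  rw [val_comp, val_comp, Localization.mk_eq_mk_iff, Localization.r_iff_exists]
  refine ⟨1, ?_⟩
  simp only [OneMemClass.coe_one, one_mul]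
  rw [show ((K + N) • d) = K • d + N • d from add_smul _ _ _,
    DirectSum.coe_decompose_mul_add_of_left_mem 𝒜 (SetLike.pow_mem_graded K hs), pow_add]
  ring

theorem comp_deg_zero {d : ℕ} {s : A} (hs : s ∈ 𝒜 d) (N : ℕ) (c : 𝒜 0) (a : A) :
    comp hs N ((c : A) * a) = fromZeroRingHom 𝒜 (Submonoid.powers s) c * comp hs N a := by
  classical
  apply val_injective
  rw [val_mul, val_comp, val_comp, DirectSum.coe_decompose_mul_of_left_mem_zero 𝒜 c.2]
  rw [show (fromZeroRingHom 𝒜 (Submonoid.powers s) c).val = Localization.mk (c : A) 1 from rfl,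
    Localization.mk_mul, one_mul]

theorem map_comp (φ : 𝒜 →+*ᵍ ℬ) {d : ℕ} {s : A} (hs : s ∈ 𝒜 d) (N : ℕ) (a : A) :
    Away.map φ s (comp hs N a) = comp (φ.map_mem hs) N (φ a) := by
  apply val_injective
  change (Away.map φ s (Away.mk 𝒜 hs N _ _)).val = _
  rw [Away.map_mk, Away.val_mk, val_comp]
  congr 1
  exact GradedRingHom.map_directSumDecompose 𝒜 ℬ φ

theorem comp_surjective {d : ℕ} {s : A} (hs : s ∈ 𝒜 d) (z : Away 𝒜 s) : ∃ N a, comp hs N a = z := by
  obtain ⟨N, a, ha, rfl⟩ := Away.mk_surjective 𝒜 hs z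
  refine ⟨N, a, ?_⟩
  apply val_injective
  rw [val_comp, Away.val_mk, DirectSum.decompose_of_mem_same 𝒜 ha]

variable (ψ : R →+* R') (gA : R →+* 𝒜 0) (gB : R' →+* ℬ 0) (φ : 𝒜 →+*ᵍ ℬ)

/-- The inclusion of the degree zero part. -/
def zeroVal (𝒜 : ℕ → σ) [GradedRing 𝒜] : 𝒜 0 →+* A where
  toFun c := (c : A)
  map_one' := rfl
  map_mul' _ _ := rfl
  map_zero' := rfl
  map_add' _ _ := rfl

/-- The base change square of a graded ring along a ring map induces base change squares of the degree zero
parts of the homogeneous localizations. -/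
theorem isPushout
    (h : IsPushout (CommRingCat.ofHom ψ)
      (CommRingCat.ofHom ((zeroVal 𝒜).comp gA))
      (CommRingCat.ofHom ((zeroVal ℬ).comp gB))
      (CommRingCat.ofHom (φ : A →+* B)))
    {d : ℕ} {s : A} (hs : s ∈ 𝒜 d) :
    IsPushout (CommRingCat.ofHom ψ)
      (CommRingCat.ofHom ((fromZeroRingHom 𝒜 (Submonoid.powers s)).comp gA))
      (CommRingCat.ofHom ((fromZeroRingHom ℬ (Submonoid.powers (φ s))).comp gB))
      (CommRingCat.ofHom (Away.map φ s)) := by
  classical
  letI := ψ.toAlgebra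
  letI : Algebra R A := ((zeroVal 𝒜).comp gA).toAlgebra
  letI : Algebra R (Away 𝒜 s) := ((fromZeroRingHom 𝒜 (Submonoid.powers s)).comp gA).toAlgebra
  have h0 := CommRingCat.isPushout_tensorProduct R R' A
  have h1 := CommRingCat.isPushout_tensorProduct R R' (Away 𝒜 s)
  let e := (h0.isoIsPushout _ _ h).commRingCatIsoToRingEquiv
  have el : ∀ r : R', e (r ⊗ₜ 1) = (gB r : B) := fun r => congr($(h0.inl_isoIsPushout_hom _ _ h).hom r)
  have er : ∀ a : A, e (1 ⊗ₜ a) = φ a := fun a => congr($(h0.inr_isoIsPushout_hom _ _ h).hom a)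
  have et : ∀ (r : R') (a : A), e (r ⊗ₜ a) = (gB r : B) * φ a := fun r a => by
    rw [← el, ← er, ← map_mul, Algebra.TensorProduct.tmul_mul_tmul, mul_one, one_mul]
  have hw : CommRingCat.ofHom ψ ≫ CommRingCat.ofHom ((fromZeroRingHom ℬ (Submonoid.powers (φ s))).comp gB) =
      CommRingCat.ofHom ((fromZeroRingHom 𝒜 (Submonoid.powers s)).comp gA) ≫
        CommRingCat.ofHom (Away.map φ s) := by
    ext r
    change Localization.mk ((gB (ψ r) : ℬ 0) : B) 1 = (Away.map φ s (HomogeneousLocalization.mk _)).val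
    rw [Away.map, HomogeneousLocalization.map_mk, HomogeneousLocalization.val_mk]
    congr 1
    · exact congr($(h.w).hom r)
    · exact Subtype.ext (map_one φ).symm
  let Θ := (h1.desc _ _ hw).hom
  have tl : ∀ r : R', Θ (r ⊗ₜ 1) = fromZeroRingHom ℬ (Submonoid.powers (φ s)) (gB r) :=
    fun r => congr($(h1.inl_desc _ _ hw).hom r)
  have tr : ∀ z : Away 𝒜 s, Θ (1 ⊗ₜ z) = Away.map φ s z :=
    fun z => congr($(h1.inr_desc _ _ hw).hom z)
  have tt : ∀ (r : R') (z : Away 𝒜 s),
      Θ (r ⊗ₜ z) = fromZeroRingHom ℬ (Submonoid.powers (φ s)) (gB r) * Away.map φ s z := fun r z => by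
    rw [← tl, ← tr, ← map_mul, Algebra.TensorProduct.tmul_mul_tmul, mul_one, one_mul]
  let μ : ℕ → A →ₗ[R] Away 𝒜 s := fun N =>
    { toFun := comp hs N
      map_add' := map_add _
      map_smul' := fun r a => by
        rw [RingHom.id_apply, Algebra.smul_def, Algebra.smul_def]
        exact comp_deg_zero hs N (gA r) a }
  let p : ℕ → A →ₗ[R] A := fun N =>
    { toFun := fun a => (DirectSum.decompose 𝒜 a (N • d) : A)
      map_add' := fun a b => by simp [DirectSum.decompose_add]
      map_smul' := fun r a => by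
        rw [RingHom.id_apply, Algebra.smul_def, Algebra.smul_def]
        exact DirectSum.coe_decompose_mul_of_left_mem_zero 𝒜 (gA r).2 }
  let M : ℕ → R' ⊗[R] A →ₗ[R] R' ⊗[R] Away 𝒜 s := fun N => LinearMap.lTensor R' (μ N)
  have hΘ : ∀ N w, Θ (M N w) = comp (φ.map_mem hs) N (e w) := by
    intro N w
    induction w using TensorProduct.induction_on with
    | zero => simp
    | tmul r a =>
      rw [et, comp_deg_zero, ← map_comp φ hs N a]
      exact tt r (comp hs N a)
    | add x y hx hy => simp only [map_add, hx, hy]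
  have hP : ∀ N w, M N (LinearMap.lTensor R' (p N) w) = M N w := by
    intro N w
    induction w using TensorProduct.induction_on with
    | zero => simp
    | tmul r a =>
      refine congrArg (r ⊗ₜ[R] ·) ?_
      apply val_injective
      change (comp hs N (DirectSum.decompose 𝒜 a (N • d) : A)).val = (comp hs N a).val
      rw [val_comp, val_comp, DirectSum.decompose_of_mem_same 𝒜 (SetLike.coe_mem _)]
    | add x y hx hy => simp only [map_add, hx, hy]
  have heP : ∀ N w, e (LinearMap.lTensor R' (p N) w) = (DirectSum.decompose ℬ (e w) (N • d) : B) := by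
    intro N w
    induction w using TensorProduct.induction_on with
    | zero => simp
    | tmul r a =>
      rw [et, DirectSum.coe_decompose_mul_of_left_mem_zero ℬ (gB r).2,
        ← GradedRingHom.map_directSumDecompose 𝒜 ℬ φ]
      exact et r _
    | add x y hx hy => simp [DirectSum.decompose_add, map_add, hx, hy]
  have hshift : ∀ N K w, M (K + N) ((1 ⊗ₜ (s ^ K)) * w) = M N w := by
    intro N K w
    induction w using TensorProduct.induction_on with
    | zero => simp
    | tmul r a =>
      rw [Algebra.TensorProduct.tmul_mul_tmul, one_mul]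
      exact congrArg (r ⊗ₜ[R] ·) (comp_shift hs N K a)
    | add x y hx hy => simp only [mul_add, map_add, hx, hy]
  have hsurj' : ∀ z : R' ⊗[R] Away 𝒜 s, ∃ N w, M N w = z := by
    intro z
    induction z using TensorProduct.induction_on with
    | zero => exact ⟨0, 0, map_zero _⟩
    | tmul r z =>
      obtain ⟨N, a, rfl⟩ := comp_surjective hs z
      exact ⟨N, r ⊗ₜ a, rfl⟩
    | add x y hx hy =>
      obtain ⟨N, w, rfl⟩ := hx
      obtain ⟨N', w', rfl⟩ := hy
      refine ⟨N' + N, (1 ⊗ₜ (s ^ N')) * w + (1 ⊗ₜ (s ^ N)) * w', ?_⟩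
      rw [map_add, hshift]
      congr 1
      rw [add_comm N' N, hshift]
  have hbij : Function.Bijective Θ := by
    refine ⟨?_, fun y => ?_⟩
    · rw [injective_iff_map_eq_zero]
      intro z hz
      obtain ⟨N, w, rfl⟩ := hsurj' z
      rw [hΘ] at hz
      have hz' := congrArg HomogeneousLocalization.val hz
      rw [val_comp, val_zero, ← Localization.mk_zero 1, Localization.mk_eq_mk_iff,
        Localization.r_iff_exists] at hz'
      obtain ⟨⟨_, K, rfl⟩, hK⟩ := hz'
      simp only [OneMemClass.coe_one, one_mul, mul_zero] at hK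
      have h2 : e ((1 ⊗ₜ (s ^ K)) * LinearMap.lTensor R' (p N) w) = 0 := by
        rw [map_mul, heP, er, map_pow]
        exact hK
      rw [map_eq_zero_iff _ e.injective] at h2
      rw [← hP, ← hshift N K, h2, map_zero]
    · obtain ⟨N, b, rfl⟩ := comp_surjective (φ.map_mem hs) y
      obtain ⟨w, rfl⟩ := e.surjective b
      exact ⟨M N w, hΘ N w⟩
  refine h1.of_iso (Iso.refl _) (Iso.refl _) (Iso.refl _) (RingEquiv.ofBijective Θ hbij).toCommRingCatIso
    (by simp [RingHom.algebraMap_toAlgebra]) (by simp [RingHom.algebraMap_toAlgebra]) ?_ ?_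
  · ext r
    exact congrArg HomogeneousLocalization.val (tl r)
  · ext z
    exact congrArg HomogeneousLocalization.val (tr z)

end

end Groth.Agent.H81.RelProj.AwayBaseChange
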