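import Groth.Prelude.Def_RelSpec
import Mathlib.AlgebraicGeometry.Gluing

/-!
# Morphisms of relative spectra over a morphism of bases
-/

set_option autoImplicit false
universe u

open CategoryTheory Limits AlgebraicGeometry Opposite TopologicalSpace

namespace Groth.Agent.H81.RelProj.SpecMap

noncomputable section

variable {S S' : Scheme.{u}} (q : S' ⟶ S) (B : RelSpec.QCAlg S) (B' : RelSpec.QCAlg S')
  (u : B.presheaf ⟶ q.base _* B'.presheaf)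

/-- The chart morphism. -/
def loc {U : S.Opens} (hU : IsAffineOpen U) {U' : S'.Opens} (_hU' : IsAffineOpen U') (hle : U' ≤ q ⁻¹ᵁ U) :
    Spec (B'.presheaf.obj (op U')) ⟶ B.spec :=
  Spec.map ((u.app (op U) : B.presheaf.obj (op U) ⟶ B'.presheaf.obj (op (q ⁻¹ᵁ U))) ≫
    B'.presheaf.map (homOfLE hle).op) ≫ B.ι U hU

/-- The transition map of the charts of a relative spectrum. -/
def tr {X : Scheme.{u}} (A : RelSpec.QCAlg X) {V U : X.Opens} (i : V ≤ U) :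
    Spec (A.presheaf.obj (op V)) ⟶ Spec (A.presheaf.obj (op U)) :=
  Spec.map (A.presheaf.map (homOfLE i).op)

theorem tr_ι {X : Scheme.{u}} (A : RelSpec.QCAlg X) {U : X.Opens} (hU : IsAffineOpen U) (r : Γ(X, U)) :
    tr A (X.basicOpen_le r) ≫ A.ι U hU = A.ι (X.basicOpen r) (hU.basicOpen r) :=
  colimit.w A.glueData.functor (homOfLE
    (Scheme.AffineZariskiSite.basicOpen_le (⟨U, hU⟩ : X.AffineZariskiSite) r))

theorem ι_congr {X : Scheme.{u}} (A : RelSpec.QCAlg X) {U V : X.Opens} (hU : IsAffineOpen U) (hV : IsAffineOpen V)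
    (e : V = U) : tr A e.le ≫ A.ι U hU = A.ι V hV := by
  subst e
  simp [tr]

theorem loc_source {U : S.Opens} (hU : IsAffineOpen U) {U' V' : S'.Opens} (hU' : IsAffineOpen U') (hV' : IsAffineOpen V')
    (i : V' ≤ U') (hle : U' ≤ q ⁻¹ᵁ U) :
    tr B' i ≫ loc q B B' u hU hU' hle = loc q B B' u hU hV' (i.trans hle) := by
  rw [loc, loc, tr, ← Spec.map_comp_assoc, Category.assoc, ← Functor.map_comp]
  rfl

theorem loc_target {U V : S.Opens} (hU : IsAffineOpen U) (hV : IsAffineOpen V) (i : V ≤ U)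
    (he : tr B i ≫ B.ι U hU = B.ι V hV) {U' : S'.Opens} (hU' : IsAffineOpen U') (hle : U' ≤ q ⁻¹ᵁ V) :
    loc q B B' u hU hU' (hle.trans (q.preimage_mono i)) = loc q B B' u hV hU' hle := by
  rw [loc, loc, ← he, tr, ← Spec.map_comp_assoc]
  congr 2
  rw [← Category.assoc]
  have h2 : B.presheaf.map (homOfLE i).op ≫ (u.app (op V) : B.presheaf.obj (op V) ⟶ B'.presheaf.obj (op (q ⁻¹ᵁ V))) =
      (u.app (op U) : B.presheaf.obj (op U) ⟶ B'.presheaf.obj (op (q ⁻¹ᵁ U))) ≫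
        B'.presheaf.map (homOfLE (q.preimage_mono i)).op :=
    u.naturality (homOfLE i).op
  rw [h2, Category.assoc, ← Functor.map_comp]
  rfl

theorem exists_common {X : Scheme.{u}} {U₁ U₂ : X.Opens} (h₁ : IsAffineOpen U₁) (h₂ : IsAffineOpen U₂) (O : X.Opens)
    {x : X} (hx₁ : x ∈ U₁) (hx₂ : x ∈ U₂) (hxO : x ∈ O) :
    ∃ (r₁ : Γ(X, U₁)) (r₂ : Γ(X, U₂)), X.basicOpen r₁ = X.basicOpen r₂ ∧ x ∈ X.basicOpen r₁ ∧ X.basicOpen r₁ ≤ O := by
  obtain ⟨f, g, e, hxf⟩ := exists_basicOpen_le_affine_inter h₁ h₂ x ⟨hx₁, hx₂⟩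
  obtain ⟨h, hle, hxh⟩ := (h₁.basicOpen f).exists_basicOpen_le ⟨x, hxO⟩ hxf
  obtain ⟨r₁, hr₁⟩ := h₁.basicOpen_basicOpen_is_basicOpen f h
  obtain ⟨h', hh'⟩ : ∃ h' : Γ(X, X.basicOpen g), X.basicOpen h' = X.basicOpen h :=
    ⟨(X.presheaf.map (eqToHom e.symm).op).hom h, by
      rw [X.basicOpen_res, inf_eq_right]; exact e ▸ X.basicOpen_le h⟩
  obtain ⟨r₂, hr₂⟩ := h₂.basicOpen_basicOpen_is_basicOpen g h'
  exact ⟨r₁, r₂, by rw [hr₁, hr₂, hh'], hr₁ ▸ hxh, hr₁ ▸ hle⟩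

/-- The index of the cover. -/
structure J where
  U : S.Opens
  hU : IsAffineOpen U
  U' : S'.Opens
  hU' : IsAffineOpen U'
  hle : U' ≤ q ⁻¹ᵁ U

theorem exists_J (y : S') : ∃ j : J q, y ∈ j.U' := by
  obtain ⟨U, hU, hyU, -⟩ := exists_isAffineOpen_mem_and_subset (U := (⊤ : S.Opens)) (x := q y) trivial
  obtain ⟨U', hU', hyU', hle⟩ := exists_isAffineOpen_mem_and_subset (U := q ⁻¹ᵁ U) (x := y) hyU
  exact ⟨⟨U, hU, U', hU', hle⟩, hyU'⟩

/-- The cover of `Spec B'`. -/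
def cover : B'.spec.OpenCover :=
  .mkOfCovers (J q) (fun j => Spec (B'.presheaf.obj (op j.U'))) (fun j => B'.ι j.U' j.hU')
    (fun x => by
      obtain ⟨j, hj⟩ := exists_J q (B'.π x)
      have : x ∈ (B'.ι j.U' j.hU').opensRange := by rw [← B'.π_preimage j.U' j.hU']; exact hj
      obtain ⟨y, hy⟩ := this
      exact ⟨j, y, hy⟩)
    fun _ => inferInstance

theorem compat (j k : J q) :
    pullback.fst (B'.ι j.U' j.hU') (B'.ι k.U' k.hU') ≫ loc q B B' u j.hU j.hU' j.hle =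
      pullback.snd (B'.ι j.U' j.hU') (B'.ι k.U' k.hU') ≫ loc q B B' u k.hU k.hU' k.hle := by
  refine Scheme.hom_ext_of_forall _ _ fun z => ?_
  set f := pullback.fst (B'.ι j.U' j.hU') (B'.ι k.U' k.hU') ≫ B'.ι j.U' j.hU' with hfdef
  have hy1 : B'.π (f z) ∈ j.U' := by
    show f z ∈ B'.π ⁻¹ᵁ j.U'
    rw [B'.π_preimage j.U' j.hU']; exact ⟨_, rfl⟩
  have hy2 : B'.π (f z) ∈ k.U' := by
    show f z ∈ B'.π ⁻¹ᵁ k.U'
    rw [B'.π_preimage k.U' k.hU', hfdef, pullback.condition]; exact ⟨_, rfl⟩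
  obtain ⟨s₁, s₂, hs, hys, -⟩ := exists_common j.hU k.hU ⊤ (x := q (B'.π (f z))) (j.hle hy1) (k.hle hy2) trivial
  obtain ⟨r₁, r₂, hr, hyr, hrle⟩ := exists_common j.hU' k.hU' (q ⁻¹ᵁ S.basicOpen s₁) (x := B'.π (f z)) hy1 hy2 hys
  refine ⟨f ⁻¹ᵁ (B'.ι (S'.basicOpen r₁) (j.hU'.basicOpen r₁)).opensRange, ?_, ?_⟩
  · show f z ∈ (B'.ι (S'.basicOpen r₁) (j.hU'.basicOpen r₁)).opensRange
    rw [← B'.π_preimage _ (j.hU'.basicOpen r₁)]; exact hyr
  set W := f ⁻¹ᵁ (B'.ι (S'.basicOpen r₁) (j.hU'.basicOpen r₁)).opensRange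
  let l := IsOpenImmersion.lift (B'.ι (S'.basicOpen r₁) (j.hU'.basicOpen r₁)) (W.ι ≫ f) (by
    rintro _ ⟨w, rfl⟩; exact w.2)
  have hl : l ≫ B'.ι _ (j.hU'.basicOpen r₁) = W.ι ≫ f := IsOpenImmersion.lift_fac _ _ _
  have h1 : W.ι ≫ pullback.fst (B'.ι j.U' j.hU') (B'.ι k.U' k.hU') = l ≫ tr B' (S'.basicOpen_le r₁) := by
    rw [← cancel_mono (B'.ι j.U' j.hU'), Category.assoc, Category.assoc, tr_ι, hl]
  have hle2 : S'.basicOpen r₁ ≤ k.U' := hr ▸ S'.basicOpen_le r₂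
  have hι2 : tr B' hle2 ≫ B'.ι k.U' k.hU' = B'.ι _ (j.hU'.basicOpen r₁) := by
    rw [← ι_congr B' (k.hU'.basicOpen r₂) (j.hU'.basicOpen r₁) hr, ← tr_ι B' k.hU' r₂, ← Category.assoc]
    congr 1
    rw [tr, tr, tr, ← Spec.map_comp, ← Functor.map_comp]
    rfl
  have h2 : W.ι ≫ pullback.snd (B'.ι j.U' j.hU') (B'.ι k.U' k.hU') = l ≫ tr B' hle2 := by
    rw [← cancel_mono (B'.ι k.U' k.hU'), Category.assoc, Category.assoc, hι2, hl, hfdef, pullback.condition]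
  rw [reassoc_of% h1, reassoc_of% h2, loc_source q B B' u j.hU j.hU' (j.hU'.basicOpen r₁) _ j.hle,
    loc_source q B B' u k.hU k.hU' (j.hU'.basicOpen r₁) _ k.hle]
  congr 1
  have hιs : tr B (hs ▸ S.basicOpen_le s₂ : S.basicOpen s₁ ≤ k.U) ≫ B.ι k.U k.hU = B.ι _ (j.hU.basicOpen s₁) := by
    rw [← ι_congr B (k.hU.basicOpen s₂) (j.hU.basicOpen s₁) hs, ← tr_ι B k.hU s₂, ← Category.assoc]
    congr 1
    rw [tr, tr, tr, ← Spec.map_comp, ← Functor.map_comp]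
    rfl
  exact (loc_target q B B' u j.hU (j.hU.basicOpen s₁) (S.basicOpen_le s₁) (tr_ι B j.hU s₁) (j.hU'.basicOpen r₁) hrle).trans
    (loc_target q B B' u k.hU (j.hU.basicOpen s₁) _ hιs (j.hU'.basicOpen r₁) hrle).symm

theorem result (hu : B.str ≫ u = q.c ≫ (TopCat.Presheaf.pushforward CommRingCat.{u} q.base).map B'.str) :
    (∃! v : B'.spec ⟶ B.spec,
        ∀ (U : S.Opens) (hU : IsAffineOpen U) (U' : S'.Opens) (hU' : IsAffineOpen U') (hle : U' ≤ q ⁻¹ᵁ U),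
          B'.ι U' hU' ≫ v = loc q B B' u hU hU' hle) ∧
      ∀ v : B'.spec ⟶ B.spec,
        (∀ (U : S.Opens) (hU : IsAffineOpen U) (U' : S'.Opens) (hU' : IsAffineOpen U') (hle : U' ≤ q ⁻¹ᵁ U),
          B'.ι U' hU' ≫ v = loc q B B' u hU hU' hle) →
        v ≫ B.π = B'.π ≫ q := by
  refine ⟨⟨(cover q B').glueMorphisms (fun j => loc q B B' u j.hU j.hU' j.hle) (fun j k => compat q B B' u j k),
    fun U hU U' hU' hle => (cover q B').ι_glueMorphisms _ _ (⟨U, hU, U', hU', hle⟩ : J q),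
    fun v hv => (cover q B').hom_ext _ _ fun j => ?_⟩, fun v hv => (cover q B').hom_ext _ _ fun j => ?_⟩
  · rw [Scheme.Cover.ι_glueMorphisms]
    exact hv _ _ _ _ _
  · obtain ⟨U, hU, U', hU', hle⟩ := j
    change B'.ι U' hU' ≫ v ≫ B.π = B'.ι U' hU' ≫ B'.π ≫ q
    rw [reassoc_of% hv U hU U' hU' hle, loc, Category.assoc, B.ι_π, reassoc_of% B'.ι_π U' hU',
      ← Spec.map_comp_assoc]
    rw [← IsAffineOpen.SpecMap_appLE_fromSpec q hU hU' hle, ← Spec.map_comp_assoc]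
    congr 2
    have h : B.str.app (op U) ≫ (u.app (op U) : B.presheaf.obj (op U) ⟶ B'.presheaf.obj (op (q ⁻¹ᵁ U))) =
        (q.app U : Γ(S, U) ⟶ Γ(S', q ⁻¹ᵁ U)) ≫ B'.str.app (op (q ⁻¹ᵁ U)) :=
      congrArg (fun ψ => ψ.app (op U)) hu
    rw [← Category.assoc, h, Category.assoc, Scheme.Hom.appLE, Category.assoc]
    congr 1
    exact (B'.str.naturality (homOfLE hle).op).symm

end

end Groth.Agent.H81.RelProj.SpecMap
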