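import Groth.Agent.H81.RelProj.AwayBaseChange
import Groth.Agent.H81.RelProj.SpecMap
import Groth.Agent.Lib.RelProjBasics.Basic
import Groth.Prelude.Def_RelProj2
import Mathlib.AlgebraicGeometry.Pullbacks

/-!
# Base change of `Proj` and of the relative `Proj`
-/

set_option autoImplicit false
universe u

open CategoryTheory Limits AlgebraicGeometry Opposite TopologicalSpace HomogeneousLocalization Graded
open scoped HomogeneousIdeal

namespace Groth.Agent.H81.RelProj.BaseChange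

open Groth.Agent.Lib.RelProjBasics.Basic (chartStr)
open AwayBaseChange (zeroVal)

noncomputable section

section proj

variable {R R' A B σ τ : Type u} [CommRing R] [CommRing R'] [CommRing A] [SetLike σ A] [AddSubgroupClass σ A]
  [CommRing B] [SetLike τ B] [AddSubgroupClass τ B] {𝒜 : ℕ → σ} {ℬ : ℕ → τ} [GradedRing 𝒜] [GradedRing ℬ]
  (ψ : R →+* R') (gA : R →+* 𝒜 0) (gB : R' →+* ℬ 0) (φ : 𝒜 →+*ᵍ ℬ)

/-- `Proj` commutes with base change. -/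
theorem isPullback_projMap (hφ : ℬ₊ ≤ 𝒜₊.map φ)
    (h : IsPushout (CommRingCat.ofHom ψ) (CommRingCat.ofHom ((zeroVal 𝒜).comp gA))
      (CommRingCat.ofHom ((zeroVal ℬ).comp gB)) (CommRingCat.ofHom (φ : A →+* B))) :
    IsPullback (Proj.map φ hφ) (Proj.toSpecZero ℬ ≫ Spec.map (CommRingCat.ofHom gB))
      (Proj.toSpecZero 𝒜 ≫ Spec.map (CommRingCat.ofHom gA)) (Spec.map (CommRingCat.ofHom ψ)) := by
  refine Scheme.isPullback_of_openCover _ _ _ _ (Proj.affineOpenCover 𝒜).openCover fun t => ?_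
  obtain ⟨⟨m, hm⟩, s, hs⟩ := t
  have hpb : IsPullback (Spec.map (CommRingCat.ofHom (Away.map φ s))) (Proj.awayι ℬ (φ s) (φ.map_mem hs) hm)
      (Proj.awayι 𝒜 s hs hm) (Proj.map φ hφ) := by
    refine IsOpenImmersion.isPullback _ _ _ _ (Proj.awayι_comp_map φ hφ hm s hs) ?_
    rw [Proj.opensRange_awayι, Proj.opensRange_awayι]
    exact Proj.map_preimage_basicOpen _ _ _
  let e := hpb.flip.isoPullback
  have h2 := isPullback_SpecMap_of_isPushout _ _ _ _ (AwayBaseChange.isPushout ψ gA gB φ h hs).flip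
  refine h2.of_iso e (Iso.refl _) (Iso.refl _) (Iso.refl _) ?_ ?_ ?_ ?_
  · change _ ≫ 𝟙 _ = e.hom ≫ pullback.snd (Proj.map φ hφ) (Proj.awayι 𝒜 s hs hm)
    rw [Category.comp_id]
    exact hpb.flip.isoPullback_hom_snd.symm
  · change _ ≫ 𝟙 _ = e.hom ≫ pullback.fst (Proj.map φ hφ) (Proj.awayι 𝒜 s hs hm) ≫ _
    rw [Category.comp_id, ← Category.assoc, hpb.flip.isoPullback_hom_fst, Proj.awayι_toSpecZero_assoc,
      ← Spec.map_comp]
    rfl
  · change _ ≫ 𝟙 _ = 𝟙 _ ≫ Proj.awayι 𝒜 s hs hm ≫ _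
    rw [Category.comp_id, Category.id_comp, Proj.awayι_toSpecZero_assoc, ← Spec.map_comp]
    rfl
  · simp

end proj

section rel

variable {Y P : Scheme.{u}} {𝒮 : RelProj.QCGrAlg Y} {p : P ⟶ Y}
  {chart : ∀ (U : Y.Opens) (hU : IsAffineOpen U), (((p ⁻¹ᵁ U : P.Opens) : Scheme.{u}) ≅ Proj (𝒮.deg U hU))}

theorem isPullback_emb (hP : RelProj.IsRelProj 𝒮 p chart) (U : Y.Opens) (hU : IsAffineOpen U) :
    IsPullback (RelProj.emb p chart U hU) (chartStr 𝒮 U hU) p hU.fromSpec := by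
  refine (IsOpenImmersion.isPullback _ _ _ _ ?_ ?_).flip
  · rw [RelProj.emb, Category.assoc, ← hP.chart_over U hU, Iso.inv_hom_id_assoc, chartStr, Category.assoc]
  · change p ⁻¹ᵁ hU.fromSpec.opensRange = ((chart U hU).inv ≫ (p ⁻¹ᵁ U).ι).opensRange
    rw [IsAffineOpen.opensRange_fromSpec, Scheme.Hom.opensRange_comp_of_isIso, Scheme.Opens.opensRange_ι]

end rel

section main

variable {Y Y' P P' : Scheme.{u}} (ψ : Y' ⟶ Y)

/-- The cover of `Y'` by affine opens mapping into affine opens of `Y`. -/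
def baseCover : Y'.OpenCover :=
  .mkOfCovers (SpecMap.J ψ) (fun j => Spec Γ(Y', j.U')) (fun j => j.hU'.fromSpec)
    (fun x => by
      obtain ⟨j, hj⟩ := SpecMap.exists_J ψ x
      obtain ⟨y, hy⟩ : x ∈ Set.range j.hU'.fromSpec := by rw [j.hU'.range_fromSpec]; exact hj
      exact ⟨j, y, hy⟩)
    fun _ => inferInstance

theorem isPullback {𝒮 : RelProj.QCGrAlg Y} {𝒮' : RelProj.QCGrAlg Y'}
    {u : 𝒮.presheaf ⟶ ψ.base _* 𝒮'.presheaf}
    {φ : ∀ (U : Y.Opens) (hU : IsAffineOpen U) (U' : Y'.Opens) (hU' : IsAffineOpen U') (_ : U' ≤ ψ ⁻¹ᵁ U),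
      𝒮.deg U hU →+*ᵍ 𝒮'.deg U' hU'}
    (hφ : ∀ (U : Y.Opens) (hU : IsAffineOpen U) (U' : Y'.Opens) (hU' : IsAffineOpen U') (hle : U' ≤ ψ ⁻¹ᵁ U),
      (φ U hU U' hU' hle).toRingHom =
        ((u.app (op U) : 𝒮.presheaf.obj (op U) ⟶ 𝒮'.presheaf.obj (op (ψ ⁻¹ᵁ U))) ≫
          𝒮'.presheaf.map (homOfLE hle).op).hom)
    (hpo : ∀ (U : Y.Opens) (hU : IsAffineOpen U) (U' : Y'.Opens) (hU' : IsAffineOpen U') (hle : U' ≤ ψ ⁻¹ᵁ U),
      IsPushout (ψ.appLE U U' hle) (𝒮.str.app (op U)) (𝒮'.str.app (op U'))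
        ((u.app (op U) : 𝒮.presheaf.obj (op U) ⟶ 𝒮'.presheaf.obj (op (ψ ⁻¹ᵁ U))) ≫
          𝒮'.presheaf.map (homOfLE hle).op))
    (hirr : ∀ (U : Y.Opens) (hU : IsAffineOpen U) (U' : Y'.Opens) (hU' : IsAffineOpen U') (hle : U' ≤ ψ ⁻¹ᵁ U),
      (𝒮'.deg U' hU')₊ ≤ ((𝒮.deg U hU)₊).map (φ U hU U' hU' hle))
    {p : P ⟶ Y}
    {chart : ∀ (U : Y.Opens) (hU : IsAffineOpen U), (((p ⁻¹ᵁ U : P.Opens) : Scheme.{u}) ≅ Proj (𝒮.deg U hU))}
    (hP : RelProj.IsRelProj 𝒮 p chart) {p' : P' ⟶ Y'}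
    {chart' : ∀ (U' : Y'.Opens) (hU' : IsAffineOpen U'), (((p' ⁻¹ᵁ U' : P'.Opens) : Scheme.{u}) ≅ Proj (𝒮'.deg U' hU'))}
    (hP' : RelProj.IsRelProj 𝒮' p' chart') {g : P' ⟶ P}
    (hg : ∀ (U : Y.Opens) (hU : IsAffineOpen U) (U' : Y'.Opens) (hU' : IsAffineOpen U') (hle : U' ≤ ψ ⁻¹ᵁ U),
      (p' ⁻¹ᵁ U').ι ≫ g =
        (chart' U' hU').hom ≫ Proj.map (φ U hU U' hU' hle) (hirr U hU U' hU' hle) ≫ RelProj.emb p chart U hU) :
    IsPullback g p' p ψ := by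
  refine (Scheme.isPullback_of_openCover _ _ _ _ (baseCover ψ) fun j => ?_).flip
  obtain ⟨U, hU, U', hU', hle⟩ := j
  have hgU : RelProj.emb p' chart' U' hU' ≫ g =
      Proj.map (φ U hU U' hU' hle) (hirr U hU U' hU' hle) ≫ RelProj.emb p chart U hU := by
    rw [RelProj.emb, Category.assoc, hg U hU U' hU' hle, Iso.inv_hom_id_assoc]
  have h1 : IsPullback (Proj.map (φ U hU U' hU' hle) (hirr U hU U' hU' hle)) (chartStr 𝒮' U' hU')
      (chartStr 𝒮 U hU) (Spec.map (ψ.appLE U U' hle)) := by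
    refine isPullback_projMap (ψ.appLE U U' hle).hom (𝒮.strZero U hU).hom (𝒮'.strZero U' hU').hom _ _ ?_
    have e : CommRingCat.ofHom (φ U hU U' hU' hle : (𝒮.presheaf.obj (op U)) →+* (𝒮'.presheaf.obj (op U'))) =
        (u.app (op U) : 𝒮.presheaf.obj (op U) ⟶ 𝒮'.presheaf.obj (op (ψ ⁻¹ᵁ U))) ≫
          𝒮'.presheaf.map (homOfLE hle).op :=
      CommRingCat.hom_ext (hφ U hU U' hU' hle)
    rw [e]
    exact hpo U hU U' hU' hle
  have h3 := h1.paste_horiz (isPullback_emb hP U hU)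
  rw [← hgU, IsAffineOpen.SpecMap_appLE_fromSpec ψ hU hU' hle] at h3
  have hpb := isPullback_emb hP' U' hU'
  let e := hpb.isoPullback
  refine h3.flip.of_iso e (Iso.refl _) (Iso.refl _) (Iso.refl _) ?_ ?_ ?_ ?_
  · change _ ≫ 𝟙 _ = e.hom ≫ pullback.snd p' hU'.fromSpec
    rw [Category.comp_id]
    exact hpb.isoPullback_hom_snd.symm
  · change _ ≫ 𝟙 _ = e.hom ≫ pullback.fst p' hU'.fromSpec ≫ g
    rw [Category.comp_id, ← Category.assoc, hpb.isoPullback_hom_fst]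
  · change _ ≫ 𝟙 _ = 𝟙 _ ≫ hU'.fromSpec ≫ ψ
    simp
  · simp

end main

end

end Groth.Agent.H81.RelProj.BaseChange
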