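import Groth.Agent.H81.RelProj.Map
import Groth.Agent.H81.RelProj.RelComap
import Groth.Agent.Lib.SymAlg.Gen
import Mathlib.AlgebraicGeometry.Limits

/-!
# `P(E) ⨿ P(F) ⊆ P(E ⊕ F)`
-/

set_option autoImplicit false
universe u

open CategoryTheory CategoryTheory.Limits AlgebraicGeometry TopologicalSpace Opposite
open scoped HomogeneousIdeal

namespace Groth.Agent.H81.RelProj.BiprodBundle

noncomputable section

/-- Two disjoint closed immersions give a closed immersion of the coproduct. -/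
theorem isClosedImmersion_desc {X Y Z : Scheme.{u}} (f : X ⟶ Z) (g : Y ⟶ Z) [IsClosedImmersion f]
    [IsClosedImmersion g] (h : ∀ (x : X) (y : Y), f x ≠ g y) : IsClosedImmersion (coprod.desc f g) := by
  have hl : ∀ x : X, coprod.desc f g ((coprod.inl : X ⟶ X ⨿ Y) x) = f x := fun x =>
    congr($(coprod.inl_desc f g) x)
  have hr : ∀ y : Y, coprod.desc f g ((coprod.inr : Y ⟶ X ⨿ Y) y) = g y := fun y =>
    congr($(coprod.inr_desc f g) y)
  have hcases : ∀ w : (X ⨿ Y : Scheme.{u}), (∃ x, (coprod.inl : X ⟶ X ⨿ Y) x = w) ∨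
      ∃ y, (coprod.inr : Y ⟶ X ⨿ Y) y = w := by
    intro w
    obtain ⟨(x | y), rfl⟩ := (coprodMk X Y).surjective w
    · exact Or.inl ⟨x, (coprodMk_inl X Y x).symm⟩
    · exact Or.inr ⟨y, (coprodMk_inr X Y y).symm⟩
  haveI : SurjectiveOnStalks (coprod.desc f g) := by
    have aux : ∀ {W : Scheme.{u}} (i : W ⟶ X ⨿ Y) [IsOpenImmersion i] (k : W ⟶ Z) [IsClosedImmersion k]
        (_ : i ≫ coprod.desc f g = k) (x : W), Function.Surjective ((coprod.desc f g).stalkMap (i x)) := by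
      intro W i _ k _ e x
      subst e
      have h1 : Function.Surjective ((i ≫ coprod.desc f g).stalkMap x) :=
        Scheme.Hom.stalkMap_surjective (i ≫ coprod.desc f g) x
      rw [Scheme.Hom.stalkMap_comp] at h1
      have hb : Function.Bijective (i.stalkMap x) := ConcreteCategory.bijective_of_isIso _
      intro a
      obtain ⟨b, hb'⟩ := h1 (i.stalkMap x a)
      exact ⟨b, hb.1 hb'⟩
    refine ⟨fun w => ?_⟩
    obtain ⟨x, rfl⟩ | ⟨y, rfl⟩ := hcases w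
    · exact aux coprod.inl f (coprod.inl_desc f g) x
    · exact aux coprod.inr g (coprod.inr_desc f g) y
  have hinj : Function.Injective (coprod.desc f g) := by
    intro a b hab
    obtain ⟨x, rfl⟩ | ⟨y, rfl⟩ := hcases a <;> obtain ⟨x', rfl⟩ | ⟨y', rfl⟩ := hcases b
    · rw [hl, hl] at hab; rw [f.isClosedEmbedding.injective hab]
    · rw [hl, hr] at hab; exact absurd hab (h x y')
    · rw [hr, hl] at hab; exact absurd hab.symm (h x' y)
    · rw [hr, hr] at hab; rw [g.isClosedEmbedding.injective hab]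
  have hcl : IsClosedMap (coprod.desc f g) := by
    intro s hs
    have e : coprod.desc f g '' s = f '' ((coprod.inl : X ⟶ X ⨿ Y) ⁻¹' s) ∪ g '' ((coprod.inr : Y ⟶ X ⨿ Y) ⁻¹' s) := by
      ext z
      constructor
      · rintro ⟨w, hw, rfl⟩
        obtain ⟨x, rfl⟩ | ⟨y, rfl⟩ := hcases w
        · exact Or.inl ⟨x, hw, (hl x).symm⟩
        · exact Or.inr ⟨y, hw, (hr y).symm⟩
      · rintro (⟨x, hx, rfl⟩ | ⟨y, hy, rfl⟩)
        · exact ⟨_, hx, hl x⟩
        · exact ⟨_, hy, hr y⟩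
    rw [e]
    exact (f.isClosedEmbedding.isClosedMap _ (hs.preimage (coprod.inl : X ⟶ X ⨿ Y).continuous)).union
      (g.isClosedEmbedding.isClosedMap _ (hs.preimage (coprod.inr : Y ⟶ X ⨿ Y).continuous))
  exact (isClosedImmersion_iff _).2 ⟨inferInstance,
    Topology.IsClosedEmbedding.of_continuous_injective_isClosedMap (coprod.desc f g).continuous hinj hcl⟩

theorem ker_le_map {A σ : Type u} [CommRing A] [SetLike σ A] [AddSubgroupClass σ A] {𝒜 : ℕ → σ} [GradedRing 𝒜]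
    {B τ : Type u} [CommRing B] [SetLike τ B] [AddSubgroupClass τ B] {ℬ : ℕ → τ} [GradedRing ℬ]
    (φ : 𝒜 →+*ᵍ ℬ) (h : ℬ₊ ≤ (𝒜₊).map φ) (w : Proj ℬ) (y : ProjectiveSpectrum 𝒜) (hy : (Proj.map φ h) w = y)
    (a : A) (ha : φ a = 0) : a ∈ y.asHomogeneousIdeal := by
  subst hy
  change φ a ∈ w.asHomogeneousIdeal
  rw [ha]
  exact zero_mem _

open Groth.Agent.Lib.SymAlg Groth.Agent.Lib

variable {Y : Scheme.{u}} {E F : Y.Modules} {𝒮 𝒮E 𝒮F : RelProj.QCGrAlg Y}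
  {jE : E ⟶ 𝒮E.toModule} {j : E ⊞ F ⟶ 𝒮.toModule}

theorem surjective_app (hE : Coh.IsQCoh E) (hjE : RelProj.IsGrSymAlg E 𝒮E jE) (πE : 𝒮.toQCAlg ⟶ 𝒮E.toQCAlg)
    (i : E ⟶ E ⊞ F) (hi : i ≫ j ≫ RelSpec.QCAlg.Hom.toModuleMap πE = jE) (U : Y.Opens) (hU : IsAffineOpen U) :
    Function.Surjective (πE.hom.app (op U)).hom := by
  intro b
  have hb : b ∈ (Subring.closure ((Set.range fun r : Γ(Y, U) => (𝒮E.str.app (op U)).hom r) ∪
      Set.range fun e : Γ(E, U) => (jE.app U) e)) := by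
    have h := Gen.adj_eq_top' hjE hE hU
    exact (h.ge (Subring.mem_top b) :)
  refine (Subring.closure_le (t := (πE.hom.app (op U)).hom.range)).2 ?_ hb
  rintro _ (⟨r, rfl⟩ | ⟨e, rfl⟩)
  · exact ⟨(𝒮.str.app (op U)).hom r, congr(($(NatTrans.congr_app πE.comm (op U))).hom r)⟩
  · exact ⟨(j.app U) ((i.app U) e), congr(($hi).app U e)⟩

theorem notMem_pair (hEF : Coh.IsQCoh (E ⊞ F)) (hj : RelProj.IsGrSymAlg (E ⊞ F) 𝒮 j)
    (πE : 𝒮.toQCAlg ⟶ 𝒮E.toQCAlg) (hπE : RelProj.IsGradedHom πE)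
    {jF : F ⟶ 𝒮F.toModule} (πF : 𝒮.toQCAlg ⟶ 𝒮F.toQCAlg) (hπF : RelProj.IsGradedHom πF)
    (hjπE : j ≫ RelSpec.QCAlg.Hom.toModuleMap πE = biprod.fst ≫ jE)
    (hjπF : j ≫ RelSpec.QCAlg.Hom.toModuleMap πF = biprod.snd ≫ jF)
    {U : Y.Opens} (hU : IsAffineOpen U) (y : ProjectiveSpectrum (𝒮.deg U hU))
    (hyE : RingHom.ker (πE.hom.app (op U)).hom ≤ y.asHomogeneousIdeal.toIdeal)
    (hyF : RingHom.ker (πF.hom.app (op U)).hom ≤ y.asHomogeneousIdeal.toIdeal) : False := by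
  obtain ⟨e, he⟩ := Gen.exists_not_mem hj hEF hU y
  refine he ?_
  have h1 : biprod.fst ≫ biprod.inl ≫ j + biprod.snd ≫ biprod.inr ≫ j = j := by
    rw [← Category.assoc, ← Category.assoc, ← Preadditive.add_comp, biprod.total, Category.id_comp]
  have h2 : (j.app U) e = (j.app U) (((biprod.fst ≫ biprod.inl : E ⊞ F ⟶ E ⊞ F).app U) e) +
      (j.app U) (((biprod.snd ≫ biprod.inr : E ⊞ F ⟶ E ⊞ F).app U) e) := (congr(($h1).app U e)).symm
  have h3 : (πF.hom.app (op U)).hom ((j.app U) (((biprod.fst ≫ biprod.inl : E ⊞ F ⟶ E ⊞ F).app U) e)) = 0 := by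
    have e1 : (biprod.fst ≫ biprod.inl : E ⊞ F ⟶ E ⊞ F) ≫ j ≫ RelSpec.QCAlg.Hom.toModuleMap πF = 0 := by
      rw [hjπF, Category.assoc, biprod.inl_snd_assoc, zero_comp, comp_zero]
    exact congr(($e1).app U e)
  have h4 : (πE.hom.app (op U)).hom ((j.app U) (((biprod.snd ≫ biprod.inr : E ⊞ F ⟶ E ⊞ F).app U) e)) = 0 := by
    have e1 : (biprod.snd ≫ biprod.inr : E ⊞ F ⟶ E ⊞ F) ≫ j ≫ RelSpec.QCAlg.Hom.toModuleMap πE = 0 := by
      rw [hjπE, Category.assoc, biprod.inr_fst_assoc, zero_comp, comp_zero]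
    exact congr(($e1).app U e)
  change (j.app U) e ∈ y.asHomogeneousIdeal.toIdeal
  rw [h2]
  exact add_mem (hyF h3) (hyE h4)

end

end Groth.Agent.H81.RelProj.BiprodBundle
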