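import Groth.Agent.H81.RelProj.Map

/-!
# Nonempty basic opens of Proj, density, integrality
-/

set_option autoImplicit false
universe u

open CategoryTheory Limits AlgebraicGeometry Opposite TopologicalSpace HomogeneousLocalization Graded
open scoped HomogeneousIdeal

namespace Groth.Agent.H81.RelProj.Dense

open Groth.Agent.Lib.RelProjBasics

noncomputable section

variable {A B σ τ : Type u} [CommRing A] [SetLike σ A] [AddSubgroupClass σ A]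
  [CommRing B] [SetLike τ B] [AddSubgroupClass τ B]
  {𝒜 : ℕ → σ} {ℬ : ℕ → τ} [GradedRing 𝒜] [GradedRing ℬ]

/-- A homogeneous element of positive degree which is not nilpotent has a nonempty basic open. -/
theorem nonempty_basicOpen {i : ℕ} (hi : 0 < i) {g : A} (hg : g ∈ 𝒜 i) (hnil : ¬ IsNilpotent g) :
    ∃ x : Proj 𝒜, x ∈ Proj.basicOpen 𝒜 g := by
  haveI : Nontrivial (Away 𝒜 g) := by
    refine ⟨0, 1, fun h => hnil ?_⟩
    have h' := congrArg HomogeneousLocalization.val h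
    rw [val_zero, val_one] at h'
    obtain ⟨⟨_, m, rfl⟩, hm⟩ := (IsLocalization.eq_iff_exists (Submonoid.powers g) (Localization.Away g)).1
      ((map_zero (algebraMap A (Localization.Away g))).trans (h'.trans (map_one _).symm))
    exact ⟨m, by simpa using hm.symm⟩
  obtain ⟨y⟩ : Nonempty (PrimeSpectrum (Away 𝒜 g)) := inferInstance
  refine ⟨Proj.awayι 𝒜 g hg hi y, ?_⟩
  rw [← Proj.opensRange_awayι 𝒜 g hg hi]
  exact ⟨y, rfl⟩

/-- Every point of an open set has a homogeneous basic neighbourhood of positive degree inside it. -/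
theorem exists_basicOpen_le (O : (Proj 𝒜).Opens) {x : Proj 𝒜} (hx : x ∈ O) :
    ∃ (i : ℕ) (g : A), 0 < i ∧ g ∈ 𝒜 i ∧ x ∈ Proj.basicOpen 𝒜 g ∧ Proj.basicOpen 𝒜 g ≤ O := by
  classical
  obtain ⟨_, ⟨f, rfl⟩, hxf, hfO⟩ :=
    (ProjectiveSpectrum.isTopologicalBasis_basic_opens 𝒜).exists_subset_of_mem_open hx O.2
  have hxf' : x ∈ Proj.basicOpen 𝒜 f := hxf
  rw [Proj.basicOpen_eq_iSup_proj] at hxf'
  obtain ⟨j, hj⟩ := Opens.mem_iSup.1 hxf'
  obtain ⟨s, y, hy⟩ := (Proj.affineOpenCover 𝒜).openCover.exists_eq x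
  have hxs : x ∈ Proj.basicOpen 𝒜 s.2.1 := by
    rw [← Proj.opensRange_awayι 𝒜 s.2.1 s.2.2 s.1.2]; exact ⟨y, hy⟩
  refine ⟨j + s.1, GradedRing.proj 𝒜 j f * s.2.1, Nat.add_pos_right j s.1.2,
    SetLike.mul_mem_graded (SetLike.coe_mem _) s.2.2, ?_, ?_⟩
  · rw [Proj.basicOpen_mul]; exact ⟨hj, hxs⟩
  · rw [Proj.basicOpen_mul]
    refine inf_le_left.trans ((le_iSup (fun i => Proj.basicOpen 𝒜 (GradedRing.proj 𝒜 i f)) j).trans ?_)
    rw [← Proj.basicOpen_eq_iSup_proj]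
    exact hfO

theorem not_isNilpotent_of_mem {g : A} {x : Proj 𝒜} (hx : x ∈ Proj.basicOpen 𝒜 g) : ¬ IsNilpotent g :=
  fun ⟨n, hn⟩ => hx (x.isPrime.mem_of_pow_mem n (by rw [hn]; exact Ideal.zero_mem _))

theorem denseRange_map (φ : 𝒜 →+*ᵍ ℬ) (hφ : ℬ₊ ≤ 𝒜₊.map φ) (hker : ∀ a : A, φ a = 0 → IsNilpotent a) :
    DenseRange (Proj.map φ hφ).base := by
  rw [DenseRange, dense_iff_inter_open]
  intro O hO ⟨x, hx⟩
  obtain ⟨i, g, hi, hg, hxg, hle⟩ := exists_basicOpen_le ⟨O, hO⟩ hx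
  have hnil : ¬ IsNilpotent (φ g) := fun ⟨n, hn⟩ =>
    not_isNilpotent_of_mem hxg (IsNilpotent.of_pow (hker (g ^ n) (by rw [map_pow, hn])))
  obtain ⟨y, hy⟩ := nonempty_basicOpen hi (φ.map_mem hg) hnil
  exact ⟨Proj.map φ hφ y, hle hy, y, rfl⟩

theorem nonempty_proj [IsDomain A] (h : (𝒜₊).toIdeal ≠ ⊥) : Nonempty (Proj 𝒜) := by
  classical
  obtain ⟨a, ha, ha0⟩ := Submodule.exists_mem_ne_zero_of_ne_bot h
  obtain ⟨i, hi⟩ : ∃ i, (DirectSum.decompose 𝒜 a i : A) ≠ 0 := by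
    by_contra! hall
    exact ha0 (by rw [← DirectSum.sum_support_decompose 𝒜 a]; exact Finset.sum_eq_zero fun i _ => hall i)
  have hi0 : 0 < i := Nat.pos_of_ne_zero fun h0 => hi (by
    subst h0; exact (HomogeneousIdeal.mem_irrelevant_iff _ _).1 ha)
  obtain ⟨x, -⟩ := nonempty_basicOpen hi0 (SetLike.coe_mem _) fun hn => hi hn.eq_zero
  exact ⟨x⟩

theorem irreducibleSpace_proj [IsDomain A] (h : (𝒜₊).toIdeal ≠ ⊥) : IrreducibleSpace (Proj 𝒜) := by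
  haveI := nonempty_proj h
  haveI : PreirreducibleSpace (Proj 𝒜) := by
    refine ⟨fun O₁ O₂ h1 h2 ⟨x, _, hx⟩ ⟨y, _, hy⟩ => ?_⟩
    obtain ⟨i, g, hi, hg, hxg, hle⟩ := exists_basicOpen_le ⟨O₁, h1⟩ hx
    obtain ⟨j, g', hj, hg', hyg, hle'⟩ := exists_basicOpen_le ⟨O₂, h2⟩ hy
    have hne : ¬ IsNilpotent (g * g') := fun hn => by
      rcases mul_eq_zero.1 hn.eq_zero with h0 | h0
      · exact not_isNilpotent_of_mem hxg (h0 ▸ IsNilpotent.zero)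
      · exact not_isNilpotent_of_mem hyg (h0 ▸ IsNilpotent.zero)
    obtain ⟨z, hz⟩ := nonempty_basicOpen (by omega) (SetLike.mul_mem_graded hg hg') hne
    rw [Proj.basicOpen_mul] at hz
    exact ⟨z, trivial, hle hz.1, hle' hz.2⟩
  exact ⟨inferInstance⟩

theorem isIntegral {Y P : Scheme.{u}} [IsIntegral Y] (𝒮 : RelProj.QCGrAlg Y)
    (hint : ∀ (U : Y.Opens) (hU : IsAffineOpen U), (U : Set Y).Nonempty →
      IsDomain (𝒮.presheaf.obj (op U)) ∧ ((𝒮.deg U hU)₊).toIdeal ≠ ⊥)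
    (p : P ⟶ Y)
    (chart : ∀ (U : Y.Opens) (hU : IsAffineOpen U), (((p ⁻¹ᵁ U : P.Opens) : Scheme.{u}) ≅ Proj (𝒮.deg U hU)))
    : IsIntegral P ∧ DenseRange p.base := by
  have hne : ∀ (U : Y.Opens) (hU : IsAffineOpen U), (U : Set Y).Nonempty → ∃ x : P, p x ∈ U := fun U hU h => by
    obtain ⟨hd, hb⟩ := hint U hU h
    haveI := hd
    obtain ⟨x⟩ := nonempty_proj hb
    exact ⟨_, ((chart U hU).inv x).2⟩
  have hsmall : ∀ O : Set Y, IsOpen O → ∀ y ∈ O, ∃ U : Y.Opens, IsAffineOpen U ∧ y ∈ U ∧ (U : Set Y) ⊆ O :=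
    fun O hO y hy => by
      obtain ⟨U, hU, hyU, hle⟩ := exists_isAffineOpen_mem_and_subset (U := ⟨O, hO⟩) hy
      exact ⟨U, hU, hyU, hle⟩
  refine ⟨?_, ?_⟩
  · haveI : AlgebraicGeometry.IsReduced P := Map.isReduced 𝒮 (fun U hU x _ hx => by
      rcases (U : Set Y).eq_empty_or_nonempty with he | he
      · obtain rfl : U = ⊥ := Opens.ext he
        haveI : Subsingleton (𝒮.presheaf.obj (op (⊥ : Y.Opens))) :=
          CommRingCat.subsingleton_of_isTerminal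
            (TopCat.Sheaf.isTerminalOfEmpty (⟨𝒮.presheaf, 𝒮.isSheaf⟩ : TopCat.Sheaf CommRingCat Y.carrier))
        exact Subsingleton.elim _ _
      · haveI := (hint U hU he).1
        exact hx.eq_zero) p chart
    haveI : Nonempty P := by
      obtain ⟨y⟩ : Nonempty Y := inferInstance
      obtain ⟨U, hU, hyU, -⟩ := hsmall _ isOpen_univ y trivial
      exact ⟨(hne U hU ⟨y, hyU⟩).choose⟩
    haveI : PreirreducibleSpace P := by
      refine ⟨fun O₁ O₂ h1 h2 ⟨x, _, hx⟩ ⟨y, _, hy⟩ => ?_⟩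
      -- inside one chart, two nonempty opens meet
      have key : ∀ (U : Y.Opens) (hU : IsAffineOpen U) (W₁ W₂ : Set P), IsOpen W₁ → IsOpen W₂ →
          (∃ a ∈ W₁, p a ∈ U) → (∃ b ∈ W₂, p b ∈ U) → ∃ c, c ∈ W₁ ∧ c ∈ W₂ ∧ p c ∈ U := by
        rintro U hU W₁ W₂ hW₁ hW₂ ⟨a, ha, haU⟩ ⟨b, hb, hbU⟩
        obtain ⟨hd, hbot⟩ := hint U hU ⟨_, haU⟩
        haveI := hd
        haveI := irreducibleSpace_proj hbot
        obtain ⟨z, h₁, h₂⟩ := nonempty_preirreducible_inter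
          (hW₁.preimage ((chart U hU).inv ≫ (p ⁻¹ᵁ U).ι).continuous) (hW₂.preimage ((chart U hU).inv ≫ (p ⁻¹ᵁ U).ι).continuous)
          ⟨(chart U hU).hom ⟨a, haU⟩, by
            show ((chart U hU).hom ≫ (chart U hU).inv ≫ (p ⁻¹ᵁ U).ι) ⟨a, haU⟩ ∈ W₁
            rw [Iso.hom_inv_id_assoc]; exact ha⟩
          ⟨(chart U hU).hom ⟨b, hbU⟩, by
            show ((chart U hU).hom ≫ (chart U hU).inv ≫ (p ⁻¹ᵁ U).ι) ⟨b, hbU⟩ ∈ W₂
            rw [Iso.hom_inv_id_assoc]; exact hb⟩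
        exact ⟨_, h₁, h₂, ((chart U hU).inv z).2⟩
      obtain ⟨U, hU, hxU, -⟩ := hsmall _ isOpen_univ (p x) trivial
      obtain ⟨V, hV, hyV, -⟩ := hsmall _ isOpen_univ (p y) trivial
      obtain ⟨w, hwU, hwV⟩ := nonempty_preirreducible_inter U.2 V.2 ⟨_, hxU⟩ ⟨_, hyV⟩
      obtain ⟨W, hW, hwW, hWle⟩ := hsmall _ (U.2.inter V.2) w ⟨hwU, hwV⟩
      obtain ⟨c, hc⟩ := hne W hW ⟨w, hwW⟩
      have hoW := W.2.preimage p.continuous
      obtain ⟨a, ha, haW, -⟩ := key U hU O₁ _ h1 hoW ⟨x, hx, hxU⟩ ⟨c, hc, (hWle hc).1⟩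
      obtain ⟨b, hb, hbW, -⟩ := key V hV O₂ _ h2 hoW ⟨y, hy, hyV⟩ ⟨c, hc, (hWle hc).2⟩
      obtain ⟨z, hz1, hz2, -⟩ := key W hW O₁ O₂ h1 h2 ⟨a, ha, haW⟩ ⟨b, hb, hbW⟩
      exact ⟨z, trivial, hz1, hz2⟩
    haveI : IrreducibleSpace P := ⟨inferInstance⟩
    exact isIntegral_of_irreducibleSpace_of_isReduced P
  · rw [DenseRange, dense_iff_inter_open]
    intro O hO ⟨y, hy⟩
    obtain ⟨U, hU, hyU, hle⟩ := hsmall O hO y hy
    obtain ⟨x, hx⟩ := hne U hU ⟨y, hyU⟩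
    exact ⟨p x, hle hx, x, rfl⟩

end

end Groth.Agent.H81.RelProj.Dense
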