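import Groth.Agent.Lib.SymAlg.LineVA
import Groth.Agent.Lib.Modules.StalkModule
import Groth.Prelude.Def_RelProj2
import Groth.Prelude.Def_FlatMod2
import Mathlib.RingTheory.Flat.EquationalCriterion
import Mathlib.AlgebraicGeometry.Morphisms.Flat

/-!
# Flatness of `Proj` and of the twisting sheaves when the high degrees are flat
-/

set_option autoImplicit false
universe u

open CategoryTheory AlgebraicGeometry TopologicalSpace Opposite

namespace Groth.Agent.H81.RelProj.Flatness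

noncomputable section

section Algebra

variable {A σ R : Type u} [CommRing A] [SetLike σ A] [AddSubgroupClass σ A] {𝒜 : ℕ → σ} [GradedRing 𝒜]
  [CommRing R]

/-- Linear relations in a piece are trivial. -/
def TrivRel (st : R →+* A) (𝒜 : ℕ → σ) (d : ℕ) : Prop :=
  ∀ (l : ℕ) (r : Fin l → R) (v : Fin l → A), (∀ i, v i ∈ 𝒜 d) → ∑ i, st (r i) * v i = 0 →
    ∃ (k : ℕ) (a : Fin l → Fin k → R) (w : Fin k → A), (∀ j, w j ∈ 𝒜 d) ∧
      (∀ i, v i = ∑ j, st (a i j) * w j) ∧ ∀ j, ∑ i, r i * a i j = 0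

/-- Local description of the degree-`n` fractions on an open. -/
def IsLocFrac (n : ℤ) {V : Opens (ProjectiveSpectrum.top 𝒜)} (t : ∀ z : V, GrTwist.Loc 𝒜 z.1) : Prop :=
  ∀ y : V, ∃ (i j : ℕ) (a b : A), a ∈ 𝒜 i ∧ b ∈ 𝒜 j ∧ b ∉ y.1.asHomogeneousIdeal ∧
    ((i : ℤ) = j + n ∨ a = 0) ∧ ∃ V₁ : Opens (ProjectiveSpectrum.top 𝒜), y.1 ∈ V₁ ∧
      ∀ (z : V) (_ : z.1 ∈ V₁) (hb : b ∉ z.1.asHomogeneousIdeal), t z = Localization.mk a ⟨b, hb⟩

abbrev nmOne (x : ProjectiveSpectrum 𝒜) : (1 : A) ∈ x.asHomogeneousIdeal.toIdeal.primeCompl :=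
  fun h => x.isPrime.ne_top ((Ideal.eq_top_iff_one _).mpr h)

theorem exists_trivialization (st : R →+* A) (h0 : ∀ r, st r ∈ 𝒜 0) (d₀ : ℕ)
    (hflat : ∀ d, d₀ ≤ d → TrivRel st 𝒜 d) (n : ℤ) {V : Opens (ProjectiveSpectrum.top 𝒜)} (y : V)
    (l : ℕ) (r : Fin l → R) (t : Fin l → ∀ z : V, GrTwist.Loc 𝒜 z.1) (ht : ∀ i, IsLocFrac n (t i))
    (h : ∑ i, Localization.mk (st (r i)) ⟨1, nmOne y.1⟩ * t i y = 0) :
    ∃ (k e d : ℕ) (a : Fin l → Fin k → R) (w : Fin k → A) (s : A)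
      (V' : Opens (ProjectiveSpectrum.top 𝒜)) (hV' : V' ≤ V),
      y.1 ∈ V' ∧ (∀ j, w j ∈ 𝒜 d) ∧ s ∈ 𝒜 e ∧ (d : ℤ) = e + n ∧ (∀ j, ∑ i, r i * a i j = 0) ∧
      ∃ hs : ∀ z : V', s ∉ z.1.asHomogeneousIdeal, ∀ (i : Fin l) (z : V'),
        t i ⟨z.1, hV' z.2⟩ =
          ∑ j, Localization.mk (st (a i j)) ⟨1, nmOne z.1⟩ * Localization.mk (w j) ⟨s, hs z⟩ := by
  classical
  choose ai bi av bv hav hbv hbn hdeg Vi hyVi hrep using fun i => ht i y
  obtain ⟨dg, hdg, g, hg, hgy⟩ : ∃ dg, 0 < dg ∧ ∃ g ∈ 𝒜 dg, g ∉ y.1.asHomogeneousIdeal := by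
    by_contra hne
    push Not at hne
    exact y.1.not_irrelevant_le ((HomogeneousIdeal.irrelevant_le 𝒜).mpr hne)
  let N := d₀ + n.natAbs
  let e₀ := (∑ i, bi i) + N * dg
  obtain ⟨d₁, hd₁, hd₁'⟩ : ∃ d₁ : ℕ, (d₁ : ℤ) = e₀ + n ∧ d₀ ≤ d₁ := by
    refine ⟨((e₀ : ℤ) + n).toNat, ?_, ?_⟩ <;>
    · have h1 : N ≤ e₀ := (Nat.le_mul_of_pos_right N hdg).trans (Nat.le_add_left _ _)
      simp only [N] at h1
      omega
  let s₀ := (∏ i, bv i) * g ^ N
  have hs₀ : s₀ ∈ 𝒜 e₀ := SetLike.mul_mem_graded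
    (SetLike.prod_mem_graded 𝒜 bi bv fun i _ => hbv i) (by rw [← smul_eq_mul]; exact SetLike.pow_mem_graded N hg)
  let num : Fin l → A := fun i => av i * ((∏ j ∈ Finset.univ.erase i, bv j) * g ^ N)
  have hnum : ∀ i, num i ∈ 𝒜 d₁ := by
    intro i
    rcases hdeg i with h' | h'
    · have hm : num i ∈ 𝒜 (ai i + ((∑ j ∈ Finset.univ.erase i, bi j) + N • dg)) :=
        SetLike.mul_mem_graded (hav i) (SetLike.mul_mem_graded
          (SetLike.prod_mem_graded 𝒜 bi bv fun j _ => hbv j) (SetLike.pow_mem_graded N hg))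
      have e : ai i + ((∑ j ∈ Finset.univ.erase i, bi j) + N • dg) = d₁ := by
        have := Finset.add_sum_erase Finset.univ bi (Finset.mem_univ i)
        have e0 : e₀ = (∑ j, bi j) + N * dg := rfl
        rw [smul_eq_mul]
        omega
      exact e ▸ hm
    · simp only [num, h', zero_mul]
      exact zero_mem _
  have hs₀y : s₀ ∉ y.1.asHomogeneousIdeal := by
    have : s₀ ∈ y.1.asHomogeneousIdeal.toIdeal.primeCompl :=
      mul_mem (prod_mem fun i _ => hbn i) (pow_mem (show g ∈ y.1.asHomogeneousIdeal.toIdeal.primeCompl from hgy) N)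
    exact this
  have hcommon : ∀ (i : Fin l) (z : V) (_ : z.1 ∈ Vi i) (hz : s₀ ∉ z.1.asHomogeneousIdeal),
      t i z = Localization.mk (num i) ⟨s₀, hz⟩ := by
    intro i z hzi hz
    have hb : bv i ∉ z.1.asHomogeneousIdeal := fun hb => hz (Ideal.mul_mem_right _ _
      (Ideal.mem_of_dvd _ (Finset.dvd_prod_of_mem bv (Finset.mem_univ i)) hb))
    rw [hrep i z hzi hb, Localization.mk_eq_mk_iff, Localization.r_iff_exists]
    refine ⟨1, ?_⟩
    simp only [OneMemClass.coe_one, one_mul, num, s₀, ← Finset.mul_prod_erase Finset.univ bv (Finset.mem_univ i)]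
    ring
  -- the relation at `y` is killed by a homogeneous element outside `y`
  obtain ⟨eu, u, hu, huy, hu0⟩ : ∃ (eu : ℕ) (u : A), u ∈ 𝒜 eu ∧ u ∉ y.1.asHomogeneousIdeal ∧
      u * ∑ i, st (r i) * num i = 0 := by
    have hσ : ∑ i, st (r i) * num i ∈ 𝒜 d₁ := sum_mem fun i _ => by
      simpa using SetLike.mul_mem_graded (h0 (r i)) (hnum i)
    have h1 : algebraMap A (GrTwist.Loc 𝒜 y.1) (∑ i, st (r i) * num i) = 0 := by
      have h2 : algebraMap A (GrTwist.Loc 𝒜 y.1) (∑ i, st (r i) * num i) =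
          algebraMap A (GrTwist.Loc 𝒜 y.1) s₀ * ∑ i, Localization.mk (st (r i)) ⟨1, nmOne y.1⟩ * t i y := by
        rw [map_sum, Finset.mul_sum]
        refine Finset.sum_congr rfl fun i _ => ?_
        rw [hcommon i y (hyVi i) hs₀y, ← Localization.mk_one_eq_algebraMap, ← Localization.mk_one_eq_algebraMap,
          Localization.mk_mul, Localization.mk_mul, Localization.mk_eq_mk_iff, Localization.r_iff_exists]
        refine ⟨1, ?_⟩
        simp only [Submonoid.coe_mul, OneMemClass.coe_one, one_mul, mul_one]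
      rw [h2, h, mul_zero]
    rw [IsLocalization.map_eq_zero_iff y.1.asHomogeneousIdeal.toIdeal.primeCompl] at h1
    obtain ⟨⟨u, hu⟩, hu0⟩ := h1
    obtain ⟨e, he⟩ : ∃ e, (DirectSum.decompose 𝒜 u e : A) ∉ y.1.asHomogeneousIdeal := by
      by_contra hne
      push Not at hne
      refine hu ?_
      rw [← DirectSum.sum_support_decompose 𝒜 u]
      exact Ideal.sum_mem _ fun e _ => hne e
    refine ⟨e, _, SetLike.coe_mem _, he, ?_⟩
    have h3 := DirectSum.coe_decompose_mul_of_right_mem_of_le 𝒜 (a := u) hσ (show d₁ ≤ e + d₁ by omega)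
    rw [Nat.add_sub_cancel, hu0] at h3
    rw [← h3, DirectSum.decompose_zero]
    simp
  -- trivialize the relation in degree `eu + d₁`
  obtain ⟨k, a, w, hw, hvw, hra⟩ := hflat (eu + d₁) (by omega) l r (fun i => u * num i)
    (fun i => SetLike.mul_mem_graded hu (hnum i)) (by
      rw [← hu0, Finset.mul_sum]
      exact Finset.sum_congr rfl fun i _ => by ring)
  let s := u * s₀
  let D : Opens (ProjectiveSpectrum.top 𝒜) := ProjectiveSpectrum.basicOpen 𝒜 s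
  refine ⟨k, eu + e₀, eu + d₁, a, w, s, V ⊓ D ⊓ Finset.univ.inf Vi, inf_le_left.trans inf_le_left,
    ⟨⟨y.2, ?_⟩, ?_⟩, hw, SetLike.mul_mem_graded hu hs₀, by omega, hra, fun z => z.2.1.2, fun i z => ?_⟩
  · exact fun hh => (y.1.isPrime.mem_or_mem hh).elim huy hs₀y
  · change y.1 ∈ ((Finset.univ.inf Vi : Opens _) : Set _)
    rw [Opens.coe_finset_inf, Finset.inf_set_eq_iInter]
    simp only [Set.mem_iInter]
    exact fun i _ => hyVi i
  · have hzi : z.1 ∈ Vi i := (Finset.inf_le (f := Vi) (Finset.mem_univ i)) z.2.2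
    have hz : s ∉ z.1.asHomogeneousIdeal := z.2.1.2
    rw [hcommon i ⟨z.1, z.2.1.1⟩ hzi fun hh => hz (Ideal.mul_mem_left _ _ hh)]
    have e : ∀ j, Localization.mk (st (a i j)) ⟨1, nmOne z.1⟩ * Localization.mk (w j) ⟨s, hz⟩ =
        Localization.mk (st (a i j) * w j) (⟨s, hz⟩ : z.1.asHomogeneousIdeal.toIdeal.primeCompl) := fun j => by
      rw [Localization.mk_mul]
      exact congrArg _ (Subtype.ext (one_mul s))
    rw [Finset.sum_congr rfl fun j _ => e j,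
      show ∑ j, Localization.mk (st (a i j) * w j) (⟨s, hz⟩ : z.1.asHomogeneousIdeal.toIdeal.primeCompl) =
        Localization.mk (∑ j, st (a i j) * w j) ⟨s, hz⟩ by simp only [Localization.mk_sum],
      ← hvw i, Localization.mk_eq_mk_iff, Localization.r_iff_exists]
    refine ⟨1, ?_⟩
    simp only [OneMemClass.coe_one, one_mul, s]
    ring

theorem trivRel_of_flat (st : R →+* A) (h0 : ∀ r, st r ∈ 𝒜 0) (d : ℕ)
    (h : letI := st.toAlgebra; Module.Flat R ↥(Submodule.span R (𝒜 d : Set A))) : TrivRel st 𝒜 d := by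
  letI := st.toAlgebra
  have hmem : ∀ x ∈ Submodule.span R (𝒜 d : Set A), x ∈ 𝒜 d := by
    intro x hx
    induction hx using Submodule.span_induction with
    | mem x hx => exact hx
    | zero => exact zero_mem _
    | add x y _ _ hx hy => exact add_mem hx hy
    | smul c x _ hx =>
      change st c * x ∈ _
      simpa using SetLike.mul_mem_graded (h0 c) hx
  intro l r v hv hrel
  haveI := h
  obtain ⟨k, a, w, hvw, hra⟩ := Module.Flat.iff_forall_isTrivialRelation.mp h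
    (f := r) (x := fun i => (⟨v i, Submodule.subset_span (hv i)⟩ : Submodule.span R (𝒜 d : Set A)))
    (Subtype.ext (by simpa [Algebra.smul_def, RingHom.algebraMap_toAlgebra] using hrel))
  refine ⟨k, a, fun j => (w j : A), fun j => hmem _ (w j).2, fun i => ?_, hra⟩
  have := congrArg Subtype.val (hvw i)
  simpa [Algebra.smul_def, RingHom.algebraMap_toAlgebra] using this

end Algebra

section Criterion

variable {X S : Scheme.{u}} (f : X ⟶ S) (M : X.Modules) (x : X)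

open Groth.Agent.Lib.Modules in
/-- Flatness at a point from the triviality of relations between sections near it. -/
theorem isFlatOverAt_of_relations {U : S.Opens} (hU : IsAffineOpen U) (hx : f x ∈ U)
    (h : ∀ (l : ℕ) (r : Fin l → Γ(S, U)) (W : X.Opens) (hW : W ≤ f ⁻¹ᵁ U) (_ : x ∈ W)
      (m : Fin l → Γ(M, W)), ∑ i, f.appLE U W hW (r i) • m i = 0 →
      ∃ (W' : X.Opens) (hW' : W' ≤ W) (_ : x ∈ W') (k : ℕ) (a : Fin l → Fin k → Γ(S, U))
        (w : Fin k → Γ(M, W')),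
        (∀ i, M.presheaf.map (homOfLE hW').op (m i) = ∑ j, f.appLE U W' (hW'.trans hW) (a i j) • w j) ∧
          ∀ j, ∑ i, r i * a i j = 0) :
    FlatMod.IsFlatOverAt f M x := by
  unfold FlatMod.IsFlatOverAt
  letI := FlatMod.moduleStalkOver f M x
  letI : Algebra Γ(S, U) (S.presheaf.stalk (f x)) := (S.presheaf.germ U (f x) hx).hom.toAlgebra
  letI : Module Γ(S, U) (M.presheaf.stalk x) := Module.compHom _ (algebraMap Γ(S, U) (S.presheaf.stalk (f x)))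
  haveI : IsScalarTower Γ(S, U) (S.presheaf.stalk (f x)) (M.presheaf.stalk x) :=
    IsScalarTower.of_algebraMap_smul fun _ _ => rfl
  haveI : IsLocalization.AtPrime (S.presheaf.stalk (f x)) (hU.primeIdealOf ⟨f x, hx⟩).asIdeal :=
    hU.isLocalization_stalk ⟨f x, hx⟩
  have hsmul : ∀ (r : Γ(S, U)) (W : X.Opens) (hW : W ≤ f ⁻¹ᵁ U) (hxW : x ∈ W) (m : Γ(M, W)),
      r • M.presheaf.germ W x hxW m = M.presheaf.germ W x hxW (f.appLE U W hW r • m) := by
    intro r W hW hxW m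
    rw [StalkModule.germ_smul]
    refine congrArg (fun c : X.presheaf.stalk x => c • M.presheaf.germ W x hxW m) ?_
    rw [Scheme.Hom.appLE, CommRingCat.comp_apply, TopCat.Presheaf.germ_res_apply]
    exact ConcreteCategory.congr_hom (Scheme.Hom.germ_stalkMap f U x hx) r
  suffices Module.Flat Γ(S, U) (M.presheaf.stalk x) from
    (Module.flat_iff_of_isLocalization (S.presheaf.stalk (f x))
      (hU.primeIdealOf ⟨f x, hx⟩).asIdeal.primeCompl (M.presheaf.stalk x)).2 this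
  refine Module.Flat.iff_forall_isTrivialRelation.mpr fun {l r q} hrel => ?_
  classical
  choose Wi hxi mi hmi using fun i => TopCat.Presheaf.exists_germ_eq M.presheaf (q i)
  let W₀ : X.Opens := f ⁻¹ᵁ U ⊓ Finset.univ.inf Wi
  have hxW₀ : x ∈ W₀ := by
    refine ⟨hx, ?_⟩
    change x ∈ ((Finset.univ.inf Wi : X.Opens) : Set X)
    rw [Opens.coe_finset_inf, Finset.inf_set_eq_iInter]
    simp only [Set.mem_iInter]
    exact fun i _ => hxi i
  let m₀ : Fin l → Γ(M, W₀) := fun i =>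
    M.presheaf.map (homOfLE (inf_le_right.trans (Finset.inf_le (f := Wi) (Finset.mem_univ i)))).op (mi i)
  have hm₀ : ∀ i, M.presheaf.germ W₀ x hxW₀ (m₀ i) = q i := fun i => by
    rw [← hmi i]
    exact TopCat.Presheaf.germ_res_apply _ _ _ _ _
  have h0 : M.presheaf.germ W₀ x hxW₀ (∑ i, f.appLE U W₀ inf_le_left (r i) • m₀ i) =
      M.presheaf.germ W₀ x hxW₀ 0 := by
    rw [map_sum, map_zero, ← hrel]
    exact Finset.sum_congr rfl fun i _ => by rw [← hm₀ i, hsmul (r i) W₀ inf_le_left hxW₀]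
  obtain ⟨W₁, hxW₁, i₁, i₂, e₁⟩ := TopCat.Presheaf.germ_eq M.presheaf x hxW₀ hxW₀ _ _ h0
  obtain ⟨W', hW', hxW', k, a, w, hmw, hra⟩ := h l r W₁ (i₁.le.trans inf_le_left) hxW₁
    (fun i => M.presheaf.map i₁.op (m₀ i)) (by
      rw [map_zero, map_sum] at e₁
      rw [← e₁]
      refine Finset.sum_congr rfl fun i _ => ?_
      rw [Scheme.Modules.map_smul]
      congr 1
      rw [← CommRingCat.comp_apply, Scheme.Hom.appLE_map])
  refine ⟨k, a, fun j => M.presheaf.germ W' x hxW' (w j), fun i => ?_, hra⟩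
  have := congrArg (M.presheaf.germ W' x hxW') (hmw i)
  rw [TopCat.Presheaf.germ_res_apply, map_sum] at this
  rw [← hm₀ i, ← TopCat.Presheaf.germ_res_apply M.presheaf i₁ x hxW₁, this]
  exact Finset.sum_congr rfl fun j _ => (hsmul _ _ _ _ _).symm

end Criterion

section Relative

variable {S P : Scheme.{u}} {𝒮 : RelProj.QCGrAlg S} {p : P ⟶ S}
  {chart : ∀ (U : S.Opens) (hU : IsAffineOpen U), (((p ⁻¹ᵁ U : P.Opens) : Scheme.{u}) ≅ Proj (𝒮.deg U hU))}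
  (hP : RelProj.IsRelProj 𝒮 p chart)

include hP in
theorem val_appLE {U : S.Opens} (hU : IsAffineOpen U) {W : P.Opens} (hW : W ≤ p ⁻¹ᵁ U) (r : Γ(S, U))
    (y : ↥(RelProj.emb p chart U hU ⁻¹ᵁ W)) :
    (((RelProj.emb p chart U hU).app W (p.appLE U W hW r) :
      Γ(Proj (𝒮.deg U hU), RelProj.emb p chart U hU ⁻¹ᵁ W)) :
        GrTwist.O (𝒜 := 𝒮.deg U hU) (op (RelProj.emb p chart U hU ⁻¹ᵁ W))).1 y =
      HomogeneousLocalization.fromZeroRingHom (𝒮.deg U hU) _ ((𝒮.strZero U hU).hom r) := by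
  rw [Scheme.Hom.appLE, CommRingCat.comp_apply]
  have := ConcreteCategory.congr_hom ((RelProj.emb p chart U hU).naturality (homOfLE hW).op) (p.app U r)
  simp only [CommRingCat.comp_apply] at this
  rw [this]
  exact Groth.Agent.Lib.SymAlg.LineVA.val_str hP hU r ⟨y.1, hW y.2⟩

include hP in
theorem isFlatOver_twist (d₀ : ℕ)
    (hflat : ∀ (U : S.Opens) (hU : IsAffineOpen U) (d : ℕ), d₀ ≤ d →
      TrivRel (𝒮.str.app (op U)).hom (𝒮.deg U hU) d)
    {n : ℤ} {L : P.Modules}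
    {lam : ∀ (U : S.Opens) (hU : IsAffineOpen U),
      L ⟶ (Scheme.Modules.pushforward (RelProj.emb p chart U hU)).obj (GrTwist.twist (𝒮.deg U hU) n)}
    (hL : RelProj.IsRelTwist 𝒮 p chart n L lam) : FlatMod.IsFlatOver p L := by
  intro x
  obtain ⟨U, hU, hxU, -⟩ := exists_isAffineOpen_mem_and_subset (U := ⊤) (x := p x) trivial
  refine isFlatOverAt_of_relations p L x hU hxU fun l r W hW hxW m hm => ?_
  let ε := RelProj.emb p chart U hU
  have hrange : ε.opensRange = p ⁻¹ᵁ U := by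
    change ((chart U hU).inv ≫ (p ⁻¹ᵁ U).ι).opensRange = p ⁻¹ᵁ U
    rw [Scheme.Hom.opensRange_comp_of_isIso, Scheme.Opens.opensRange_ι]
  obtain ⟨y, hy⟩ : x ∈ ε.opensRange := hrange ▸ hxU
  have hyW : y ∈ ε ⁻¹ᵁ W := by show ε y ∈ W; rw [hy]; exact hxW
  let sm : ∀ {W₁ : P.Opens}, Γ(L, W₁) → ∀ z : (ε ⁻¹ᵁ W₁ : (Proj (𝒮.deg U hU)).Opens), GrTwist.Loc (𝒮.deg U hU) z.1 :=
    fun {W₁} m z => GrTwist.val (V := ε ⁻¹ᵁ W₁)
      (show Γ(GrTwist.twist (𝒮.deg U hU) n, ε ⁻¹ᵁ W₁) from (lam U hU).app W₁ m) z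
  have hsm_smul : ∀ {W₁ : P.Opens} (hW₁ : W₁ ≤ p ⁻¹ᵁ U) (c : Γ(S, U)) (m : Γ(L, W₁)) (z : _),
      sm (p.appLE U W₁ hW₁ c • m) z =
        Localization.mk ((𝒮.str.app (op U)).hom c) ⟨1, nmOne z.1⟩ * sm m z := by
    intro W₁ hW₁ c m z
    simp only [sm]
    rw [Scheme.Modules.Hom.app_smul]
    refine (GrTwist.coe_smul_val n z.1 _ _).trans ?_
    refine congrArg (· * _) ((congrArg HomogeneousLocalization.val (val_appLE hP hU hW₁ c z)).trans ?_)
    rfl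
  have hsm_add : ∀ {W₁ : P.Opens} {ι : Type} (t : Finset ι) (g : ι → Γ(L, W₁)) (z : _),
      sm (∑ i ∈ t, g i) z = ∑ i ∈ t, sm (g i) z := by
    intro W₁ ι t g z
    classical
    induction t using Finset.induction_on with
    | empty => simp only [Finset.sum_empty, sm, map_zero]; rfl
    | insert a t ha ih =>
      rw [Finset.sum_insert ha, Finset.sum_insert ha, ← ih]
      simp only [sm, map_add]
      rfl
  have ht : ∀ i, IsLocFrac (𝒜 := 𝒮.deg U hU) n (sm (m i)) := by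
    intro i z
    obtain ⟨V₁, hzV, iV, i', j, a, b, hb, hij, hw⟩ :=
      (((lam U hU).app W (m i)) : GrTwist.sectN (𝒜 := 𝒮.deg U hU) n (op (ε ⁻¹ᵁ W))).2 z
    exact ⟨i', j, a, b, a.2, b.2, hb ⟨z.1, hzV⟩, hij, V₁, hzV, fun z' hz' hb' => hw ⟨z'.1, hz'⟩⟩
  obtain ⟨k, e, d, a, w, s, V', hV', hyV', hw, hs, hde, hra, hsn, key⟩ :=
    exists_trivialization (𝒮.str.app (op U)).hom (𝒮.str_mem U hU) d₀ (hflat U hU) n
      (V := ε ⁻¹ᵁ W) ⟨y, hyW⟩ l r (fun i => sm (m i)) ht (by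
        refine (Finset.sum_congr rfl fun i _ => (hsm_smul hW (r i) (m i) ⟨y, hyW⟩).symm).trans ?_
        refine (hsm_add _ _ _).symm.trans ((congrArg (fun t => sm t ⟨y, hyW⟩) hm).trans ?_)
        simp only [sm, map_zero]; rfl)
  have hW'W : ε ''ᵁ V' ≤ W := by rintro _ ⟨z, hz, rfl⟩; exact hV' hz
  have hpre : ε ⁻¹ᵁ (ε ''ᵁ V') ≤ V' := (ε.preimage_image_eq V').le
  have hW'U : ε ''ᵁ V' ≤ p ⁻¹ᵁ U := hW'W.trans hW
  let ω : Fin k → GrTwist.sectN (𝒜 := 𝒮.deg U hU) n (op (ε ⁻¹ᵁ (ε ''ᵁ V'))) := fun j =>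
    ⟨fun z => ⟨Localization.mk (w j) ⟨s, hsn ⟨z.1, hpre z.2⟩⟩,
      Submodule.subset_span ⟨d, e, ⟨w j, hw j⟩, ⟨s, hs⟩, hsn ⟨z.1, hpre z.2⟩, hde, rfl⟩⟩,
    fun z => ⟨_, z.2, 𝟙 _, d, e, ⟨w j, hw j⟩, ⟨s, hs⟩, fun z' => hsn ⟨z'.1, hpre z'.2⟩,
      Or.inl hde, fun _ => rfl⟩⟩
  choose w' hw' using fun j => (hL.bijective U hU (ε ''ᵁ V') hW'U).2 (ω j)
  refine ⟨ε ''ᵁ V', hW'W, ⟨y, hyV', hy⟩, k, a, w', fun i => ?_, hra⟩
  refine (hL.bijective U hU (ε ''ᵁ V') hW'U).1 (Subtype.ext (funext fun z => Subtype.ext ?_))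
  change sm (L.presheaf.map (homOfLE hW'W).op (m i)) z =
    sm (∑ j, p.appLE U (ε ''ᵁ V') (hW'W.trans hW) (a i j) • w' j) z
  rw [hsm_add, Finset.sum_congr rfl fun j _ => hsm_smul hW'U (a i j) (w' j) z]
  refine Eq.trans ?_ ((key i ⟨z.1, hpre z.2⟩).trans (Finset.sum_congr rfl fun j _ => congrArg (_ * ·) ?_))
  · simp only [sm]
    have := congr($((lam U hU).mapPresheaf.naturality (homOfLE hW'W).op) (m i))
    exact congrArg (fun t => GrTwist.val (V := ε ⁻¹ᵁ (ε ''ᵁ V')) t z) this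
  · exact (congrArg (fun t => GrTwist.val (V := ε ⁻¹ᵁ (ε ''ᵁ V')) t z) (hw' j)).symm

include hP in
theorem flat (d₀ : ℕ)
    (hflat : ∀ (U : S.Opens) (hU : IsAffineOpen U) (d : ℕ), d₀ ≤ d →
      TrivRel (𝒮.str.app (op U)).hom (𝒮.deg U hU) d) :
    ∀ x : P, FlatMod.IsFlatOverAt p (Coh.structureModule P) x := by
  intro x
  obtain ⟨U, hU, hxU, -⟩ := exists_isAffineOpen_mem_and_subset (U := ⊤) (x := p x) trivial
  refine isFlatOverAt_of_relations p _ x hU hxU fun l r W hW hxW m hm => ?_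
  let ε := RelProj.emb p chart U hU
  have hrange : ε.opensRange = p ⁻¹ᵁ U := by
    change ((chart U hU).inv ≫ (p ⁻¹ᵁ U).ι).opensRange = p ⁻¹ᵁ U
    rw [Scheme.Hom.opensRange_comp_of_isIso, Scheme.Opens.opensRange_ι]
  obtain ⟨y, hy⟩ : x ∈ ε.opensRange := hrange ▸ hxU
  have hyW : y ∈ ε ⁻¹ᵁ W := by show ε y ∈ W; rw [hy]; exact hxW
  have hbij : ∀ (W₁ : P.Opens), W₁ ≤ p ⁻¹ᵁ U → Function.Bijective (ε.app W₁) := fun W₁ hW₁ => by
    haveI := ε.isIso_app W₁ (hrange ▸ hW₁)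
    exact ConcreteCategory.bijective_of_isIso (ε.app W₁)
  let sm : ∀ {W₁ : P.Opens}, Γ(P, W₁) → ∀ z : (ε ⁻¹ᵁ W₁ : (Proj (𝒮.deg U hU)).Opens), GrTwist.Loc (𝒮.deg U hU) z.1 :=
    fun {W₁} m z => ((ε.app W₁ m : GrTwist.O (𝒜 := 𝒮.deg U hU) (op (ε ⁻¹ᵁ W₁))).1 z).val
  have hsm_smul : ∀ {W₁ : P.Opens} (hW₁ : W₁ ≤ p ⁻¹ᵁ U) (c : Γ(S, U)) (m : Γ(P, W₁)) (z : _),
      sm (p.appLE U W₁ hW₁ c * m) z =
        Localization.mk ((𝒮.str.app (op U)).hom c) ⟨1, nmOne z.1⟩ * sm m z := by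
    intro W₁ hW₁ c m z
    simp only [sm]
    rw [map_mul]
    refine (HomogeneousLocalization.val_mul _ _).trans ?_
    refine congrArg (· * _) ((congrArg HomogeneousLocalization.val (val_appLE hP hU hW₁ c z)).trans ?_)
    rfl
  have hsm_add : ∀ {W₁ : P.Opens} {ι : Type} (t : Finset ι) (g : ι → Γ(P, W₁)) (z : _),
      sm (∑ i ∈ t, g i) z = ∑ i ∈ t, sm (g i) z := by
    intro W₁ ι t g z
    classical
    induction t using Finset.induction_on with
    | empty => simp only [Finset.sum_empty, sm, map_zero]; exact HomogeneousLocalization.val_zero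
    | insert a t ha ih =>
      rw [Finset.sum_insert ha, Finset.sum_insert ha, ← ih]
      simp only [sm, map_add]
      exact HomogeneousLocalization.val_add _ _
  have ht : ∀ i, IsLocFrac (𝒜 := 𝒮.deg U hU) 0 (sm (W₁ := W) (m i)) := by
    intro i z
    obtain ⟨V₁, hzV, iV, j, a, b, hb, hw⟩ :=
      ((ε.app W (m i)) : GrTwist.O (𝒜 := 𝒮.deg U hU) (op (ε ⁻¹ᵁ W))).2 z
    refine ⟨j, j, a, b, a.2, b.2, hb ⟨z.1, hzV⟩, Or.inl (by simp), V₁, hzV, fun z' hz' hb' => ?_⟩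
    exact (congrArg HomogeneousLocalization.val (hw ⟨z'.1, hz'⟩)).trans (HomogeneousLocalization.val_mk _)
  obtain ⟨k, e, d, a, w, s, V', hV', hyV', hw, hs, hde, hra, hsn, key⟩ :=
    exists_trivialization (𝒮.str.app (op U)).hom (𝒮.str_mem U hU) d₀ (hflat U hU) 0
      (V := ε ⁻¹ᵁ W) ⟨y, hyW⟩ l r (fun i => sm (W₁ := W) (m i)) ht (by
        refine (Finset.sum_congr rfl fun i _ => (hsm_smul hW (r i) (m i) ⟨y, hyW⟩).symm).trans ?_
        refine (hsm_add _ _ _).symm.trans ((congrArg (fun t : Γ(P, W) => sm t ⟨y, hyW⟩) hm).trans ?_)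
        change (((ε.app W (0 : Γ(P, W))) : GrTwist.O (𝒜 := 𝒮.deg U hU) (op (ε ⁻¹ᵁ W))).1 ⟨y, hyW⟩).val = 0
        rw [map_zero]; exact HomogeneousLocalization.val_zero)
  have hde' : d = e := by omega
  subst hde'
  have hW'W : ε ''ᵁ V' ≤ W := by rintro _ ⟨z, hz, rfl⟩; exact hV' hz
  have hpre : ε ⁻¹ᵁ (ε ''ᵁ V') ≤ V' := (ε.preimage_image_eq V').le
  have hW'U : ε ''ᵁ V' ≤ p ⁻¹ᵁ U := hW'W.trans hW
  let ω : Fin k → GrTwist.O (𝒜 := 𝒮.deg U hU) (op (ε ⁻¹ᵁ (ε ''ᵁ V'))) := fun j =>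
    ⟨fun z => HomogeneousLocalization.mk ⟨d, ⟨w j, hw j⟩, ⟨s, hs⟩, hsn ⟨z.1, hpre z.2⟩⟩,
      fun z => ⟨_, z.2, 𝟙 _, d, ⟨w j, hw j⟩, ⟨s, hs⟩, fun z' => hsn ⟨z'.1, hpre z'.2⟩, fun _ => rfl⟩⟩
  choose w' hw' using fun j => (hbij (ε ''ᵁ V') hW'U).2 (ω j)
  refine ⟨ε ''ᵁ V', hW'W, ⟨y, hyV', hy⟩, k, a, w', fun i => ?_, hra⟩
  change P.presheaf.map (homOfLE hW'W).op (m i) =
    ∑ j, p.appLE U (ε ''ᵁ V') (hW'W.trans hW) (a i j) * (w' j : Γ(P, ε ''ᵁ V'))
  refine (hbij (ε ''ᵁ V') hW'U).1 (Subtype.ext (funext fun z => HomogeneousLocalization.val_injective _ ?_))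
  change sm (P.presheaf.map (homOfLE hW'W).op (m i)) z =
    sm (∑ j, p.appLE U (ε ''ᵁ V') (hW'W.trans hW) (a i j) * w' j) z
  rw [hsm_add, Finset.sum_congr rfl fun j _ => hsm_smul hW'U (a i j) (w' j) z]
  refine Eq.trans ?_ ((key i ⟨z.1, hpre z.2⟩).trans (Finset.sum_congr rfl fun j _ => congrArg (_ * ·) ?_))
  · simp only [sm]
    have := ConcreteCategory.congr_hom (ε.naturality (homOfLE hW'W).op) (m i)
    simp only [CommRingCat.comp_apply] at this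
    rw [this]
    rfl
  · simp only [sm]
    rw [hw' j]
    rfl

end Relative

end

end Groth.Agent.H81.RelProj.Flatness
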