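import Groth.Agent.H81.RelProj.GrTilde.Basic
import Groth.Agent.H81.RelProj.TildeLocal

/-!
# The product `M(m)~ × O(n) → M(m+n)~`
-/

set_option autoImplicit false
universe u

open CategoryTheory AlgebraicGeometry TopologicalSpace Opposite
open scoped HomogeneousIdeal

namespace Groth.Agent.H81.RelProj.Prod

open Groth.Agent.H81.RelProj.GrTilde.Frac Groth.Agent.H81.RelProj.GrTilde.Basic

noncomputable section

set_option synthInstance.maxHeartbeats 400000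

variable {A σT : Type u} [CommRing A] [SetLike σT A] [AddSubgroupClass σT A] {𝒜 : ℕ → σT} [GradedRing 𝒜]
variable {M τT : Type u} [AddCommGroup M] [Module A M] [SetLike τT M] [AddSubgroupClass τT M] {ℳ : ℕ → τT}
variable [SetLike.GradedSMul 𝒜 ℳ] [DirectSum.Decomposition ℳ]

theorem deg_smul_deg {k l : ℤ} {b : A} {a : M} (hb : Deg 𝒜 l b) (ha : Deg ℳ k a) : Deg ℳ (k + l) (b • a) := by
  rcases hb with ⟨i, hi, hb⟩ | rfl
  · exact (ha.smul hb).congr (by omega)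
  · simpa using Deg.zero _

variable {m n k : ℤ}

/-- The product on sections. -/
def prod (hk : k = m + n) {W : Opens (ProjectiveSpectrum.top 𝒜)} (σ : GrMod.sect 𝒜 ℳ m (op W))
    (τ : GrTwist.sectN (𝒜 := 𝒜) n (op W)) : GrMod.sect 𝒜 ℳ k (op W) :=
  secOfRep (fun x => ((τ.1 x : GrTwist.twistAt 𝒜 n x.1) : GrTwist.Loc 𝒜 x.1) • val σ x) fun x => by
    obtain ⟨j, s, a, hs, ha, hsx, hσ⟩ := exists_local_rep σ x
    obtain ⟨l, t, b, ht, hb, htx, hτ⟩ := twist_local_rep τ x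
    refine ⟨l + j, t * s, b • a, SetLike.mul_mem_graded ht hs,
      (deg_smul_deg hb ha).congr (by rw [hk]; push_cast; ring),
      fun h => (x.1.isPrime.mem_or_mem h).elim htx hsx, fun y hy => ?_⟩
    rw [hσ y fun h => hy (Ideal.mul_mem_left _ t h), hτ y fun h => hy (Ideal.mul_mem_right s _ h)]
    exact LocalizedModule.mk_smul_mk _ _ _ _

variable (hk : k = m + n) {W : Opens (ProjectiveSpectrum.top 𝒜)}

theorem val_prod (σ : GrMod.sect 𝒜 ℳ m (op W)) (τ : GrTwist.sectN (𝒜 := 𝒜) n (op W)) (x : W) :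
    val (prod hk σ τ) x = ((τ.1 x : GrTwist.twistAt 𝒜 n x.1) : GrTwist.Loc 𝒜 x.1) • val σ x :=
  rfl

theorem add_left (σ σ' : GrMod.sect 𝒜 ℳ m (op W)) (τ : GrTwist.sectN (𝒜 := 𝒜) n (op W)) :
    prod hk (σ + σ') τ = prod hk σ τ + prod hk σ' τ :=
  sect_ext fun x => smul_add (A := GrMod.LocMod 𝒜 (M := M) x.1) _ _ _

theorem add_right (σ : GrMod.sect 𝒜 ℳ m (op W)) (τ τ' : GrTwist.sectN (𝒜 := 𝒜) n (op W)) :
    prod hk σ (τ + τ') = prod hk σ τ + prod hk σ τ' :=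
  sect_ext fun x => add_smul ((τ.1 x : GrTwist.twistAt 𝒜 n x.1) : GrTwist.Loc 𝒜 x.1)
    ((τ'.1 x : GrTwist.twistAt 𝒜 n x.1) : GrTwist.Loc 𝒜 x.1) (val σ x)

theorem smul_left (r : GrTwist.O (𝒜 := 𝒜) (op W)) (σ : GrMod.sect 𝒜 ℳ m (op W))
    (τ : GrTwist.sectN (𝒜 := 𝒜) n (op W)) : prod hk (r • σ) τ = r • prod hk σ τ :=
  sect_ext fun x => smul_comm (α := GrMod.LocMod 𝒜 (M := M) x.1)
    ((τ.1 x : GrTwist.twistAt 𝒜 n x.1) : GrTwist.Loc 𝒜 x.1) (r.1 x).val _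

theorem smul_right (r : GrTwist.O (𝒜 := 𝒜) (op W)) (σ : GrMod.sect 𝒜 ℳ m (op W))
    (τ : GrTwist.sectN (𝒜 := 𝒜) n (op W)) : prod hk σ (r • τ) = r • prod hk σ τ :=
  sect_ext fun x => by
    refine (congrArg (fun q : GrTwist.Loc 𝒜 x.1 => q • val σ x) (GrTwist.coe_smul_val n x.1 (r.1 x) (τ.1 x))).trans ?_
    exact mul_smul (r.1 x).val ((τ.1 x : GrTwist.twistAt 𝒜 n x.1) : GrTwist.Loc 𝒜 x.1) (val σ x)

section Comap

variable {B σ' : Type u} [CommRing B] [SetLike σ' B] [AddSubgroupClass σ' B] {ℬ : ℕ → σ'} [GradedRing ℬ]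
variable {N τ' : Type u} [AddCommGroup N] [Module B N] [SetLike τ' N] [AddSubgroupClass τ' N] {𝒩 : ℕ → τ'}
variable [SetLike.GradedSMul ℬ 𝒩] [DirectSum.Decomposition 𝒩]
variable (ψ : 𝒜 →+*ᵍ ℬ) (hψ : ℬ₊ ≤ (𝒜₊).map ψ) (v : M →ₛₗ[ψ.toRingHom] N)
  (hv : ∀ (i : ℕ) (a : M), a ∈ ℳ i → v a ∈ 𝒩 i)

theorem locModMap_smul (y : ProjectiveSpectrum ℬ) (q : GrTwist.Loc 𝒜 (ProjectiveSpectrum.comap ψ hψ y))
    (a : GrMod.LocMod 𝒜 (M := M) (ProjectiveSpectrum.comap ψ hψ y)) :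
    GrMod.locModMap ψ hψ v y (q • a) = GrTwist.locMap ψ hψ y q • GrMod.locModMap ψ hψ v y a := by
  induction q using Localization.induction_on with
  | H p =>
    induction a using LocalizedModule.induction_on with
    | h a t =>
      obtain ⟨b, s⟩ := p
      rw [GrTwist.locMap_mk, LocalizedModule.mk_smul_mk, GrMod.locModMap_mk, GrMod.locModMap_mk,
        LocalizedModule.mk_smul_mk, LinearMap.map_smulₛₗ]
      congr 1
      exact Subtype.ext (map_mul ψ (s : A) (t : A))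

theorem comap_prod (V : Opens (ProjectiveSpectrum.top ℬ)) (hWV : V.1 ⊆ ProjectiveSpectrum.comap ψ hψ ⁻¹' W.1)
    (σ : GrMod.sect 𝒜 ℳ m (op W)) (τ : GrTwist.sectN (𝒜 := 𝒜) n (op W)) :
    GrMod.comapApp ψ hψ v hv k W V hWV (prod hk σ τ) =
      prod hk (GrMod.comapApp ψ hψ v hv m W V hWV σ) (GrTwist.comapApp ψ hψ n W V hWV τ) :=
  sect_ext fun y => locModMap_smul ψ hψ v y.1 _ _

end Comap

/-- The product with a fraction `c / e` is bijective where it is invertible. -/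
theorem prod_bijective {p q : ℕ} {c e : A} (hc : c ∈ 𝒜 p) (he : e ∈ 𝒜 q) (hn : (p : ℤ) = q + n)
    {W : (Proj 𝒜).Opens} (hW : W ≤ Proj.basicOpen 𝒜 (c * e)) (τ : GrTwist.sectN (𝒜 := 𝒜) n (op W))
    (hτ : ∀ x : W, ((τ.1 x : GrTwist.twistAt 𝒜 n x.1) : GrTwist.Loc 𝒜 x.1) = unitAt x.1 c e (notMem_right hW x)) :
    Function.Bijective fun σ : GrMod.sect 𝒜 ℳ m (op W) => prod hk σ τ := by
  convert (mulEquiv (n := m) (n' := k) (ℳ := ℳ) hc he (by omega) hW).bijective using 1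
  funext σ
  exact sect_ext fun x => congrArg (fun t : GrTwist.Loc 𝒜 x.1 => t • val σ x) (hτ x)

end

end Groth.Agent.H81.RelProj.Prod
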