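import Groth.Agent.H81.RelProj.RelTilde
import Groth.Agent.H81.RelProj.GrTilde.MapProps
import Groth.Agent.Lib.Modules.Stalk

/-!
# Functoriality and exactness of the module on a relative Proj attached to a graded module
-/

set_option autoImplicit false
universe u

open CategoryTheory Limits AlgebraicGeometry TopologicalSpace Opposite
open scoped HomogeneousIdeal

namespace Groth.Agent.H81.RelProj.RelFun

open Groth.Agent.Lib.TensorMod.Dual (rs rs_self rs_rs)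
open Groth.Agent.Lib.TensorMod.HomGlue (rs_app sections_ext_cover)
open Groth.Agent.Lib.Modules.Stalk

noncomputable section

section Criteria

variable {X : Scheme.{u}} {F G H : X.Modules}

theorem rs_zero (M : X.Modules) {U V : X.Opens} (i : V ≤ U) : rs M i (0 : Γ(M, U)) = 0 := map_zero _

theorem isZero_of_app (h : ∀ (W : X.Opens) (s : Γ(F, W)), s = 0) : IsZero F := by
  rw [IsZero.iff_id_eq_zero]
  refine Scheme.Modules.hom_ext _ _ fun W => AddCommGrpCat.hom_ext (AddMonoidHom.ext fun s => ?_)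
  rw [h W s, map_zero, map_zero]

theorem epi_of_local (f : F ⟶ G)
    (h : ∀ (x : X) (U : X.Opens) (t : Γ(G, U)), x ∈ U → ∃ (V : X.Opens) (hV : V ≤ U), x ∈ V ∧
      ∃ s : Γ(F, V), f.app V s = rs G hV t) : Epi f := by
  rw [epi_iff_stalk_surjective]
  intro x q
  obtain ⟨U, hx, t, rfl⟩ := G.presheaf.exists_germ_eq q
  obtain ⟨V, hV, hxV, s, hs⟩ := h x U t hx
  refine ⟨F.presheaf.germ V x hxV s, ?_⟩
  rw [stalkFunctor_map_germ, hs]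
  exact G.presheaf.germ_res_apply (homOfLE hV) x hxV t

theorem exact_of_local (f : F ⟶ G) (g : G ⟶ H) (w : f ≫ g = 0)
    (h : ∀ (x : X) (U : X.Opens) (t : Γ(G, U)), g.app U t = 0 → x ∈ U → ∃ (V : X.Opens) (hV : V ≤ U), x ∈ V ∧
      ∃ s : Γ(F, V), f.app V s = rs G hV t) : (ShortComplex.mk f g w).Exact := by
  rw [exact_iff_stalk]
  intro x
  rw [ShortComplex.ab_exact_iff]
  intro q hq
  change (stalkFunctor X x).map g q = 0 at hq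
  obtain ⟨U, hx, t, rfl⟩ := G.presheaf.exists_germ_eq q
  rw [stalkFunctor_map_germ] at hq
  obtain ⟨U', hxU', i, i', hi⟩ := H.presheaf.germ_eq x hx hx (g.app U t) 0 (hq.trans (map_zero _).symm)
  have h0 : g.app U' (rs G i.le t) = 0 := by
    rw [← rs_app]
    exact hi.trans (map_zero _)
  obtain ⟨V, hV, hxV, s, hs⟩ := h x U' (rs G i.le t) h0 hxU'
  refine ⟨F.presheaf.germ V x hxV s, ?_⟩
  change (stalkFunctor X x).map f (F.presheaf.germ V x hxV s) = G.presheaf.germ U x hx t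
  rw [stalkFunctor_map_germ, hs, rs_rs]
  exact G.presheaf.germ_res_apply (homOfLE (hV.trans i.le)) x hxV t

end Criteria

section Glue

variable {P : Scheme.{u}}

theorem existsUnique_hom (S : ModGlue.Datum P) {F F' : P.Modules} (ψ : ∀ j, F ⟶ S.G j)
    (hψ : ∀ (l j : S.J) (h : S.rel l j), ψ j ≫ S.c h = ψ l) (ψ' : ∀ j, F' ⟶ S.G j)
    (hψ' : ∀ (l j : S.J) (h : S.rel l j), ψ' j ≫ S.c h = ψ' l) (hcov : iSup S.O = ⊤)
    (hbij : ∀ (j : S.J) (W : P.Opens), W ≤ S.O j → Function.Bijective ((ψ' j).app W)) :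
    ∃! φ : F ⟶ F', ∀ j, φ ≫ ψ' j = ψ j := by
  have i' := ModGlue.isIso_lift S ψ' hψ' hcov hbij
  refine ⟨ModGlue.lift S ψ hψ ≫ inv (ModGlue.lift S ψ' hψ'), fun j => ?_, fun φ hφ => ?_⟩
  · show (ModGlue.lift S ψ hψ ≫ inv (ModGlue.lift S ψ' hψ')) ≫ _ = _
    rw [← ModGlue.lift_π S ψ' hψ' j, Category.assoc, IsIso.inv_hom_id_assoc, ModGlue.lift_π]
  · rw [IsIso.eq_comp_inv]
    exact ModGlue.hom_ext S fun j => by rw [Category.assoc, ModGlue.lift_π, ModGlue.lift_π, hφ j]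

end Glue

section Generic

variable {P : Scheme.{u}} {A σ : Type u} [CommRing A] [SetLike σ A] [AddSubgroupClass σ A] {𝒜 : ℕ → σ}
  [GradedRing 𝒜] {M τ : Type u} [AddCommGroup M] [Module A M] [SetLike τ M] [AddSubgroupClass τ M] {ℳ₁ : ℕ → τ}
  [SetLike.GradedSMul 𝒜 ℳ₁]
  {M' τm : Type u} [AddCommGroup M'] [Module A M'] [SetLike τm M'] [AddSubgroupClass τm M'] {ℳ₁' : ℕ → τm}
  [SetLike.GradedSMul 𝒜 ℳ₁']
  {B σ' : Type u} [CommRing B] [SetLike σ' B] [AddSubgroupClass σ' B] {ℬ : ℕ → σ'} [GradedRing ℬ]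
  {N τ' : Type u} [AddCommGroup N] [Module B N] [SetLike τ' N] [AddSubgroupClass τ' N] {ℳ₂ : ℕ → τ'}
  [SetLike.GradedSMul ℬ ℳ₂]
  {N' τn : Type u} [AddCommGroup N'] [Module B N'] [SetLike τn N'] [AddSubgroupClass τn N'] {ℳ₂' : ℕ → τn}
  [SetLike.GradedSMul ℬ ℳ₂']

theorem comapTo_map (ψ : 𝒜 →+*ᵍ ℬ) (hψ : ℬ₊ ≤ (𝒜₊).map ψ)
    (v : M →ₛₗ[ψ.toRingHom] N) (hv : ∀ (i : ℕ) (m : M), m ∈ ℳ₁ i → v m ∈ ℳ₂ i)
    (v' : M' →ₛₗ[ψ.toRingHom] N') (hv' : ∀ (i : ℕ) (m : M'), m ∈ ℳ₁' i → v' m ∈ ℳ₂' i)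
    (u : M →ₗ[A] M') (hu : ∀ (i : ℕ) (m : M), m ∈ ℳ₁ i → u m ∈ ℳ₁' i)
    (u' : N →ₗ[B] N') (hu' : ∀ (i : ℕ) (m : N), m ∈ ℳ₂ i → u' m ∈ ℳ₂' i)
    (hcomm : ∀ m, u' (v m) = v' (u m)) (n : ℤ)
    (eU : Proj 𝒜 ⟶ P) (eD : Proj ℬ ⟶ P) (he : Proj.map ψ hψ ≫ eU = eD) :
    (Scheme.Modules.pushforward eU).map (GrMod.map 𝒜 u hu n) ≫ RelTilde.comapTo ψ hψ v' hv' n eU eD he =
      RelTilde.comapTo ψ hψ v hv n eU eD he ≫ (Scheme.Modules.pushforward eD).map (GrMod.map ℬ u' hu' n) := by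
  refine Scheme.Modules.hom_ext _ _ fun W => AddCommGrpCat.hom_ext (AddMonoidHom.ext fun t => ?_)
  refine Subtype.ext (funext fun z => Subtype.ext ?_)
  let s : GrMod.sect 𝒜 ℳ₁ n (op (eU ⁻¹ᵁ W)) := t
  change GrMod.locModMap ψ hψ v' z.1
      (GrMod.locMap u _ (s.1 ⟨ProjectiveSpectrum.comap ψ hψ z.1, RelTilde.hsub_gen ψ hψ eU eD he W z.2⟩).1) =
    GrMod.locMap u' z.1 (GrMod.locModMap ψ hψ v z.1
      (s.1 ⟨ProjectiveSpectrum.comap ψ hψ z.1, RelTilde.hsub_gen ψ hψ eU eD he W z.2⟩).1)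
  generalize (s.1 ⟨ProjectiveSpectrum.comap ψ hψ z.1, RelTilde.hsub_gen ψ hψ eU eD he W z.2⟩).1 = q
  induction q using LocalizedModule.induction_on with
  | h m r => rw [GrMod.locMap_mk, GrMod.locModMap_mk, GrMod.locModMap_mk, GrMod.locMap_mk, hcomm]

end Generic

section Rel

variable {Y P : Scheme.{u}} {𝒮 : RelProj.QCGrAlg Y} {p : P ⟶ Y}
  {chart : ∀ (U : Y.Opens) (hU : IsAffineOpen U), (((p ⁻¹ᵁ U : P.Opens) : Scheme.{u}) ≅ Proj (𝒮.deg U hU))}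
  {ℳ 𝒩 : RelProj.GrModule 𝒮} {n : ℤ} {F G : P.Modules}
  {lam : ∀ (U : Y.Opens) (hU : IsAffineOpen U),
    F ⟶ (Scheme.Modules.pushforward (RelProj.emb p chart U hU)).obj (GrMod.tilde (𝒮.deg U hU) (ℳ.deg U hU) n)}
  {lam' : ∀ (U : Y.Opens) (hU : IsAffineOpen U),
    G ⟶ (Scheme.Modules.pushforward (RelProj.emb p chart U hU)).obj (GrMod.tilde (𝒮.deg U hU) (𝒩.deg U hU) n)}
  {u : ℳ.mod ⟶ 𝒩.mod} {hu : RelProj.IsGrModHom u}

/-- The linear map on sections. -/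
abbrev uAt (u : ℳ.mod ⟶ 𝒩.mod) (U : Y.Opens) :
    ℳ.mod.val.obj (op U) →ₗ[𝒮.presheaf.obj (op U)] 𝒩.mod.val.obj (op U) :=
  (u.val.app (op U)).hom

/-- The map between the members of the gluing data. -/
abbrev mapAt (p : P ⟶ Y)
    (chart : ∀ (U : Y.Opens) (hU : IsAffineOpen U), (((p ⁻¹ᵁ U : P.Opens) : Scheme.{u}) ≅ Proj (𝒮.deg U hU)))
    (u : ℳ.mod ⟶ 𝒩.mod) (hu : RelProj.IsGrModHom u) (n : ℤ) (U : Y.affineOpens) :
    RelTilde.G p chart ℳ n U ⟶ RelTilde.G p chart 𝒩 n U :=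
  (Scheme.Modules.pushforward (RelProj.emb p chart U.1 U.2)).map
    (GrMod.map (𝒮.deg U.1 U.2) (uAt u U.1) (hu U.1 U.2) n)

theorem mapAt_c (hP : RelProj.IsRelProj 𝒮 p chart) {D U : Y.affineOpens} (h : RelTilde.Rel D U) :
    mapAt p chart u hu n U ≫ RelTilde.c 𝒩 n hP h = RelTilde.c ℳ n hP h ≫ mapAt p chart u hu n D :=
  comapTo_map (𝒮.res U.2 D.2 h.le) (RelTilde.irr 𝒮 h) (ℳ.res U.2 D.2 h.le) (ℳ.res_mem U.2 D.2 h.le)
    (𝒩.res U.2 D.2 h.le) (𝒩.res_mem U.2 D.2 h.le) (uAt u U.1) (hu U.1 U.2) (uAt u D.1) (hu D.1 D.2)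
    (fun m => PresheafOfModules.naturality_apply u.val (homOfLE h.le).op m) n _ _ (RelTilde.map_emb hP h)

theorem existsUnique_map (hP : RelProj.IsRelProj 𝒮 p chart) (hloc : RelTilde.Loc 𝒩)
    (hF : RelProj.IsRelTilde 𝒮 p chart ℳ n F lam) (hG : RelProj.IsRelTilde 𝒮 p chart 𝒩 n G lam') :
    ∃! ut : F ⟶ G, ∀ (U : Y.Opens) (hU : IsAffineOpen U),
      ut ≫ lam' U hU = lam U hU ≫ mapAt p chart u hu n ⟨U, hU⟩ := by
  obtain ⟨φ, hφ, huniq⟩ := existsUnique_hom (RelTilde.system 𝒩 n hP hloc)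
    (fun U => lam U.1 U.2 ≫ mapAt p chart u hu n U)
    (fun l j h => by
      change (lam j.1 j.2 ≫ mapAt p chart u hu n j) ≫ RelTilde.c 𝒩 n hP h = lam l.1 l.2 ≫ mapAt p chart u hu n l
      rw [Category.assoc, mapAt_c hP h, ← Category.assoc, RelTilde.lam_c hP hF h])
    (fun U => lam' U.1 U.2) (fun l j h => RelTilde.lam_c hP hG h)
    (RelTilde.iSup_O 𝒩 n hP hloc) (fun U W hW => hG.bijective U.1 U.2 W hW)
  exact ⟨φ, fun U hU => hφ ⟨U, hU⟩, fun φ' h' => huniq φ' fun U => h' U.1 U.2⟩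

omit lam lam' in
theorem exists_affine_chart (x : P) : ∃ (U : Y.Opens) (_ : IsAffineOpen U), x ∈ p ⁻¹ᵁ U := by
  obtain ⟨U, hU, hx, -⟩ := exists_isAffineOpen_mem_and_subset (U := ⊤) (x := p x) trivial
  exact ⟨U, hU, hx⟩

variable {ut : F ⟶ G}

theorem app_lam (hut : ∀ (U : Y.Opens) (hU : IsAffineOpen U),
      ut ≫ lam' U hU = lam U hU ≫ mapAt p chart u hu n ⟨U, hU⟩)
    (U : Y.Opens) (hU : IsAffineOpen U) (W : P.Opens) (t : Γ(F, W)) :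
    (lam' U hU).app W (ut.app W t) =
      (GrMod.map (𝒮.deg U hU) (uAt u U) (hu U hU) n).app (RelProj.emb p chart U hU ⁻¹ᵁ W) ((lam U hU).app W t) :=
  congr(($(hut U hU)).app W t)

theorem mono_of_inj (hF : RelProj.IsRelTilde 𝒮 p chart ℳ n F lam)
    (hut : ∀ (U : Y.Opens) (hU : IsAffineOpen U), ut ≫ lam' U hU = lam U hU ≫ mapAt p chart u hu n ⟨U, hU⟩)
    (hinj : ∃ n₀ : ℕ, ∀ (U : Y.Opens) (hU : IsAffineOpen U) (k : ℕ), n₀ ≤ k →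
      ∀ m ∈ ℳ.deg U hU k, uAt u U m = 0 → m = 0) : Mono ut := by
  obtain ⟨n₀, hn₀⟩ := hinj
  rw [mono_iff_app_injective]
  intro W
  rw [injective_iff_map_eq_zero]
  intro t ht
  refine sections_ext_cover (fun U : Y.affineOpens => p ⁻¹ᵁ U.1) F (V := W) (fun x _ => ?_) fun U => ?_
  · obtain ⟨U, hU, hx⟩ := exists_affine_chart (p := p) x
    exact Opens.mem_iSup.mpr ⟨⟨U, hU⟩, hx⟩
  · rw [show rs F inf_le_left (0 : Γ(F, W)) = 0 from map_zero _]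
    refine (hF.bijective U.1 U.2 _ inf_le_right).1 ?_
    rw [map_zero]
    refine (injective_iff_map_eq_zero _).1 (GrTilde.MapProps.map_injective (uAt u U.1) (hu U.1 U.2) n (hn₀ U.1 U.2) _) _ ?_
    refine Eq.trans ((app_lam hut U.1 U.2 _ _).symm.trans (congrArg _ ((rs_app ut _ t).symm.trans (congrArg _ ht)))) ?_
    rw [rs_zero]
    exact map_zero _

theorem exists_lift_rel (hF : RelProj.IsRelTilde 𝒮 p chart ℳ n F lam) (hG : RelProj.IsRelTilde 𝒮 p chart 𝒩 n G lam')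
    (hut : ∀ (U : Y.Opens) (hU : IsAffineOpen U), ut ≫ lam' U hU = lam U hU ≫ mapAt p chart u hu n ⟨U, hU⟩)
    (x : P) (W : P.Opens) (t : Γ(G, W)) (hx : x ∈ W) (U : Y.Opens) (hU : IsAffineOpen U) (hxU : x ∈ p ⁻¹ᵁ U)
    (h : ∀ y : (RelProj.emb p chart U hU ⁻¹ᵁ (W ⊓ p ⁻¹ᵁ U) : (Proj (𝒮.deg U hU)).Opens),
      ∃ V : (Proj (𝒮.deg U hU)).Opens, y.1 ∈ V ∧ ∀ (O : (Proj (𝒮.deg U hU)).Opens)
        (hO : O ≤ RelProj.emb p chart U hU ⁻¹ᵁ (W ⊓ p ⁻¹ᵁ U)), O ≤ V →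
        ∃ τ : Γ(GrMod.tilde (𝒮.deg U hU) (ℳ.deg U hU) n, O),
          (GrMod.map (𝒮.deg U hU) (uAt u U) (hu U hU) n).app O τ =
            rs (GrMod.tilde (𝒮.deg U hU) (𝒩.deg U hU) n) hO ((lam' U hU).app _ (rs G inf_le_left t))) :
    ∃ (V : P.Opens) (hV : V ≤ W), x ∈ V ∧ ∃ s : Γ(F, V), ut.app V s = rs G hV t := by
  set e := RelProj.emb p chart U hU
  obtain ⟨y, hy⟩ : x ∈ e.opensRange := by rw [RelTilde.opensRange_emb]; exact hxU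
  obtain ⟨V, hyV, hV⟩ := h ⟨y, by change e y ∈ W ⊓ p ⁻¹ᵁ U; rw [hy]; exact ⟨hx, hxU⟩⟩
  set V₀ : P.Opens := (W ⊓ p ⁻¹ᵁ U) ⊓ e ''ᵁ V with hV₀
  have hle : V₀ ≤ W ⊓ p ⁻¹ᵁ U := inf_le_left
  obtain ⟨τ, hτ⟩ := hV (e ⁻¹ᵁ V₀) (e.preimage_mono hle)
    ((e.preimage_mono inf_le_right).trans (e.preimage_image_eq V).le)
  obtain ⟨s, rfl⟩ := (hF.bijective U hU V₀ (hle.trans inf_le_right)).2 τ
  refine ⟨V₀, hle.trans inf_le_left, ⟨⟨hx, hxU⟩, y, hyV, hy⟩, s, (hG.bijective U hU V₀ (hle.trans inf_le_right)).1 ?_⟩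
  rw [app_lam hut, ← rs_rs G inf_le_left hle, ← rs_app]
  exact hτ

theorem epi_of_surj (hF : RelProj.IsRelTilde 𝒮 p chart ℳ n F lam) (hG : RelProj.IsRelTilde 𝒮 p chart 𝒩 n G lam')
    (hut : ∀ (U : Y.Opens) (hU : IsAffineOpen U), ut ≫ lam' U hU = lam U hU ≫ mapAt p chart u hu n ⟨U, hU⟩)
    (hsurj : ∃ n₀ : ℕ, ∀ (U : Y.Opens) (hU : IsAffineOpen U) (k : ℕ), n₀ ≤ k →
      ∀ m' ∈ 𝒩.deg U hU k, ∃ m ∈ ℳ.deg U hU k, uAt u U m = m') : Epi ut := by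
  obtain ⟨n₀, hn₀⟩ := hsurj
  refine epi_of_local _ fun x W t hx => ?_
  obtain ⟨U, hU, hxU⟩ := exists_affine_chart (p := p) x
  exact exists_lift_rel hF hG hut x W t hx U hU hxU fun y =>
    GrTilde.MapProps.exists_lift (uAt u U) (hu U hU) n (hn₀ U hU) _ y

theorem exact_of_exact {𝒦 : RelProj.GrModule 𝒮} {H : P.Modules}
    {lam'' : ∀ (U : Y.Opens) (hU : IsAffineOpen U),
      H ⟶ (Scheme.Modules.pushforward (RelProj.emb p chart U hU)).obj (GrMod.tilde (𝒮.deg U hU) (𝒦.deg U hU) n)}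
    {v : 𝒩.mod ⟶ 𝒦.mod} {hv : RelProj.IsGrModHom v} {vt : G ⟶ H}
    (hF : RelProj.IsRelTilde 𝒮 p chart ℳ n F lam) (hG : RelProj.IsRelTilde 𝒮 p chart 𝒩 n G lam')
    (hut : ∀ (U : Y.Opens) (hU : IsAffineOpen U), ut ≫ lam' U hU = lam U hU ≫ mapAt p chart u hu n ⟨U, hU⟩)
    (hvt : ∀ (U : Y.Opens) (hU : IsAffineOpen U), vt ≫ lam'' U hU = lam' U hU ≫ mapAt p chart v hv n ⟨U, hU⟩)
    (hex : ∀ (U : Y.Opens) (hU : IsAffineOpen U), Function.Exact (uAt u U) (uAt v U))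
    (w : ut ≫ vt = 0) : (ShortComplex.mk ut vt w).Exact := by
  refine exact_of_local _ _ w fun x W t ht hx => ?_
  obtain ⟨U, hU, hxU⟩ := exists_affine_chart (p := p) x
  refine exists_lift_rel hF hG hut x W t hx U hU hxU fun y =>
    GrTilde.MapProps.exists_lift_of_exact (uAt u U) (hu U hU) n (uAt v U) (hv U hU) (hex U hU) _ ?_ y
  rw [← app_lam hvt, ← rs_app, ht, rs_zero]
  exact map_zero _

theorem isZero_of_isTN (hF : RelProj.IsRelTilde 𝒮 p chart ℳ n F lam) (hTN : ℳ.IsTN) : IsZero F := by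
  obtain ⟨n₀, hn₀⟩ := hTN
  refine isZero_of_app fun W t => sections_ext_cover (fun U : Y.affineOpens => p ⁻¹ᵁ U.1) F (V := W)
    (fun x _ => ?_) fun U => ?_
  · obtain ⟨U, hU, hx⟩ := exists_affine_chart (p := p) x
    exact Opens.mem_iSup.mpr ⟨⟨U, hU⟩, hx⟩
  · refine (hF.bijective U.1 U.2 _ inf_le_right).1 ?_
    exact (GrTilde.MapProps.sect_eq_zero (hn₀ U.1 U.2) _).trans (GrTilde.MapProps.sect_eq_zero (hn₀ U.1 U.2) _).symm

end Rel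

end

end Groth.Agent.H81.RelProj.RelFun
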