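import Groth.Agent.H81.RelProj.RelTilde
import Groth.Agent.H81.RelProj.GrTilde.Basic

/-!
# The twisting sheaf of a relative Proj as the module attached to the algebra itself
-/

set_option autoImplicit false
universe u

open CategoryTheory AlgebraicGeometry TopologicalSpace Opposite
open scoped HomogeneousIdeal

namespace Groth.Agent.H81.RelProj.TwistTilde

open Groth.Agent.H81.RelProj.GrTilde.Basic

noncomputable section

section Generic

variable {A σ : Type u} [CommRing A] [SetLike σ A] [AddSubgroupClass σ A] {𝒜 : ℕ → σ} [GradedRing 𝒜]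

/-- The map to a direct image of `A(n)~` induced by one to the direct image of `O(n)`. -/
def toTilde {P : Scheme.{u}} {L : P.Modules} {n : ℤ} (e : Proj 𝒜 ⟶ P)
    (l : L ⟶ (Scheme.Modules.pushforward e).obj (GrTwist.twist 𝒜 n)) :
    L ⟶ (Scheme.Modules.pushforward e).obj (GrMod.tilde 𝒜 𝒜 n) :=
  l ≫ (Scheme.Modules.pushforward e).map (twistIsoTilde n).hom

theorem toTilde_bijective {P : Scheme.{u}} {L : P.Modules} {n : ℤ} (e : Proj 𝒜 ⟶ P)
    (l : L ⟶ (Scheme.Modules.pushforward e).obj (GrTwist.twist 𝒜 n)) (W : P.Opens)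
    (hl : Function.Bijective (l.app W)) : Function.Bijective ((toTilde e l).app W) :=
  (twistEquiv (e ⁻¹ᵁ W)).bijective.comp hl

theorem val_toTilde {P : Scheme.{u}} {L : P.Modules} {n : ℤ} (e : Proj 𝒜 ⟶ P)
    (l : L ⟶ (Scheme.Modules.pushforward e).obj (GrTwist.twist 𝒜 n)) (W : P.Opens) (s : Γ(L, W))
    (y : ProjectiveSpectrum 𝒜) (hy : e.base y ∈ W) :
    GrMod.val (V := e ⁻¹ᵁ W) ((toTilde e l).app W s) ⟨y, hy⟩ =
      (GrTwist.val (V := e ⁻¹ᵁ W) (l.app W s) ⟨y, hy⟩ : GrTwist.Loc 𝒜 y) :=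
  rfl

variable {B σ' : Type u} [CommRing B] [SetLike σ' B] [AddSubgroupClass σ' B] {ℬ : ℕ → σ'} [GradedRing ℬ]

theorem transfer_iff {PA PB : Scheme.{u}} {LA : PA.Modules} {LB : PB.Modules} {n : ℤ}
    (ψ : 𝒜 →+*ᵍ ℬ) (hψ : ℬ₊ ≤ (𝒜₊).map ψ) (v : A →ₛₗ[ψ.toRingHom] B) (hv : ∀ a, v a = ψ a)
    (eA : Proj 𝒜 ⟶ PA) (eB : Proj ℬ ⟶ PB)
    (lA : LA ⟶ (Scheme.Modules.pushforward eA).obj (GrTwist.twist 𝒜 n))
    (lB : LB ⟶ (Scheme.Modules.pushforward eB).obj (GrTwist.twist ℬ n))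
    (W : PA.Opens) (W' : PB.Opens) (s : Γ(LA, W)) (s' : Γ(LB, W'))
    (y : ProjectiveSpectrum ℬ) (hy : eB.base y ∈ W') (hy' : eA.base (ProjectiveSpectrum.comap ψ hψ y) ∈ W) :
    GrTwist.val (V := eB ⁻¹ᵁ W') (lB.app W' s') ⟨y, hy⟩ =
        GrTwist.locMap ψ hψ y (GrTwist.val (V := eA ⁻¹ᵁ W) (lA.app W s) ⟨_, hy'⟩) ↔
      GrMod.val (V := eB ⁻¹ᵁ W') ((toTilde eB lB).app W' s') ⟨y, hy⟩ =
        GrMod.locModMap ψ hψ v y (GrMod.val (V := eA ⁻¹ᵁ W) ((toTilde eA lA).app W s) ⟨_, hy'⟩) := by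
  rw [val_toTilde, val_toTilde]
  have key : ∀ q : GrTwist.Loc 𝒜 (ProjectiveSpectrum.comap ψ hψ y),
      GrMod.locModMap ψ hψ v y q = GrTwist.locMap ψ hψ y q := by
    intro q
    induction q using Localization.induction_on with
    | H p =>
      obtain ⟨a, s⟩ := p
      refine Eq.trans ?_ (GrTwist.locMap_mk ψ hψ y a s).symm
      change LocalizedModule.mk (v a) _ = _
      rw [hv]
      rfl
  exact ⟨fun h => h.trans (key _).symm, fun h => h.trans (key _)⟩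

end Generic

variable {Y P : Scheme.{u}} {𝒮 : RelProj.QCGrAlg Y} {p : P ⟶ Y}
  {chart : ∀ (U : Y.Opens) (hU : IsAffineOpen U), (((p ⁻¹ᵁ U : P.Opens) : Scheme.{u}) ≅ Proj (𝒮.deg U hU))}
  {n : ℤ} {L : P.Modules}
  {lam : ∀ (U : Y.Opens) (hU : IsAffineOpen U),
    L ⟶ (Scheme.Modules.pushforward (RelProj.emb p chart U hU)).obj (GrTwist.twist (𝒮.deg U hU) n)}

/-- The identification as a module attached to `selfMod`. -/
def lamT (lam : ∀ (U : Y.Opens) (hU : IsAffineOpen U),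
      L ⟶ (Scheme.Modules.pushforward (RelProj.emb p chart U hU)).obj (GrTwist.twist (𝒮.deg U hU) n))
    (U : Y.Opens) (hU : IsAffineOpen U) :
    L ⟶ (Scheme.Modules.pushforward (RelProj.emb p chart U hU)).obj
      (GrMod.tilde (𝒮.deg U hU) ((RelTilde.selfMod 𝒮).deg U hU) n) :=
  toTilde (RelProj.emb p chart U hU) (lam U hU)

theorem isRelTilde (hL : RelProj.IsRelTwist 𝒮 p chart n L lam) :
    RelProj.IsRelTilde 𝒮 p chart (RelTilde.selfMod 𝒮) n L (lamT lam) :=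
  ⟨fun U hU W hW => toTilde_bijective _ _ W (hL.bijective U hU W hW), fun U hU r W s y hy hy' =>
    (transfer_iff _ _ ((RelTilde.selfMod 𝒮).res hU (hU.basicOpen r) (Y.basicOpen_le r)) (fun _ => rfl) _ _
      (lam U hU) (lam (Y.basicOpen r) (hU.basicOpen r)) W W s s y hy hy').1 (hL.compat U hU r W s y hy hy')⟩

end

end Groth.Agent.H81.RelProj.TwistTilde
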