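import Groth.Agent.H81.RelProj.RelTilde
import Groth.Agent.Lib.TensorMod.LocIso
import Groth.Agent.H81.RelProj.GrTilde.Invertible

/-!
# Triviality of `O(nd)` over the open defined by a section of degree `d`
-/

set_option autoImplicit false
universe u

open CategoryTheory AlgebraicGeometry TopologicalSpace Opposite
open scoped HomogeneousIdeal

namespace Groth.Agent.H81.RelProj.TwistTrivXf

open Groth.Agent.H81.RelProj.GrTilde.Frac Groth.Agent.H81.RelProj.GrTilde.Basic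
open Groth.Agent.Lib.TensorMod.Dual (rs rs_self rs_rs rf rs_smul)

noncomputable section

section Generic

variable {A σ : Type u} [CommRing A] [SetLike σ A] [AddSubgroupClass σ A] {𝒜 : ℕ → σ} [GradedRing 𝒜]
  {p q : ℕ} {c e : A} {n : ℤ}

/-- The fraction `c / e` as a section of `O(n)`. -/
def fracSec (hc : c ∈ 𝒜 p) (he : e ∈ 𝒜 q) (hn : (p : ℤ) = q + n) (V : (Proj 𝒜).Opens)
    (hV : V ≤ Proj.basicOpen 𝒜 (c * e)) : Γ(GrTwist.twist 𝒜 n, V) :=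
  (⟨fun x => ⟨Localization.mk c ⟨e, notMem_right hV x⟩,
    Submodule.subset_span ⟨p, q, ⟨c, hc⟩, ⟨e, he⟩, notMem_right hV x, hn, rfl⟩⟩,
    fun x => ⟨V, x.2, 𝟙 _, p, q, ⟨c, hc⟩, ⟨e, he⟩, fun y => notMem_right hV y, Or.inl hn, fun _ => rfl⟩⟩ :
    GrTwist.sectN (𝒜 := 𝒜) n (op V))

theorem smul_fracSec_bijective (hc : c ∈ 𝒜 p) (he : e ∈ 𝒜 q) (hn : (p : ℤ) = q + n) (V : (Proj 𝒜).Opens)
    (hV : V ≤ Proj.basicOpen 𝒜 (c * e)) :
    Function.Bijective (fun r : Γ(Proj 𝒜, V) => r • fracSec hc he hn V hV) := by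
  have key : (⇑(twistEquiv (𝒜 := 𝒜) (n := n) V) ∘ fun r : Γ(Proj 𝒜, V) => r • fracSec hc he hn V hV) =
      ⇑(mulEquiv (ℳ := 𝒜) (n := 0) (n' := n) hc he (by omega) hV) ∘ ofFun := by
    funext r
    refine sect_ext fun x => ?_
    refine ((GrTwist.coe_smul_val n x.1 (r.1 x) _).trans ?_)
    exact mul_comm (r.1 x).val (Localization.mk c ⟨e, notMem_right hV x⟩)
  refine (Function.Bijective.of_comp_iff' (twistEquiv (𝒜 := 𝒜) (n := n) V).bijective _).1 ?_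
  rw [key]
  exact (AddEquiv.bijective _).comp ⟨ofFun_injective, ofFun_surjective⟩

end Generic

section Hom

variable {X : Scheme.{u}}

theorem mem_preimage_of_iso {U V : X.Opens} {Z : Scheme.{u}} (i : (U : Scheme.{u}) ≅ Z) (D : Z.Opens)
    (h : V ⊓ U = U.ι ''ᵁ (i.hom ⁻¹ᵁ D)) (x : Z) (hx : (i.inv ≫ U.ι) x ∈ V) : x ∈ D := by
  have h' : (i.inv ≫ U.ι) x ∈ U.ι ''ᵁ (i.hom ⁻¹ᵁ D) := by
    rw [← h]; exact ⟨hx, (i.inv x).2⟩
  obtain ⟨z, hz, hzx⟩ := h'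
  obtain rfl : z = i.inv x := U.ι.isOpenEmbedding.injective hzx
  change i.hom (i.inv x) ∈ D at hz
  rwa [← Scheme.Hom.comp_apply, Iso.inv_hom_id] at hz

/-- `r ↦ r • x`. -/
def smulR (L : X.Modules) {W : X.Opens} (x : Γ(L, W)) : Γ(X, W) →+ Γ(L, W) :=
  AddMonoidHom.mk' (fun r => r • x) (fun a b => add_smul a b x)

/-- A section of `L` over `V` gives a map from the structure sheaf of `V`. -/
def homOfSec (L : X.Modules) (V : X.Opens) (σ : Γ(L, V)) :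
    (Coh.structureModule X).restrict V.ι ⟶ L.restrict V.ι :=
  Lib.ProjTilde.Hom.homMk
    (fun W => (smulR L (rs L (Lib.ProjTilde.Hom.image_le W) σ) : Γ(X, V.ι ''ᵁ W) →+ Γ(L, V.ι ''ᵁ W)))
    (fun W r m => by
      let m' : Γ(X, V.ι ''ᵁ W) := m
      let r' : Γ(X, V.ι ''ᵁ W) := (V.ι.appIso W).inv r
      exact mul_smul r' m' (rs L (Lib.ProjTilde.Hom.image_le W) σ))
    (fun W W' h m => by
      refine Eq.trans ?_ (rs_smul L (Scheme.Hom.image_mono _ h) (m : Γ(X, V.ι ''ᵁ W)) _).symm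
      rw [rs_rs]
      rfl)

theorem nonempty_iso_of_gen (L : X.Modules) (V : X.Opens) (σ : Γ(L, V))
    (h : ∀ x ∈ V, ∃ U : X.Opens, x ∈ U ∧ ∀ (W : X.Opens) (hW : W ≤ V), W ≤ U →
      Function.Bijective (fun r : Γ(X, W) => r • rs L hW σ)) :
    Nonempty (L.restrict V.ι ≅ Coh.structureModule (V : Scheme.{u})) := by
  haveI : IsIso (homOfSec L V σ) := by
    refine Lib.TensorMod.LocIso.isIso_of_locally _ fun x => ?_
    obtain ⟨U, hxU, hU⟩ := h x.1 x.2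
    refine ⟨V.ι ⁻¹ᵁ U, hxU, fun W hW => ?_⟩
    rw [ConcreteCategory.isIso_iff_bijective]
    exact hU (V.ι ''ᵁ W) (Lib.ProjTilde.Hom.image_le W)
      (((Scheme.Hom.image_mono _ hW)).trans (V.ι.image_preimage_le U))
  exact ⟨(asIso (homOfSec L V σ)).symm ≪≫ Scheme.Modules.restrictUnitIso V.ι⟩

end Hom

variable {Y P : Scheme.{u}} {𝒮 : RelProj.QCGrAlg Y} {p : P ⟶ Y}
  {chart : ∀ (U : Y.Opens) (hU : IsAffineOpen U), (((p ⁻¹ᵁ U : P.Opens) : Scheme.{u}) ≅ Proj (𝒮.deg U hU))}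
  {d : ℕ} (f : 𝒮.presheaf.obj (op ⊤))

/-- The restriction of `f`. -/
abbrev fU (U : Y.Opens) : 𝒮.presheaf.obj (op U) := (𝒮.presheaf.map (homOfLE le_top).op).hom f

theorem res_fU {D U : Y.Opens} (hU : IsAffineOpen U) (hD : IsAffineOpen D) (i : D ≤ U) (k : ℕ) :
    𝒮.res hU hD i (fU f U ^ k) = fU f D ^ k := by
  rw [map_pow]
  congr 1
  change (𝒮.presheaf.map (homOfLE i).op).hom ((𝒮.presheaf.map (homOfLE le_top).op).hom f) = _
  rw [← RingHom.comp_apply, ← CommRingCat.hom_comp, ← Functor.map_comp]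
  rfl

theorem nonempty_iso (hP : RelProj.IsRelProj 𝒮 p chart)
    (hf : ∀ (U : Y.Opens) (hU : IsAffineOpen U), fU f U ∈ 𝒮.deg U hU d) (Xf : P.Opens)
    (hXf : ∀ (U : Y.Opens) (hU : IsAffineOpen U),
      Xf ⊓ p ⁻¹ᵁ U = (p ⁻¹ᵁ U).ι ''ᵁ ((chart U hU).hom ⁻¹ᵁ Proj.basicOpen (𝒮.deg U hU) (fU f U)))
    (n : ℤ) (L : P.Modules)
    (lam : ∀ (U : Y.Opens) (hU : IsAffineOpen U),
      L ⟶ (Scheme.Modules.pushforward (RelProj.emb p chart U hU)).obj (GrTwist.twist (𝒮.deg U hU) (n * (d : ℤ))))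
    (hL : RelProj.IsRelTwist 𝒮 p chart (n * (d : ℤ)) L lam) :
    Nonempty (L.restrict Xf.ι ≅ Coh.structureModule (Xf : Scheme.{u})) := by
  have hn : ((n.toNat • d : ℕ) : ℤ) = ((-n).toNat • d : ℕ) + n * d := by
    have h0 : n = (n.toNat : ℤ) - ((-n).toNat : ℤ) := by omega
    simp only [smul_eq_mul]
    push_cast
    linear_combination (d : ℤ) * -h0
  have hV : ∀ (U : Y.affineOpens) (W : P.Opens), W ≤ Xf →
      RelProj.emb p chart U.1 U.2 ⁻¹ᵁ W ≤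
        Proj.basicOpen (𝒮.deg U.1 U.2) (fU f U.1 ^ n.toNat * fU f U.1 ^ (-n).toNat) := fun U W hW x hx => by
    have h1 : x ∈ Proj.basicOpen (𝒮.deg U.1 U.2) (fU f U.1) :=
      mem_preimage_of_iso (chart U.1 U.2) _ (hXf U.1 U.2) x (hW hx)
    rw [Proj.mem_basicOpen] at h1 ⊢
    rw [← pow_add]
    exact fun h => h1 (x.isPrime.mem_of_pow_mem _ h)
  let g := fun (U : Y.affineOpens) (W : P.Opens) (hW : W ≤ Xf) =>
    fracSec (SetLike.pow_mem_graded n.toNat (hf U.1 U.2)) (SetLike.pow_mem_graded (-n).toNat (hf U.1 U.2)) hn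
      (RelProj.emb p chart U.1 U.2 ⁻¹ᵁ W) (hV U W hW)
  choose s hs using fun U : Y.affineOpens =>
    (hL.bijective U.1 U.2 (Xf ⊓ p ⁻¹ᵁ U.1) inf_le_right).2 (g U _ inf_le_left)
  have hrs : ∀ (U : Y.affineOpens) (W : P.Opens) (hW : W ≤ Xf ⊓ p ⁻¹ᵁ U.1),
      (lam U.1 U.2).app W (rs L hW (s U)) = g U W (hW.trans inf_le_left) := fun U W hW => by
    refine (Groth.Agent.Lib.TensorMod.HomGlue.rs_app (lam U.1 U.2) hW (s U)).symm.trans ?_
    rw [hs U]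
    rfl
  have hrel : ∀ {D U : Y.affineOpens} (h : RelTilde.Rel D U) (W : P.Opens) (hW : W ≤ Xf ⊓ p ⁻¹ᵁ D.1),
      rs L (hW.trans (inf_le_inf_left _ (p.preimage_mono h.le))) (s U) = rs L hW (s D) := by
    rintro ⟨D, hD⟩ ⟨U, hU⟩ h W hW
    obtain ⟨r, rfl : Y.basicOpen r = D⟩ := h
    refine (hL.bijective (Y.basicOpen r) hD W (hW.trans inf_le_right)).1 ?_
    rw [hrs ⟨_, hD⟩ W hW]
    refine Subtype.ext (funext fun y => Subtype.ext ?_)
    have hy' := RelTilde.hsub hP (D := ⟨_, hD⟩) (U := ⟨U, hU⟩) ⟨r, rfl⟩ W y.2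
    refine (hL.compat U hU r W _ y.1 y.2 hy').trans ?_
    rw [hrs ⟨U, hU⟩]
    refine (GrTwist.locMap_mk _ _ _ _ _).trans ?_
    change Localization.mk _ _ = Localization.mk _ _
    congr 1
    · exact res_fU f hU (hU.basicOpen r) (Y.basicOpen_le r) _
    · exact Subtype.ext (res_fU f hU (hU.basicOpen r) (Y.basicOpen_le r) _)
  have hcov : Xf ≤ ⨆ U : Y.affineOpens, Xf ⊓ p ⁻¹ᵁ U.1 := fun x hx => by
    obtain ⟨U, hU, hxU, -⟩ := exists_isAffineOpen_mem_and_subset (U := ⊤) (x := p x) trivial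
    exact Opens.mem_iSup.2 ⟨⟨U, hU⟩, hx, hxU⟩
  obtain ⟨σ, hσ, -⟩ := TopCat.Sheaf.existsUnique_gluing'
    (⟨L.presheaf, L.isSheaf⟩ : TopCat.Sheaf Ab.{u} P) (fun U : Y.affineOpens => Xf ⊓ p ⁻¹ᵁ U.1) Xf
    (fun U => homOfLE inf_le_left) hcov s fun U V => by
      change rs L (inf_le_left : (Xf ⊓ p ⁻¹ᵁ U.1) ⊓ (Xf ⊓ p ⁻¹ᵁ V.1) ≤ _) (s U) = rs L inf_le_right (s V)
      refine Groth.Agent.Lib.TensorMod.HomGlue.sections_ext_cover
        (fun l : {l : Y.affineOpens // RelTilde.Rel l U ∧ RelTilde.Rel l V} => p ⁻¹ᵁ l.1.1) L ?_ fun l => ?_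
      · intro x hx
        obtain ⟨l, h₁, h₂, hl⟩ := RelTilde.exists_common U V x hx.1.2 hx.2.2
        exact Opens.mem_iSup.2 ⟨⟨l, h₁, h₂⟩, hl⟩
      · rw [rs_rs, rs_rs]
        have hW : ((Xf ⊓ p ⁻¹ᵁ U.1) ⊓ (Xf ⊓ p ⁻¹ᵁ V.1)) ⊓ p ⁻¹ᵁ l.1.1 ≤ Xf ⊓ p ⁻¹ᵁ l.1.1 :=
          inf_le_inf_right _ (inf_le_left.trans inf_le_left)
        exact (hrel l.2.1 _ hW).trans (hrel l.2.2 _ hW).symm
  refine nonempty_iso_of_gen L Xf σ fun x hx => ?_
  obtain ⟨U, hU, hxU, -⟩ := exists_isAffineOpen_mem_and_subset (U := ⊤) (x := p x) trivial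
  refine ⟨p ⁻¹ᵁ U, hxU, fun W hW hWU => ?_⟩
  let U' : Y.affineOpens := ⟨U, hU⟩
  have hWU' : W ≤ Xf ⊓ p ⁻¹ᵁ U'.1 := le_inf hW hWU
  have e1 : rs L hW σ = rs L hWU' (s U') := by
    rw [← hσ U']
    exact (rs_rs L inf_le_left hWU' σ).symm
  rw [e1]
  refine (Function.Bijective.of_comp_iff' (hL.bijective U hU W hWU) _).1 ?_
  have e2 : (⇑((lam U hU).app W) ∘ fun r : Γ(P, W) => r • rs L hWU' (s U')) =
      (fun r : Γ(Proj (𝒮.deg U hU), RelProj.emb p chart U hU ⁻¹ᵁ W) => r • g U' W hW) ∘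
        ⇑((RelProj.emb p chart U hU).app W) := by
    funext r
    change (lam U hU).app W (r • rs L hWU' (s U')) = (RelProj.emb p chart U hU).app W r • g U' W hW
    rw [Scheme.Modules.Hom.app_smul, hrs U' W hWU']
    rfl
  rw [e2]
  haveI := (RelProj.emb p chart U hU).isIso_app W (hWU.trans (RelTilde.opensRange_emb p chart U hU).ge)
  exact (smul_fracSec_bijective _ _ hn _ (hV U' W hW)).comp
    ((ConcreteCategory.isIso_iff_bijective _).1 inferInstance)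

end

end Groth.Agent.H81.RelProj.TwistTrivXf
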