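import Groth.Agent.H81.RelProj.Prod
import Groth.Agent.H81.RelProj.TwistTilde
import Groth.Agent.H81.RelProj.TwistTrivXf
import Groth.Agent.Lib.ProjTilde.Pairing

/-!
# The pairing `M~(m) × O(n) → M~(m+n)` on a relative Proj
-/

set_option autoImplicit false
universe u

open CategoryTheory AlgebraicGeometry TopologicalSpace Opposite
open scoped HomogeneousIdeal

namespace Groth.Agent.H81.RelProj.RelPairing

open Groth.Agent.H81.RelProj.GrTilde.Frac Groth.Agent.H81.RelProj.GrTilde.Basic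
open Groth.Agent.Lib.TensorMod.Dual (rs rs_self rs_rs rf rs_smul)

noncomputable section

set_option synthInstance.maxHeartbeats 400000

variable {Y P : Scheme.{u}} {𝒮 : RelProj.QCGrAlg Y} {p : P ⟶ Y}
  {chart : ∀ (U : Y.Opens) (hU : IsAffineOpen U), (((p ⁻¹ᵁ U : P.Opens) : Scheme.{u}) ≅ Proj (𝒮.deg U hU))}
  {ℳ : RelProj.GrModule 𝒮} {m n k : ℤ} {F H L : P.Modules}
  {lamF : ∀ (U : Y.Opens) (hU : IsAffineOpen U),
    F ⟶ (Scheme.Modules.pushforward (RelProj.emb p chart U hU)).obj (GrMod.tilde (𝒮.deg U hU) (ℳ.deg U hU) m)}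
  {lamH : ∀ (U : Y.Opens) (hU : IsAffineOpen U),
    H ⟶ (Scheme.Modules.pushforward (RelProj.emb p chart U hU)).obj (GrMod.tilde (𝒮.deg U hU) (ℳ.deg U hU) k)}
  {lamL : ∀ (U : Y.Opens) (hU : IsAffineOpen U),
    L ⟶ (Scheme.Modules.pushforward (RelProj.emb p chart U hU)).obj (GrTwist.twist (𝒮.deg U hU) n)}

/-- The product at the chart over `U`. -/
def prodAt (lamF : ∀ (U : Y.Opens) (hU : IsAffineOpen U),
      F ⟶ (Scheme.Modules.pushforward (RelProj.emb p chart U hU)).obj (GrMod.tilde (𝒮.deg U hU) (ℳ.deg U hU) m))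
    (lamL : ∀ (U : Y.Opens) (hU : IsAffineOpen U),
      L ⟶ (Scheme.Modules.pushforward (RelProj.emb p chart U hU)).obj (GrTwist.twist (𝒮.deg U hU) n))
    (hk : k = m + n) (U : Y.Opens) (hU : IsAffineOpen U) (W : P.Opens) (f : Γ(F, W)) (l : Γ(L, W)) :
    Γ((Scheme.Modules.pushforward (RelProj.emb p chart U hU)).obj (GrMod.tilde (𝒮.deg U hU) (ℳ.deg U hU) k), W) :=
  Prod.prod (W := RelProj.emb p chart U hU ⁻¹ᵁ W) hk ((lamF U hU).app W f) ((lamL U hU).app W l)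

variable (hP : RelProj.IsRelProj 𝒮 p chart) (hk : k = m + n)
  (hF : RelProj.IsRelTilde 𝒮 p chart ℳ m F lamF) (hL : RelProj.IsRelTwist 𝒮 p chart n L lamL)
  (hH : RelProj.IsRelTilde 𝒮 p chart ℳ k H lamH) (hloc : RelTilde.Loc ℳ)

include hP hF hL in
theorem c_prodAt {D U : Y.affineOpens} (h : RelTilde.Rel D U) (W : P.Opens) (f : Γ(F, W)) (l : Γ(L, W)) :
    (RelTilde.c ℳ k hP h).app W (prodAt lamF lamL hk U.1 U.2 W f l) = prodAt lamF lamL hk D.1 D.2 W f l := by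
  rw [RelTilde.c_app]
  refine (Prod.comap_prod hk _ _ _ _ _ _ _ _).trans ?_
  obtain ⟨D, hD⟩ := D; obtain ⟨U, hU⟩ := U
  obtain ⟨r, rfl : Y.basicOpen r = D⟩ := h
  have hsub := RelTilde.hsub hP (D := ⟨_, hD⟩) (U := ⟨U, hU⟩) ⟨r, rfl⟩ W
  refine congrArg₂ (Prod.prod hk) (sect_ext fun y => ?_) (Subtype.ext (funext fun y => Subtype.ext ?_))
  · exact (hF.compat U hU r W f y.1 y.2 (hsub y.2)).symm
  · exact (hL.compat U hU r W l y.1 y.2 (hsub y.2)).symm

include hP hH hloc in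
theorem ext_of_lam {W : P.Opens} {a b : Γ(H, W)}
    (h : ∀ U : Y.affineOpens, (lamH U.1 U.2).app W a = (lamH U.1 U.2).app W b) : a = b := by
  haveI := ModGlue.isIso_lift (RelTilde.system ℳ k hP hloc) (fun U => lamH U.1 U.2)
    (fun _ _ h => RelTilde.lam_c hP hH h) (RelTilde.iSup_O ℳ k hP hloc) (fun U W hW => hH.bijective U.1 U.2 W hW)
  refine ((ConcreteCategory.isIso_iff_bijective ((ModGlue.lift (RelTilde.system ℳ k hP hloc)
    (fun U => lamH U.1 U.2) (fun _ _ h => RelTilde.lam_c hP hH h)).app W)).1 inferInstance).1 ?_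
  exact Subtype.ext (funext h)

include hP hF hL hH hloc in
theorem exists_mul (W : P.Opens) (f : Γ(F, W)) (l : Γ(L, W)) :
    ∃ a : Γ(H, W), ∀ U : Y.affineOpens, (lamH U.1 U.2).app W a = prodAt lamF lamL hk U.1 U.2 W f l := by
  let S := RelTilde.system ℳ k hP hloc
  haveI := ModGlue.isIso_lift S (fun U => lamH U.1 U.2) (fun _ _ h => RelTilde.lam_c hP hH h)
    (RelTilde.iSup_O ℳ k hP hloc) (fun U W hW => hH.bijective U.1 U.2 W hW)
  obtain ⟨a, ha⟩ := ((ConcreteCategory.isIso_iff_bijective ((ModGlue.lift S (fun U => lamH U.1 U.2)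
      (fun _ _ h => RelTilde.lam_c hP hH h)).app W)).1 inferInstance).2
    (⟨fun U => prodAt lamF lamL hk U.1 U.2 W f l, fun D U h => c_prodAt hP hk hF hL h W f l⟩ : ModGlue.sec S W)
  exact ⟨a, fun U => congrFun (congrArg Subtype.val ha) U⟩

/-- The pairing. -/
def μ (W : P.Opens) (f : Γ(F, W)) (l : Γ(L, W)) : Γ(H, W) :=
  (exists_mul hP hk hF hL hH hloc W f l).choose

theorem lam_μ (W : P.Opens) (f : Γ(F, W)) (l : Γ(L, W)) (U : Y.affineOpens) :
    (lamH U.1 U.2).app W (μ hP hk hF hL hH hloc W f l) = prodAt lamF lamL hk U.1 U.2 W f l :=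
  (exists_mul hP hk hF hL hH hloc W f l).choose_spec U

theorem isPairing : Lib.ProjTilde.Pairing.IsPairing (μ hP hk hF hL hH hloc) where
  add_left W f f' l := ext_of_lam hP hH hloc fun U => by
    rw [lam_μ, map_add, lam_μ, lam_μ, prodAt, map_add]
    exact Prod.add_left hk _ _ _
  smul_left W r f l := ext_of_lam hP hH hloc fun U => by
    rw [lam_μ, Scheme.Modules.Hom.app_smul, lam_μ, prodAt, Scheme.Modules.Hom.app_smul]
    exact Prod.smul_left hk ((RelProj.emb p chart U.1 U.2).app W r) _ _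
  add_right W f l l' := ext_of_lam hP hH hloc fun U => by
    rw [lam_μ, map_add, lam_μ, lam_μ, prodAt, map_add]
    exact Prod.add_right hk _ _ _
  smul_right W r f l := ext_of_lam hP hH hloc fun U => by
    rw [lam_μ, Scheme.Modules.Hom.app_smul, lam_μ, prodAt, Scheme.Modules.Hom.app_smul]
    exact Prod.smul_right hk ((RelProj.emb p chart U.1 U.2).app W r) _ _
  nat W W' h f l := ext_of_lam hP hH hloc fun U => by
    rw [lam_μ, ← Groth.Agent.Lib.TensorMod.HomGlue.rs_app, lam_μ, prodAt, prodAt,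
      ← Groth.Agent.Lib.TensorMod.HomGlue.rs_app, ← Groth.Agent.Lib.TensorMod.HomGlue.rs_app]
    rfl

/-- Near `x` the sheaf `O(n)` has a generator pairing bijectively. -/
theorem exists_gen {x : P} {U : Y.affineOpens} {i j : ℕ} {c e : 𝒮.presheaf.obj (op U.1)}
    (hc : c ∈ 𝒮.deg U.1 U.2 i) (he : e ∈ 𝒮.deg U.1 U.2 j) (hn : (i : ℤ) = j + n)
    {y : ProjectiveSpectrum (𝒮.deg U.1 U.2)} (hy : c * e ∉ y.asHomogeneousIdeal)
    (hyx : RelProj.emb p chart U.1 U.2 y = x) :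
    ∃ (O : P.Opens) (ε : Γ(L, O)), x ∈ O ∧ ∀ (V : P.Opens) (h : V ≤ O),
      (∀ l : Γ(L, V), ∃ a : Γ(P, V), l = a • rs L h ε) ∧
        Function.Bijective fun f => μ hP hk hF hL hH hloc V f (rs L h ε) := by
  let e' := RelProj.emb p chart U.1 U.2
  let O := e' ''ᵁ Proj.basicOpen (𝒮.deg U.1 U.2) (c * e)
  have hOU : O ≤ p ⁻¹ᵁ U.1 := by
    rw [← RelTilde.opensRange_emb p chart U.1 U.2]
    rintro _ ⟨z, -, rfl⟩
    exact ⟨z, rfl⟩
  have hpre : e' ⁻¹ᵁ O ≤ Proj.basicOpen (𝒮.deg U.1 U.2) (c * e) := by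
    rw [e'.preimage_image_eq]
  obtain ⟨ε, hε⟩ := (hL.bijective U.1 U.2 O hOU).2 (TwistTrivXf.fracSec hc he hn (e' ⁻¹ᵁ O) hpre)
  refine ⟨O, ε, ⟨y, hy, hyx⟩, fun V hV => ?_⟩
  have hVU : V ≤ p ⁻¹ᵁ U.1 := hV.trans hOU
  have hVpre : e' ⁻¹ᵁ V ≤ Proj.basicOpen (𝒮.deg U.1 U.2) (c * e) := (e'.preimage_mono hV).trans hpre
  have hεV : (lamL U.1 U.2).app V (rs L hV ε) = TwistTrivXf.fracSec hc he hn (e' ⁻¹ᵁ V) hVpre := by
    refine (Groth.Agent.Lib.TensorMod.HomGlue.rs_app (lamL U.1 U.2) hV ε).symm.trans ?_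
    rw [hε]
    rfl
  haveI := e'.isIso_app V (hVU.trans (RelTilde.opensRange_emb p chart U.1 U.2).ge)
  constructor
  · intro l
    obtain ⟨a, ha⟩ := (TwistTrivXf.smul_fracSec_bijective hc he hn _ hVpre).2 ((lamL U.1 U.2).app V l)
    obtain ⟨r, hr⟩ := ((ConcreteCategory.isIso_iff_bijective (e'.app V)).1 inferInstance).2 a
    refine ⟨r, (hL.bijective U.1 U.2 V hVU).1 ?_⟩
    rw [Scheme.Modules.Hom.app_smul, hεV]
    refine ha.symm.trans ?_
    rw [← hr]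
    rfl
  · refine (Function.Bijective.of_comp_iff' (hH.bijective U.1 U.2 V hVU) _).1 ?_
    have e2 : (⇑((lamH U.1 U.2).app V) ∘ fun f => μ hP hk hF hL hH hloc V f (rs L hV ε)) =
        (fun σ : GrMod.sect (𝒮.deg U.1 U.2) (ℳ.deg U.1 U.2) m (op (e' ⁻¹ᵁ V)) =>
          Prod.prod (k := k) hk σ (TwistTrivXf.fracSec hc he hn (e' ⁻¹ᵁ V) hVpre)) ∘ ⇑((lamF U.1 U.2).app V) := by
      funext f
      refine (lam_μ hP hk hF hL hH hloc V f _ U).trans ?_
      exact congrArg (Prod.prod hk ((lamF U.1 U.2).app V f)) hεV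
    rw [e2]
    exact (Prod.prod_bijective hk hc he hn hVpre _ fun z => rfl).comp (hF.bijective U.1 U.2 V hVU)

end

end Groth.Agent.H81.RelProj.RelPairing
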