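import Groth.Agent.H81.RelProj.TwistInv
import Groth.Agent.H81.RelProj.GrTilde.Frac

/-!
# Invertibility of `O(n)` over a quasi-compact open, for sufficiently divisible `n`
-/

set_option autoImplicit false
universe u

open CategoryTheory AlgebraicGeometry TopologicalSpace Opposite
open scoped HomogeneousIdeal

namespace Groth.Agent.H81.RelProj.TwistCompact

noncomputable section

theorem exists_pos_mem_notMem {A σ : Type u} [CommRing A] [SetLike σ A] [AddSubgroupClass σ A] (𝒜 : ℕ → σ)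
    [GradedRing 𝒜] (x : ProjectiveSpectrum 𝒜) : ∃ d, 0 < d ∧ ∃ f ∈ 𝒜 d, f ∉ x.asHomogeneousIdeal := by
  classical
  by_contra h
  push Not at h
  refine x.not_irrelevant_le fun a ha => ?_
  rw [← DirectSum.sum_support_decompose 𝒜 a]
  refine Ideal.sum_mem _ fun i _ => ?_
  rcases Nat.eq_zero_or_pos i with rfl | hi
  · have ha0 : (DirectSum.decompose 𝒜 a 0 : A) = 0 := (HomogeneousIdeal.mem_irrelevant_iff 𝒜 a).1 ha
    rw [ha0]
    exact Ideal.zero_mem _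
  · exact h i hi _ (SetLike.coe_mem _)

/-- Over a quasi-compact open, `d` works if it is divisible by the degrees of elements defining charts. -/
theorem exists_dvd_cover {Y X : Scheme.{u}} (𝒮 : RelProj.QCGrAlg Y) (q : X ⟶ Y)
    (chart : ∀ (U : Y.Opens) (hU : IsAffineOpen U), (((q ⁻¹ᵁ U : X.Opens) : Scheme.{u}) ≅ Proj (𝒮.deg U hU)))
    (U : X.Opens) (hU : IsCompact (U : Set X)) :
    ∃ d : ℕ, 0 < d ∧ ∀ x ∈ U, ∃ (V : Y.affineOpens) (e : ℕ) (f : 𝒮.presheaf.obj (op V.1))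
      (y : ProjectiveSpectrum (𝒮.deg V.1 V.2)),
      e ∣ d ∧ f ∈ 𝒮.deg V.1 V.2 e ∧ f ∉ y.asHomogeneousIdeal ∧ RelProj.emb q chart V.1 V.2 y = x := by
  classical
  have hx : ∀ x : X, ∃ (V : Y.affineOpens) (e : ℕ) (f : 𝒮.presheaf.obj (op V.1)),
      0 < e ∧ f ∈ 𝒮.deg V.1 V.2 e ∧
        x ∈ RelProj.emb q chart V.1 V.2 ''ᵁ Proj.basicOpen (𝒮.deg V.1 V.2) f := fun x => by
    obtain ⟨V, hV, hxV, -⟩ := exists_isAffineOpen_mem_and_subset (U := ⊤) (x := q x) trivial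
    obtain ⟨y, hy⟩ : x ∈ (RelProj.emb q chart V hV).opensRange := by
      change x ∈ ((chart V hV).inv ≫ (q ⁻¹ᵁ V).ι).opensRange
      rw [Scheme.Hom.opensRange_comp_of_isIso, Scheme.Opens.opensRange_ι]
      exact hxV
    obtain ⟨e, he, f, hf, hfy⟩ := exists_pos_mem_notMem (𝒮.deg V hV) y
    exact ⟨⟨V, hV⟩, e, f, he, hf, y, hfy, hy⟩
  choose V e f he hf hmem using hx
  obtain ⟨t, ht⟩ := hU.elim_finite_subcover
    (fun x : X => ((RelProj.emb q chart (V x).1 (V x).2 ''ᵁ Proj.basicOpen _ (f x) : X.Opens) : Set X))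
    (fun x => Opens.isOpen _) (fun x _ => Set.mem_iUnion.2 ⟨x, hmem x⟩)
  refine ⟨∏ x ∈ t, e x, Finset.prod_pos fun x _ => he x, fun x hx => ?_⟩
  obtain ⟨i, hi, y, hfy, hy⟩ := Set.mem_iUnion₂.1 (ht hx)
  exact ⟨V i, e i, f i, y, Finset.dvd_prod_of_mem e hi, hf i, hfy, hy⟩

theorem exists_isInvertible {Y X : Scheme.{u}} (𝒮 : RelProj.QCGrAlg Y) (q : X ⟶ Y)
    (chart : ∀ (U : Y.Opens) (hU : IsAffineOpen U), (((q ⁻¹ᵁ U : X.Opens) : Scheme.{u}) ≅ Proj (𝒮.deg U hU)))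
    (U : X.Opens) (hU : IsCompact (U : Set X)) :
    ∃ d : ℕ, 0 < d ∧ ∀ (n : ℤ), (d : ℤ) ∣ n →
      ∀ (L : X.Modules)
        (lam : ∀ (V : Y.Opens) (hV : IsAffineOpen V),
          L ⟶ (Scheme.Modules.pushforward (RelProj.emb q chart V hV)).obj (GrTwist.twist (𝒮.deg V hV) n)),
        RelProj.IsRelTwist 𝒮 q chart n L lam → PicF.IsInvertible (L.restrict U.ι) := by
  obtain ⟨d, hd, hcov⟩ := exists_dvd_cover 𝒮 q chart U hU
  refine ⟨d, hd, fun n hn L lam hL => fun x => ?_⟩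
  obtain ⟨V, e, f, y, hed, hf, hfy, hy⟩ := hcov x.1 x.2
  obtain ⟨k, rfl⟩ : (e : ℤ) ∣ n := (Int.natCast_dvd_natCast.2 hed).trans hn
  let j := RelProj.emb q chart V.1 V.2
  have hrange : j.opensRange = q ⁻¹ᵁ V.1 := by
    change ((chart V.1 V.2).inv ≫ (q ⁻¹ᵁ V.1).ι).opensRange = q ⁻¹ᵁ V.1
    rw [Scheme.Hom.opensRange_comp_of_isIso, Scheme.Opens.opensRange_ι]
  obtain ⟨i⟩ := TwistInv.nonempty_restrict_iso j (lam V.1 V.2)
    (fun W hW => hL.bijective V.1 V.2 W (hrange ▸ hW))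
  let D := Proj.basicOpen (𝒮.deg V.1 V.2) f ⊓ j ⁻¹ᵁ U
  obtain ⟨eD⟩ := GrTilde.Invertible.twist_trivial_basicOpen hf k (U := D) inf_le_left
  have eD' : (GrTwist.twist (𝒮.deg V.1 V.2) ((e : ℤ) * k)).restrict D.ι ≅ Coh.structureModule (D : Scheme.{u}) := by
    rw [mul_comm]; exact eD
  let g : (D : Scheme.{u}) ⟶ (U : Scheme.{u}) := IsOpenImmersion.lift U.ι (D.ι ≫ j) (by
    rintro _ ⟨z, rfl⟩
    exact ⟨⟨_, z.2.2⟩, rfl⟩)
  have hg : g ≫ U.ι = D.ι ≫ j := IsOpenImmersion.lift_fac _ _ _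
  haveI : IsOpenImmersion (g ≫ U.ι) := hg ▸ inferInstance
  haveI : IsOpenImmersion g := IsOpenImmersion.of_comp g U.ι
  refine ⟨g.opensRange, ⟨⟨y, hfy, show j y ∈ U by rw [show j y = x.1 from hy]; exact x.2⟩, Subtype.ext ?_⟩, ?_⟩
  · exact (congr($hg _)).trans hy
  · exact TwistInv.nonempty_restrict_iso_unit g
      (((Scheme.Modules.restrictFunctorComp g U.ι).app L).symm ≪≫
        (Scheme.Modules.restrictFunctorCongr hg).app L ≪≫
        (Scheme.Modules.restrictFunctorComp D.ι j).app L ≪≫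
        (Scheme.Modules.restrictFunctor D.ι).mapIso i ≪≫ eD') _ (by rw [Scheme.Opens.opensRange_ι])

end

end Groth.Agent.H81.RelProj.TwistCompact
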