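import Groth.Agent.H81.RelProj.RelPairing
import Groth.Agent.H81.RelProj.TwistCompact

/-!
# Tensor products of twisting sheaves on a relative Proj
-/

set_option autoImplicit false
universe u

open CategoryTheory AlgebraicGeometry TopologicalSpace Opposite
open scoped HomogeneousIdeal

namespace Groth.Agent.H81.RelProj.RelTensor

open Groth.Agent.Lib.TensorMod.Dual (rs rs_self rs_rs rf rs_smul)
open Groth.Agent.H81.RelProj.GrTilde.Basic (ofFun ofFun_injective ofFun_surjective)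

noncomputable section

set_option synthInstance.maxHeartbeats 400000

section Generic

variable {A σ : Type u} [CommRing A] [SetLike σ A] [AddSubgroupClass σ A] {𝒜 : ℕ → σ} [GradedRing 𝒜]
  {B σ' : Type u} [CommRing B] [SetLike σ' B] [AddSubgroupClass σ' B] {ℬ : ℕ → σ'} [GradedRing ℬ]

/-- Functions as sections of the direct image of `A(0)~`. -/
def unitTo {P : Scheme.{u}} (e : Proj 𝒜 ⟶ P) :
    Coh.structureModule P ⟶ (Scheme.Modules.pushforward e).obj (GrMod.tilde 𝒜 𝒜 0) :=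
  Lib.ProjTilde.Hom.homMk
    (fun W => AddMonoidHom.mk' (fun r : Γ(P, W) => ofFun (e.app W r))
      fun (a b : Γ(P, W)) => GrTilde.Frac.sect_ext (U := e ⁻¹ᵁ W) fun x => by
        refine (congrArg (fun q : GrTwist.O (𝒜 := 𝒜) (op (e ⁻¹ᵁ W)) => (q.1 x).val) (map_add (e.app W).hom a b)).trans ?_
        exact HomogeneousLocalization.val_add _ _)
    (fun W r m => GrTilde.Frac.sect_ext (U := e ⁻¹ᵁ W) fun x => by
        let m' : Γ(P, W) := m
        refine (congrArg (fun q : GrTwist.O (𝒜 := 𝒜) (op (e ⁻¹ᵁ W)) => (q.1 x).val) (map_mul (e.app W).hom r m')).trans ?_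
        exact HomogeneousLocalization.val_mul _ _)
    (fun W W' h m => by
      refine GrTilde.Frac.sect_ext (U := e ⁻¹ᵁ W') fun x => ?_
      exact congrArg (fun q : GrTwist.O (𝒜 := 𝒜) (op (e ⁻¹ᵁ W')) => (q.1 x).val)
        (congr($(e.naturality (homOfLE h).op).hom (show Γ(P, W) from m))))

theorem unitTo_bijective {P : Scheme.{u}} (e : Proj 𝒜 ⟶ P) [IsOpenImmersion e] (W : P.Opens)
    (hW : W ≤ e.opensRange) : Function.Bijective ((unitTo e).app W) := by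
  haveI := e.isIso_app W hW
  change Function.Bijective (ofFun (𝒜 := 𝒜) (U := e ⁻¹ᵁ W) ∘ ⇑(e.app W))
  exact Function.Bijective.comp ⟨ofFun_injective, ofFun_surjective⟩
    ((ConcreteCategory.isIso_iff_bijective (e.app W)).1 inferInstance)

theorem unitTo_compat {P : Scheme.{u}} (ψ : 𝒜 →+*ᵍ ℬ) (hψ : ℬ₊ ≤ (𝒜₊).map ψ) (v : A →ₛₗ[ψ.toRingHom] B)
    (hv : ∀ a, v a = ψ a) (eU : Proj 𝒜 ⟶ P) (eD : Proj ℬ ⟶ P) (he : Proj.map ψ hψ ≫ eU = eD) (W : P.Opens)
    (s : Γ(Coh.structureModule P, W)) (y : ProjectiveSpectrum ℬ) (hy : eD.base y ∈ W)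
    (hy' : eU.base (ProjectiveSpectrum.comap ψ hψ y) ∈ W) :
    GrMod.val (V := eD ⁻¹ᵁ W) ((unitTo eD).app W s) ⟨y, hy⟩ =
      GrMod.locModMap ψ hψ v y (GrMod.val (V := eU ⁻¹ᵁ W) ((unitTo eU).app W s) ⟨_, hy'⟩) := by
  let s' : Γ(P, W) := s
  change ((eD.app W s' : GrTwist.O (𝒜 := ℬ) (op (eD ⁻¹ᵁ W))).1 ⟨y, hy⟩).val =
    GrMod.locModMap ψ hψ v y ((eU.app W s' : GrTwist.O (𝒜 := 𝒜) (op (eU ⁻¹ᵁ W))).1 ⟨_, hy'⟩).val
  rw [RelTilde.app_eq ψ hψ eU eD he W s', GrTwist.comapStructureSheaf_apply,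
    HomogeneousLocalization.val_localRingHom]
  have key : ∀ q : GrTwist.Loc 𝒜 (ProjectiveSpectrum.comap ψ hψ y),
      GrMod.locModMap ψ hψ v y q = GrTwist.locMap ψ hψ y q := by
    intro q
    induction q using Localization.induction_on with
    | H p =>
      obtain ⟨a, t⟩ := p
      refine Eq.trans ?_ (GrTwist.locMap_mk ψ hψ y a t).symm
      change LocalizedModule.mk (v a) _ = _
      rw [hv]
      rfl
  exact (key _).symm

end Generic

variable {Y P : Scheme.{u}} {𝒮 : RelProj.QCGrAlg Y} {p : P ⟶ Y}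
  {chart : ∀ (U : Y.Opens) (hU : IsAffineOpen U), (((p ⁻¹ᵁ U : P.Opens) : Scheme.{u}) ≅ Proj (𝒮.deg U hU))}

/-- The identification of the structure sheaf with `O(0)`. -/
def lamUnit (p : P ⟶ Y)
    (chart : ∀ (U : Y.Opens) (hU : IsAffineOpen U), (((p ⁻¹ᵁ U : P.Opens) : Scheme.{u}) ≅ Proj (𝒮.deg U hU)))
    (U : Y.Opens) (hU : IsAffineOpen U) :
    Coh.structureModule P ⟶ (Scheme.Modules.pushforward (RelProj.emb p chart U hU)).obj
      (GrMod.tilde (𝒮.deg U hU) ((RelTilde.selfMod 𝒮).deg U hU) 0) :=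
  unitTo (RelProj.emb p chart U hU)

theorem isRelTilde_unit (hP : RelProj.IsRelProj 𝒮 p chart) :
    RelProj.IsRelTilde 𝒮 p chart (RelTilde.selfMod 𝒮) 0 (Coh.structureModule P) (lamUnit p chart) :=
  ⟨fun U hU W hW => unitTo_bijective _ W (hW.trans (RelTilde.opensRange_emb p chart U hU).ge),
    fun U hU r W s y hy hy' => unitTo_compat _ _ ((RelTilde.selfMod 𝒮).res hU (hU.basicOpen r) (Y.basicOpen_le r))
      (fun _ => rfl) _ _ (RelProj.map_res_emb hP U hU r) W s y hy hy'⟩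

theorem exists_frac (hgen : 𝒮.IsGenDegOne) (x : P) (n : ℤ) :
    ∃ (U : Y.affineOpens) (i j : ℕ) (c e : 𝒮.presheaf.obj (op U.1)) (y : ProjectiveSpectrum (𝒮.deg U.1 U.2)),
      c ∈ 𝒮.deg U.1 U.2 i ∧ e ∈ 𝒮.deg U.1 U.2 j ∧ (i : ℤ) = j + n ∧ c * e ∉ y.asHomogeneousIdeal ∧
        RelProj.emb p chart U.1 U.2 y = x := by
  obtain ⟨U, hU, hxU, -⟩ := exists_isAffineOpen_mem_and_subset (U := ⊤) (x := p x) trivial
  obtain ⟨y, hy⟩ : x ∈ (RelProj.emb p chart U hU).opensRange := by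
    rw [RelTilde.opensRange_emb]; exact hxU
  obtain ⟨f, hf, hfy⟩ := TwistInv.irrelevant_le_span (𝒮.deg U hU) (hgen U hU) y
  refine ⟨⟨U, hU⟩, n.toNat • 1, (-n).toNat • 1, f ^ n.toNat, f ^ (-n).toNat, y,
    SetLike.pow_mem_graded _ hf, SetLike.pow_mem_graded _ hf, by simp only [smul_eq_mul, mul_one]; omega, ?_, hy⟩
  rw [← pow_add]
  exact fun h => hfy (y.isPrime.mem_of_pow_mem _ h)

theorem tilde_tensor_twist (hP : RelProj.IsRelProj 𝒮 p chart) (hgen : 𝒮.IsGenDegOne) {ℳ : RelProj.GrModule 𝒮}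
    (hloc : RelTilde.Loc ℳ) {m n k : ℤ} (hk : k = m + n) {F H L : P.Modules}
    {lamF : ∀ (U : Y.Opens) (hU : IsAffineOpen U),
      F ⟶ (Scheme.Modules.pushforward (RelProj.emb p chart U hU)).obj (GrMod.tilde (𝒮.deg U hU) (ℳ.deg U hU) m)}
    {lamH : ∀ (U : Y.Opens) (hU : IsAffineOpen U),
      H ⟶ (Scheme.Modules.pushforward (RelProj.emb p chart U hU)).obj (GrMod.tilde (𝒮.deg U hU) (ℳ.deg U hU) k)}
    {lamL : ∀ (U : Y.Opens) (hU : IsAffineOpen U),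
      L ⟶ (Scheme.Modules.pushforward (RelProj.emb p chart U hU)).obj (GrTwist.twist (𝒮.deg U hU) n)}
    (hF : RelProj.IsRelTilde 𝒮 p chart ℳ m F lamF) (hL : RelProj.IsRelTwist 𝒮 p chart n L lamL)
    (hH : RelProj.IsRelTilde 𝒮 p chart ℳ k H lamH) : Nonempty (CohB1.tensorMod F L ≅ H) :=
  ⟨Lib.ProjTilde.Pairing.iso (RelPairing.isPairing hP hk hF hL hH hloc) fun x => by
    obtain ⟨U, i, j, c, e, y, hc, he, hn, hy, hyx⟩ := exists_frac (p := p) (chart := chart) hgen x n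
    exact RelPairing.exists_gen hP hk hF hL hH hloc hc he hn hy hyx⟩

theorem twist_tensor_twist (hP : RelProj.IsRelProj 𝒮 p chart) (hgen : 𝒮.IsGenDegOne) {m n : ℤ} {L L' L'' : P.Modules}
    {lam : ∀ (U : Y.Opens) (hU : IsAffineOpen U),
      L ⟶ (Scheme.Modules.pushforward (RelProj.emb p chart U hU)).obj (GrTwist.twist (𝒮.deg U hU) m)}
    {lam' : ∀ (U : Y.Opens) (hU : IsAffineOpen U),
      L' ⟶ (Scheme.Modules.pushforward (RelProj.emb p chart U hU)).obj (GrTwist.twist (𝒮.deg U hU) n)}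
    {lam'' : ∀ (U : Y.Opens) (hU : IsAffineOpen U),
      L'' ⟶ (Scheme.Modules.pushforward (RelProj.emb p chart U hU)).obj (GrTwist.twist (𝒮.deg U hU) (m + n))}
    (hL : RelProj.IsRelTwist 𝒮 p chart m L lam) (hL' : RelProj.IsRelTwist 𝒮 p chart n L' lam')
    (hL'' : RelProj.IsRelTwist 𝒮 p chart (m + n) L'' lam'') : Nonempty (CohB1.tensorMod L L' ≅ L'') :=
  tilde_tensor_twist hP hgen (RelTilde.loc_selfMod (𝒮 := 𝒮)) rfl (TwistTilde.isRelTilde hL) hL'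
    (TwistTilde.isRelTilde hL'')

theorem isPairing_restrict {X : Scheme.{u}} {M N H : X.Modules}
    {μ : ∀ W : X.Opens, Γ(M, W) → Γ(N, W) → Γ(H, W)} (hμ : Lib.ProjTilde.Pairing.IsPairing μ) (U : X.Opens) :
    Lib.ProjTilde.Pairing.IsPairing (M := M.restrict U.ι) (N := N.restrict U.ι) (H := H.restrict U.ι)
      (fun W => μ (U.ι ''ᵁ W)) where
  add_left W m m' n := hμ.add_left (U.ι ''ᵁ W) m m' n
  smul_left W r m n := hμ.smul_left (U.ι ''ᵁ W) ((U.ι.appIso W).inv r) m n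
  add_right W m n n' := hμ.add_right (U.ι ''ᵁ W) m n n'
  smul_right W r m n := hμ.smul_right (U.ι ''ᵁ W) ((U.ι.appIso W).inv r) m n
  nat W W' h m n := hμ.nat _ _ (U.ι.image_mono h) m n

theorem exists_inverse (hP : RelProj.IsRelProj 𝒮 p chart) (U : P.Opens) (hU : IsCompact (U : Set P)) :
    ∃ d : ℕ, 0 < d ∧ ∀ (n : ℤ), (d : ℤ) ∣ n →
      ∀ (L : P.Modules)
        (lam : ∀ (V : Y.Opens) (hV : IsAffineOpen V),
          L ⟶ (Scheme.Modules.pushforward (RelProj.emb p chart V hV)).obj (GrTwist.twist (𝒮.deg V hV) n)),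
        RelProj.IsRelTwist 𝒮 p chart n L lam →
      ∀ (L' : P.Modules)
        (lam' : ∀ (V : Y.Opens) (hV : IsAffineOpen V),
          L' ⟶ (Scheme.Modules.pushforward (RelProj.emb p chart V hV)).obj (GrTwist.twist (𝒮.deg V hV) (-n))),
        RelProj.IsRelTwist 𝒮 p chart (-n) L' lam' →
          Nonempty (CohB1.tensorMod (L.restrict U.ι) (L'.restrict U.ι) ≅ Coh.structureModule (U : Scheme.{u})) := by
  obtain ⟨d, hd, hcov⟩ := TwistCompact.exists_dvd_cover 𝒮 p chart U hU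
  refine ⟨d, hd, fun n hn L lam hL L' lam' hL' => ?_⟩
  have hk : (0 : ℤ) = n + -n := (add_neg_cancel n).symm
  have hloc := RelTilde.loc_selfMod (𝒮 := 𝒮)
  have hμ := isPairing_restrict
    (RelPairing.isPairing hP hk (TwistTilde.isRelTilde hL) hL' (isRelTilde_unit hP) hloc) U
  refine ⟨Lib.ProjTilde.Pairing.iso hμ (fun x => ?_) ≪≫ Scheme.Modules.restrictUnitIso U.ι⟩
  obtain ⟨V, e, f, y, hed, hf, hfy, hy⟩ := hcov x.1 x.2
  obtain ⟨k, hk'⟩ : (e : ℤ) ∣ -n := (Int.dvd_neg).2 ((Int.natCast_dvd_natCast.2 hed).trans hn)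
  have h0 : k = (k.toNat : ℤ) - ((-k).toNat : ℤ) := by omega
  obtain ⟨O, ε, hxO, hO⟩ := RelPairing.exists_gen (k := 0) hP hk (TwistTilde.isRelTilde hL) hL' (isRelTilde_unit hP)
    hloc (c := f ^ k.toNat) (e := f ^ (-k).toNat) (SetLike.pow_mem_graded _ hf) (SetLike.pow_mem_graded _ hf)
    (by rw [hk']; simp only [smul_eq_mul]; push_cast; linear_combination (e : ℤ) * -h0)
    (y := y) (fun h => hfy (y.isPrime.mem_of_pow_mem _ (pow_add f _ _ ▸ h))) hy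
  have hle : U.ι ''ᵁ (U.ι ⁻¹ᵁ O) ≤ O := U.ι.image_preimage_le O
  refine ⟨U.ι ⁻¹ᵁ O, rs L' hle ε, hxO, fun W hW => ?_⟩
  have hWO : U.ι ''ᵁ W ≤ O := (U.ι.image_mono hW).trans hle
  have e1 : rs L' hWO ε = rs L' (U.ι.image_mono hW) (rs L' hle ε) := (rs_rs L' hle (U.ι.image_mono hW) ε).symm
  obtain ⟨h1, h2⟩ := hO _ hWO
  refine ⟨fun l => ?_, ?_⟩
  · obtain ⟨a, ha⟩ := h1 l
    obtain ⟨b, hb⟩ := ((ConcreteCategory.isIso_iff_bijective (U.ι.appIso W).inv).1 inferInstance).2 a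
    refine ⟨b, ?_⟩
    rw [← hb, e1] at ha
    exact ha
  · rw [e1] at h2
    exact h2

end

end Groth.Agent.H81.RelProj.RelTensor
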