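import Groth.Agent.H81.RelProj.RelTilde

/-!
# The twisting sheaves of a relative Proj
-/

set_option autoImplicit false
universe u

open CategoryTheory AlgebraicGeometry TopologicalSpace Opposite
open scoped HomogeneousIdeal

namespace Groth.Agent.H81.RelProj.RelTwist

noncomputable section

variable {Y P : Scheme.{u}} {𝒮 : RelProj.QCGrAlg Y} {p : P ⟶ Y}
  {chart : ∀ (U : Y.Opens) (hU : IsAffineOpen U), (((p ⁻¹ᵁ U : P.Opens) : Scheme.{u}) ≅ Proj (𝒮.deg U hU))}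

theorem transfer {A σ : Type u} [CommRing A] [SetLike σ A] [AddSubgroupClass σ A] {𝒜 : ℕ → σ} [GradedRing 𝒜]
    {B σ' : Type u} [CommRing B] [SetLike σ' B] [AddSubgroupClass σ' B] {ℬ : ℕ → σ'} [GradedRing ℬ] {m : ℤ}
    (ψ : 𝒜 →+*ᵍ ℬ) (hψ : ℬ₊ ≤ (𝒜₊).map ψ) (v : A →ₛₗ[ψ.toRingHom] B) (hv : ∀ a, v a = ψ a)
    {V₁ : (Proj 𝒜).Opens} {V₂ : (Proj ℬ).Opens} (t₁ : Γ(GrTwist.twist 𝒜 m, V₁)) (t₂ : Γ(GrTwist.twist ℬ m, V₂))
    (y : ProjectiveSpectrum ℬ) (hy : y ∈ V₂) (hy' : ProjectiveSpectrum.comap ψ hψ y ∈ V₁) :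
    GrTwist.val t₂ ⟨y, hy⟩ = GrTwist.locMap ψ hψ y (GrTwist.val t₁ ⟨_, hy'⟩) ↔
      (GrMod.val (𝒜 := ℬ) (ℳ := ℬ) (n := m) (show Γ(GrMod.tilde ℬ ℬ m, V₂) from t₂) ⟨y, hy⟩ : GrMod.LocMod ℬ (M := B) y) =
        GrMod.locModMap ψ hψ v y (GrMod.val (𝒜 := 𝒜) (ℳ := 𝒜) (n := m) (show Γ(GrMod.tilde 𝒜 𝒜 m, V₁) from t₁) ⟨_, hy'⟩) := by
  have key : ∀ q : GrTwist.Loc 𝒜 (ProjectiveSpectrum.comap ψ hψ y),
      GrMod.locModMap ψ hψ v y q = GrTwist.locMap ψ hψ y q := by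
    intro q
    induction q using Localization.induction_on with
    | H p =>
      obtain ⟨a, s⟩ := p
      refine Eq.trans ?_ (GrTwist.locMap_mk ψ hψ y a s).symm
      change LocalizedModule.mk (v a) _ = _
      rw [hv]
      rfl
  exact ⟨fun h => h.trans (key _).symm, fun h => h.trans (key _)⟩

variable {n : ℤ} {L : P.Modules}
  {lam : ∀ (U : Y.Opens) (hU : IsAffineOpen U),
    L ⟶ (Scheme.Modules.pushforward (RelProj.emb p chart U hU)).obj (GrTwist.twist (𝒮.deg U hU) n)}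

theorem isQCoh (hL : RelProj.IsRelTwist 𝒮 p chart n L lam) : Coh.IsQCoh L := by
  refine Lib.QCoh.Localizing.isQCoh_of_forall_exists_localizes fun x => ?_
  obtain ⟨U, hU, hxU, -⟩ := exists_isAffineOpen_mem_and_subset (U := ⊤) (x := p x) trivial
  obtain ⟨V, hV, hxV, hVU⟩ := exists_isAffineOpen_mem_and_subset (U := p ⁻¹ᵁ U) (x := x) hxU
  refine ⟨V, hV, hxV, fun f => RelTilde.localizes_of_bijective (lam U hU)
    (fun W hW => hL.bijective U hU W (hW.trans hVU)) f (RelTilde.localizes_pushforward _ _ f ?_)⟩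
  haveI : (GrTwist.twist (𝒮.deg U hU) n).IsQuasicoherent := GrTilde.QCoh.twist_isQCoh n
  exact Lib.QCoh.Localizing.localizes_of_isAffineOpen _
    (hV.preimage_of_isOpenImmersion _ (by rw [RelTilde.opensRange_emb]; exact hVU)) _

theorem exists_isRelTwist (hP : RelProj.IsRelProj 𝒮 p chart) (n : ℤ) :
    ∃ (L : P.Modules) (lam : ∀ (U : Y.Opens) (hU : IsAffineOpen U),
      L ⟶ (Scheme.Modules.pushforward (RelProj.emb p chart U hU)).obj (GrTwist.twist (𝒮.deg U hU) n)),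
      RelProj.IsRelTwist 𝒮 p chart n L lam := by
  obtain ⟨L, lam, h⟩ := RelTilde.exists_isRelTilde (n := n) hP (RelTilde.loc_selfMod (𝒮 := 𝒮))
  refine ⟨L, lam, ⟨h.bijective, ?_⟩⟩
  intro U hU r W s y hy hy'
  exact (transfer _ _ ((RelTilde.selfMod 𝒮).res hU (hU.basicOpen r) (Y.basicOpen_le r)) (fun _ => rfl) _ _ y hy hy').2
    (h.compat U hU r W s y hy hy')

end

end Groth.Agent.H81.RelProj.RelTwist
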