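import Groth.Agent.H81.RelProj.RelComap
import Groth.Agent.H81.RelProj.TwistTilde

/-!
# The comparison of twisting sheaves along an induced morphism of relative Proj's
-/

set_option autoImplicit false
universe u

open CategoryTheory AlgebraicGeometry TopologicalSpace Opposite
open scoped HomogeneousIdeal

namespace Groth.Agent.H81.RelProj.RelTwistComap

noncomputable section

variable {Y PA PB : Scheme.{u}} {𝒜 ℬ : RelProj.QCGrAlg Y} (φ : 𝒜.toQCAlg ⟶ ℬ.toQCAlg) (hφ : RelProj.IsGradedHom φ)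
  (hirr : ∀ (U : Y.Opens) (hU : IsAffineOpen U),
    (ℬ.deg U hU)₊ ≤ ((𝒜.deg U hU)₊).map (RelProj.gradedHomAt φ hφ U hU))
  {pA : PA ⟶ Y} {pB : PB ⟶ Y}
  {chartA : ∀ (U : Y.Opens) (hU : IsAffineOpen U), (((pA ⁻¹ᵁ U : PA.Opens) : Scheme.{u}) ≅ Proj (𝒜.deg U hU))}
  {chartB : ∀ (U : Y.Opens) (hU : IsAffineOpen U), (((pB ⁻¹ᵁ U : PB.Opens) : Scheme.{u}) ≅ Proj (ℬ.deg U hU))}

/-- `φ` as a semilinear map of the algebras as modules over themselves. -/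
def v (U : Y.Opens) (hU : IsAffineOpen U) :
    (RelTilde.selfMod 𝒜).mod.val.obj (op U) →ₛₗ[(RelProj.gradedHomAt φ hφ U hU).toRingHom]
      (RelTilde.selfMod ℬ).mod.val.obj (op U) where
  toFun a := RelProj.gradedHomAt φ hφ U hU a
  map_add' a b := map_add (RelProj.gradedHomAt φ hφ U hU) a b
  map_smul' a b := map_mul (RelProj.gradedHomAt φ hφ U hU) a b

theorem hv (U : Y.Opens) (hU : IsAffineOpen U) (i : ℕ) (m : (RelTilde.selfMod 𝒜).mod.val.obj (op U))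
    (hm : m ∈ (RelTilde.selfMod 𝒜).deg U hU i) : v φ hφ U hU m ∈ (RelTilde.selfMod ℬ).deg U hU i :=
  GradedRingHom.map_mem (RelProj.gradedHomAt φ hφ U hU) hm

variable {φ hφ}

theorem hnat {D U : Y.Opens} (hU : IsAffineOpen U) (hD : IsAffineOpen D) (i : D ≤ U)
    (m : (RelTilde.selfMod 𝒜).mod.val.obj (op U)) :
    v φ hφ D hD ((RelTilde.selfMod 𝒜).res hU hD i m) = (RelTilde.selfMod ℬ).res hU hD i (v φ hφ U hU m) :=
  RelComap.gradedHomAt_res φ hφ hU hD i m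

variable {n : ℤ}

theorem existsUnique (hA : RelProj.IsRelProj 𝒜 pA chartA) (hB : RelProj.IsRelProj ℬ pB chartB)
    (h : PB ⟶ PA) (hh : RelProj.IsRelProjMap φ hφ hirr chartA chartB h) {LA : PA.Modules}
    {lamA : ∀ (U : Y.Opens) (hU : IsAffineOpen U),
      LA ⟶ (Scheme.Modules.pushforward (RelProj.emb pA chartA U hU)).obj (GrTwist.twist (𝒜.deg U hU) n)}
    (hLA : RelProj.IsRelTwist 𝒜 pA chartA n LA lamA) {LB : PB.Modules}
    {lamB : ∀ (U : Y.Opens) (hU : IsAffineOpen U),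
      LB ⟶ (Scheme.Modules.pushforward (RelProj.emb pB chartB U hU)).obj (GrTwist.twist (ℬ.deg U hU) n)}
    (hLB : RelProj.IsRelTwist ℬ pB chartB n LB lamB) :
    ∃! θ : LA ⟶ (Scheme.Modules.pushforward h).obj LB,
      ∀ (U : Y.Opens) (hU : IsAffineOpen U) (W : PA.Opens) (s : Γ(LA, W))
        (y : ProjectiveSpectrum (ℬ.deg U hU))
        (hy : (RelProj.emb pB chartB U hU).base y ∈ h ⁻¹ᵁ W)
        (hy' : (RelProj.emb pA chartA U hU).base
          (ProjectiveSpectrum.comap (RelProj.gradedHomAt φ hφ U hU) (hirr U hU) y) ∈ W),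
        GrTwist.val (V := RelProj.emb pB chartB U hU ⁻¹ᵁ (h ⁻¹ᵁ W)) ((lamB U hU).app (h ⁻¹ᵁ W) (θ.app W s)) ⟨y, hy⟩ =
          GrTwist.locMap (RelProj.gradedHomAt φ hφ U hU) (hirr U hU) y
            (GrTwist.val (V := RelProj.emb pA chartA U hU ⁻¹ᵁ W) ((lamA U hU).app W s) ⟨_, hy'⟩) := by
  obtain ⟨θ, hθ, hu⟩ := RelComap.existsUnique_comap (ℳ := RelTilde.selfMod 𝒜) (𝒩 := RelTilde.selfMod ℬ)
    hirr (v φ hφ) (hv φ hφ) n h hA hB hh hnat RelTilde.loc_selfMod (TwistTilde.isRelTilde hLA)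
    (TwistTilde.isRelTilde hLB)
  have key := fun (θ' : LA ⟶ (Scheme.Modules.pushforward h).obj LB) (U : Y.affineOpens) =>
    RelComap.cond_iff (ℳ := RelTilde.selfMod 𝒜) (𝒩 := RelTilde.selfMod ℬ) hirr (v φ hφ) (hv φ hφ) n h hh
      (TwistTilde.lamT lamA) (TwistTilde.lamT lamB) θ' U
  refine ⟨θ, fun U hU W s y hy hy' => ?_, fun θ' hθ' => hu θ' fun U => (key θ' U).2 fun W s y hy hy' => ?_⟩
  · exact (TwistTilde.transfer_iff _ _ (v φ hφ U hU) (fun _ => rfl) _ _ (lamA U hU) (lamB U hU) W (h ⁻¹ᵁ W) s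
      (θ.app W s) y hy hy').2 ((key θ ⟨U, hU⟩).1 (hθ ⟨U, hU⟩) W s y hy hy')
  · exact (TwistTilde.transfer_iff _ _ (v φ hφ U.1 U.2) (fun _ => rfl) _ _ (lamA U.1 U.2) (lamB U.1 U.2) W
      (h ⁻¹ᵁ W) s (θ'.app W s) y hy hy').1 (hθ' U.1 U.2 W s y hy hy')

end

end Groth.Agent.H81.RelProj.RelTwistComap
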