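import Groth.Agent.H81.RelProj.DegPow
import Groth.Agent.H81.RelProj.TwistInv
import Groth.Agent.H58VA.RelVA
import Groth.Agent.H58VA.RelLocus
import Groth.Agent.Lib.Ample.RelAmple

/-!
# Relative ampleness of `O(d)` on the relative homogeneous spectrum of an algebra of finite type
-/

set_option autoImplicit false
universe u

open CategoryTheory AlgebraicGeometry TopologicalSpace Opposite
open scoped HomogeneousIdeal

namespace Groth.Agent.H81.RelProj.TwistAmple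

noncomputable section

theorem exists_homogeneous_cover {A : Type u} [CommRing A] (𝒜 : ℕ → AddSubgroup A) [GradedRing 𝒜]
    (hft : letI := DegPow.intGraded 𝒜; Algebra.FiniteType (DegPow.intDeg 𝒜 0) A) :
    ∃ d : ℕ, 0 < d ∧ ∃ s : Finset A, (∀ g ∈ s, ∃ e, e ≠ 0 ∧ e ∣ d ∧ g ∈ 𝒜 e) ∧
      ∀ x : ProjectiveSpectrum 𝒜, ∃ g ∈ s, g ∉ x.asHomogeneousIdeal := by
  classical
  letI := DegPow.intGraded 𝒜
  haveI := hft
  obtain ⟨s, hs, hdeg⟩ := GradedAlgebra.exists_finset_adjoin_eq_top_and_homogeneous_ne_zero (DegPow.intDeg 𝒜)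
  have hdeg' : ∀ g : s, ∃ e, e ≠ 0 ∧ (g : A) ∈ DegPow.intDeg 𝒜 e := fun g => hdeg g.1 g.2
  choose e he0 he using hdeg'
  refine ⟨∏ g, e g, Finset.prod_pos fun g _ => Nat.pos_of_ne_zero (he0 g), s, fun g hg =>
    ⟨e ⟨g, hg⟩, he0 _, Finset.dvd_prod_of_mem e (Finset.mem_univ (⟨g, hg⟩ : s)), he _⟩, fun x => ?_⟩
  by_contra hc
  push Not at hc
  let I := x.asHomogeneousIdeal.toIdeal
  have key : ∀ a : A, a - (DirectSum.decompose (DegPow.intDeg 𝒜) a 0 : A) ∈ I := by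
    intro a
    have ha : a ∈ Algebra.adjoin (DegPow.intDeg 𝒜 0) (s : Set A) := by rw [hs]; trivial
    induction ha using Algebra.adjoin_induction with
    | mem g hg =>
      rw [DirectSum.decompose_of_mem_ne _ (he ⟨g, hg⟩) (he0 ⟨g, hg⟩), sub_zero]
      exact hc g hg
    | algebraMap r =>
      have e : algebraMap (DegPow.intDeg 𝒜 0) A r = (r : A) := rfl
      rw [e, DirectSum.decompose_of_mem_same _ r.2, sub_self]
      exact zero_mem _
    | add u v _ _ hu hv =>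
      rw [DirectSum.decompose_add, DirectSum.add_apply, Submodule.coe_add, add_sub_add_comm]
      exact add_mem hu hv
    | mul u v _ _ hu hv =>
      have e : ((DirectSum.decompose (DegPow.intDeg 𝒜) (u * v) 0 : DegPow.intDeg 𝒜 0) : A) =
          (DirectSum.decompose (DegPow.intDeg 𝒜) u 0 : A) * (DirectSum.decompose (DegPow.intDeg 𝒜) v 0 : A) :=
        map_mul (GradedRing.projZeroRingHom (DegPow.intDeg 𝒜)) u v
      rw [e, show u * v - (DirectSum.decompose (DegPow.intDeg 𝒜) u 0 : A) * (DirectSum.decompose (DegPow.intDeg 𝒜) v 0 : A) =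
        (u - (DirectSum.decompose (DegPow.intDeg 𝒜) u 0 : A)) * v +
          (DirectSum.decompose (DegPow.intDeg 𝒜) u 0 : A) * (v - (DirectSum.decompose (DegPow.intDeg 𝒜) v 0 : A)) by ring]
      exact add_mem (Ideal.mul_mem_right _ _ hu) (Ideal.mul_mem_left _ _ hv)
  refine x.not_irrelevant_le fun a ha => ?_
  have ha0 : (DirectSum.decompose 𝒜 a 0 : A) = 0 := (HomogeneousIdeal.mem_irrelevant_iff 𝒜 a).1 ha
  have h1 := key a
  have e : (DirectSum.decompose (DegPow.intDeg 𝒜) a 0 : A) = (DirectSum.decompose 𝒜 a 0 : A) := rfl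
  rw [e, ha0, sub_zero] at h1
  exact h1

theorem compactSpace_proj {A : Type u} [CommRing A] (𝒜 : ℕ → AddSubgroup A) [GradedRing 𝒜]
    (s : Finset A) (hs : ∀ g ∈ s, ∃ e, e ≠ 0 ∧ g ∈ 𝒜 e)
    (hcov : ∀ x : ProjectiveSpectrum 𝒜, ∃ g ∈ s, g ∉ x.asHomogeneousIdeal) : CompactSpace (Proj 𝒜) := by
  refine ⟨?_⟩
  have h : (Set.univ : Set (Proj 𝒜)) = ⋃ g ∈ s, (Proj.basicOpen 𝒜 g : Set (Proj 𝒜)) := by
    ext x
    simp only [Set.mem_univ, true_iff, Set.mem_iUnion]
    obtain ⟨g, hg, hx⟩ := hcov x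
    exact ⟨g, hg, hx⟩
  rw [h]
  refine s.finite_toSet.isCompact_biUnion fun g hg => ?_
  obtain ⟨e, he0, he⟩ := hs g hg
  exact (Proj.isAffineOpen_basicOpen 𝒜 g he (Nat.pos_of_ne_zero he0)).isCompact

variable {X P : Scheme.{u}} {S : Scheme.{u}} {𝒮 : RelProj.QCGrAlg S} {p : P ⟶ S}
  {chart : ∀ (U : S.Opens) (hU : IsAffineOpen U), (((p ⁻¹ᵁ U : P.Opens) : Scheme.{u}) ≅ Proj (𝒮.deg U hU))}

theorem isQuasiCompact (hft : ∀ (U : S.Opens) (hU : IsAffineOpen U), (𝒮.str.app (op U)).hom.FiniteType)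
    (hP : RelProj.IsRelProj 𝒮 p chart) : QuasiCompact p := by
  refine quasiCompact_iff_forall_isAffineOpen.2 fun U hU => ?_
  obtain ⟨d, -, s, hs, hcov⟩ := exists_homogeneous_cover (𝒮.deg U hU)
    (DegPow.finiteType_degZero (𝒮.deg U hU) (𝒮.str.app (op U)).hom (𝒮.str_mem U hU) (hft U hU))
  haveI := compactSpace_proj (𝒮.deg U hU) s (fun g hg => let ⟨e, h1, _, h3⟩ := hs g hg; ⟨e, h1, h3⟩) hcov
  haveI : CompactSpace (p ⁻¹ᵁ U : Scheme.{u}) := (chart U hU).hom.homeomorph.symm.compactSpace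
  exact isCompact_iff_compactSpace.2 ‹_›

/-- If elements of degree `d` cover the chart over `U`, then `O(d)` is ample over `U`. -/
theorem ampleOn_preimage {d : ℕ} (hd : 0 < d) {L : P.Modules}
    {lam : ∀ (U : S.Opens) (hU : IsAffineOpen U),
      L ⟶ (Scheme.Modules.pushforward (RelProj.emb p chart U hU)).obj (GrTwist.twist (𝒮.deg U hU) (d : ℤ))}
    (hL : RelProj.IsRelTwist 𝒮 p chart (d : ℤ) L lam) {U : S.Opens} (hU : IsAffineOpen U)
    [CompactSpace (Proj (𝒮.deg U hU))]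
    (hcov : ∀ x : ProjectiveSpectrum (𝒮.deg U hU), ∃ g ∈ 𝒮.deg U hU d, g ∉ x.asHomogeneousIdeal) :
    CohB1.IsAmple (L.restrict (p ⁻¹ᵁ U).ι) := by
  open Groth.Agent.Lib Groth.Agent.H58VA in
  let j := RelProj.emb p chart U hU
  obtain ⟨ε⟩ := TwistInv.nonempty_restrict_iso j (lam U hU) (fun W hW => hL.bijective U hU W
    ((RelLocus.opensRange_emb (p := p) (chart := chart) U hU) ▸ hW))
  have hM : PicF.IsInvertible (GrTwist.twist (𝒮.deg U hU) (d : ℤ)) := GrTwistOne.isInvertible_twist hcov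
  have hA : CohB1.IsAmple (GrTwist.twist (𝒮.deg U hU) (d : ℤ)) :=
    Ample.Pullback.isAmple_of_qAffAt hM fun y =>
      Ample.Pullback.QAffAt.of_affineAt (GrTwistOne.affineAt_twist hcov hd y)
  have hk := Ample.Pullback.isAmple_pullback (chart U hU).hom
    (Ample.Pullback.isQuasiAffine_of_isAffineHom (chart U hU).hom) hA
  have e : (chart U hU).hom ≫ j = (p ⁻¹ᵁ U).ι := by
    simp only [j, RelProj.emb, Iso.hom_inv_id_assoc]
  refine Ample.Pow.isAmple_of_iso ?_ hk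
  exact (Scheme.Modules.restrictFunctorIsoPullback (chart U hU).hom).symm.app _ ≪≫
    (Scheme.Modules.restrictFunctor (chart U hU).hom).mapIso ε.symm ≪≫
    ((Scheme.Modules.restrictFunctorComp (chart U hU).hom j).app L).symm ≪≫
    (Scheme.Modules.restrictFunctorCongr e).app L

/-- Over a quasi-compact base some `O(d)` is relatively ample. -/
theorem exists_isRelAmple [CompactSpace S]
    (hft : ∀ (U : S.Opens) (hU : IsAffineOpen U), (𝒮.str.app (op U)).hom.FiniteType)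
    (hP : RelProj.IsRelProj 𝒮 p chart) :
    ∃ d : ℕ, 0 < d ∧ ∀ (L : P.Modules)
      (lam : ∀ (U : S.Opens) (hU : IsAffineOpen U),
        L ⟶ (Scheme.Modules.pushforward (RelProj.emb p chart U hU)).obj (GrTwist.twist (𝒮.deg U hU) (d : ℤ))),
      RelProj.IsRelTwist 𝒮 p chart (d : ℤ) L lam → PicF.IsInvertible L ∧ RelAmple.IsRelAmple p L := by
  classical
  have hx : ∀ x : S, ∃ V : S.affineOpens, x ∈ V.1 := fun x => by
    obtain ⟨V, hV, hxV, -⟩ := exists_isAffineOpen_mem_and_subset (U := ⊤) (x := x) trivial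
    exact ⟨⟨V, hV⟩, hxV⟩
  choose V hV using hx
  obtain ⟨t, ht⟩ := isCompact_univ.elim_finite_subcover (fun x : S => ((V x).1 : Set S))
    (fun x => (V x).1.isOpen) (fun x _ => Set.mem_iUnion.2 ⟨x, hV x⟩)
  have hft' := fun x : S => DegPow.finiteType_degZero (𝒮.deg (V x).1 (V x).2) (𝒮.str.app (op (V x).1)).hom
    (𝒮.str_mem (V x).1 (V x).2) (hft (V x).1 (V x).2)
  choose e he s hs hcov using fun x : S => exists_homogeneous_cover (𝒮.deg (V x).1 (V x).2) (hft' x)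
  refine ⟨∏ x ∈ t, e x, Finset.prod_pos fun x _ => he x, fun L lam hL => ?_⟩
  haveI := isQuasiCompact hft hP
  have hU : ⨆ i : t, (V i).1 = ⊤ := by
    rw [eq_top_iff]
    intro x _
    obtain ⟨i, hi, hxi⟩ := Set.mem_iUnion₂.1 (ht (Set.mem_univ x))
    exact Opens.mem_iSup.2 ⟨⟨i, hi⟩, hxi⟩
  have h : RelAmple.IsRelAmple p L := by
    refine (Groth.Agent.Lib.Ample.RelAmple.isRelAmple_iff_of_openCover p (fun i : t => (V i).1) hU).2 fun i => ?_
    haveI : IsAffine ((V i).1 : Scheme.{u}) := (V i).2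
    refine (Groth.Agent.Lib.Ample.RelAmple.isRelAmple_iff_isAmple _).2 ?_
    haveI := compactSpace_proj (𝒮.deg (V i).1 (V i).2) (s i)
      (fun g hg => let ⟨k, h1, _, h3⟩ := hs i g hg; ⟨k, h1, h3⟩) (hcov i)
    refine ampleOn_preimage (Finset.prod_pos fun x _ => he x) hL (V i).2 fun x => ?_
    obtain ⟨g, hg, hgx⟩ := hcov i x
    obtain ⟨k, -, hk, hgk⟩ := hs i g hg
    obtain ⟨c, hc⟩ := hk.trans (Finset.dvd_prod_of_mem e i.2)
    refine ⟨g ^ c, ?_, fun hmem => hgx (x.isPrime.mem_of_pow_mem c hmem)⟩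
    rw [hc, mul_comm k c, ← smul_eq_mul]
    exact SetLike.pow_mem_graded c hgk
  exact ⟨Groth.Agent.Lib.Ample.RelAmple.isInvertible_of_isRelAmple h, h⟩

end

end Groth.Agent.H81.RelProj.TwistAmple
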