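import Groth.Agent.H81.RelProj.GrTilde.Finite
import Groth.Agent.H81.RelProj.RelTwist
import Groth.Agent.Lib.CohBasics.Affine
import Groth.Agent.Lib.ProjQ.Charts

/-!
# The twisting sheaves are of finite type when the algebra is
-/

set_option autoImplicit false
universe u

open CategoryTheory AlgebraicGeometry TopologicalSpace Opposite

namespace Groth.Agent.H81.RelProj.TwistCoh

open Groth.Agent.Lib

noncomputable section

theorem finite_of_bijective {X P : Scheme.{u}} (e : X ⟶ P) [IsOpenImmersion e] {F : P.Modules} {T : X.Modules}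
    (φ : F ⟶ (Scheme.Modules.pushforward e).obj T) (V : P.Opens) (hV : V ≤ e.opensRange)
    (hb : Function.Bijective (φ.app V)) (H : Module.Finite Γ(X, e ⁻¹ᵁ V) Γ(T, e ⁻¹ᵁ V)) :
    Module.Finite Γ(P, V) Γ(F, V) := by
  haveI := e.isIso_app V hV
  have hσ : Function.Bijective (e.app V).hom := ConcreteCategory.bijective_of_isIso (e.app V)
  let σ : Γ(P, V) ≃+* Γ(X, e ⁻¹ᵁ V) := RingEquiv.ofBijective _ hσ
  haveI : RingHomSurjective σ.symm.toRingHom := ⟨σ.symm.surjective⟩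
  let a : Γ(F, V) ≃+ Γ(T, e ⁻¹ᵁ V) := AddEquiv.ofBijective (φ.app V).hom hb
  let g : Γ(T, e ⁻¹ᵁ V) →ₛₗ[σ.symm.toRingHom] Γ(F, V) :=
    { a.symm.toAddMonoidHom with
      map_smul' := fun r x => by
        apply hb.1
        change φ.app V (a.symm (r • x)) = φ.app V (σ.symm r • a.symm x)
        rw [Scheme.Modules.Hom.app_smul φ (σ.symm r) (a.symm x)]
        refine (a.apply_symm_apply (r • x)).trans ?_
        exact congrArg₂ (fun (r' : Γ(X, e ⁻¹ᵁ V)) (x' : Γ(T, e ⁻¹ᵁ V)) => r' • x')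
          (σ.apply_symm_apply r).symm (a.apply_symm_apply x).symm }
  exact Module.Finite.of_surjective g a.symm.surjective

theorem isCoh {Y P : Scheme.{u}} {𝒮 : RelProj.QCGrAlg Y}
    (hft : ∀ (U : Y.Opens) (_ : IsAffineOpen U), (𝒮.str.app (op U)).hom.FiniteType) {p : P ⟶ Y}
    {chart : ∀ (U : Y.Opens) (hU : IsAffineOpen U), (((p ⁻¹ᵁ U : P.Opens) : Scheme.{u}) ≅ Proj (𝒮.deg U hU))}
    {n : ℤ} {L : P.Modules}
    {lam : ∀ (U : Y.Opens) (hU : IsAffineOpen U),
      L ⟶ (Scheme.Modules.pushforward (RelProj.emb p chart U hU)).obj (GrTwist.twist (𝒮.deg U hU) n)}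
    (hL : RelProj.IsRelTwist 𝒮 p chart n L lam) : Coh.IsCoh L := by
  haveI hqc : L.IsQuasicoherent := RelTwist.isQCoh hL
  refine ⟨hqc, CohBasics.Affine.isFiniteType_of_finite_sections fun x => ?_⟩
  obtain ⟨U, hU, hxU, -⟩ := exists_isAffineOpen_mem_and_subset (U := ⊤) (x := p x) trivial
  obtain ⟨y, hy⟩ : x ∈ (RelProj.emb p chart U hU).opensRange := by
    rw [ProjQ.opensRange_emb]; exact hxU
  obtain ⟨d, hd, f, hf, hfy⟩ : ∃ d, 0 < d ∧ ∃ f ∈ 𝒮.deg U hU d, f ∉ ProjectiveSpectrum.asHomogeneousIdeal (𝒜 := 𝒮.deg U hU) y := by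
    by_contra h
    push Not at h
    exact y.not_irrelevant_le ((HomogeneousIdeal.irrelevant_le _).mpr h)
  let e := RelProj.emb p chart U hU
  let V := e ''ᵁ Proj.basicOpen (𝒮.deg U hU) f
  have hV : V ≤ e.opensRange := by rintro _ ⟨w, -, rfl⟩; exact ⟨w, rfl⟩
  refine ⟨V, (Proj.isAffineOpen_basicOpen _ f hf hd).image_of_isOpenImmersion e, ⟨y, hfy, hy⟩, ?_⟩
  let i := GrTilde.Basic.twistIsoTilde (𝒜 := 𝒮.deg U hU) n
  refine finite_of_bijective e (lam U hU ≫ (Scheme.Modules.pushforward e).map i.hom) V hV ?_ ?_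
  · have h1 : Function.Bijective ((lam U hU).app V) :=
      hL.bijective U hU V (hV.trans (ProjQ.opensRange_emb (p := p) (chart := chart) U hU).le)
    have h2 : Function.Bijective (i.hom.app (e ⁻¹ᵁ V)) :=
      ConcreteCategory.bijective_of_isIso (i.hom.app (e ⁻¹ᵁ V))
    exact h2.comp h1
  · have he : e ⁻¹ᵁ V = Proj.basicOpen (𝒮.deg U hU) f := Scheme.Hom.preimage_image_eq e _
    rw [he]
    exact GrTilde.Finite.exists_span_eq_top (DegPow.finiteType_degZero (𝒮.deg U hU) (𝒮.str.app (op U)).hom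
      (fun r => 𝒮.str_mem U hU r) (hft U hU)) n hd hf

end

end Groth.Agent.H81.RelProj.TwistCoh
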